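import Cfsg.Agent.Lib.POmegaBalPlus.Transport
import Cfsg.Agent.Lib.POmegaBal.FieldCore
import Cfsg.Agent.Helper57PlusLang

/-!
Field and graph-field automorphisms of `PΩ⁺` read in coordinates split as a hyperbolic part and a binary
part with coefficients fixed by the field automorphism.
-/

set_option autoImplicit false
set_option linter.unusedSectionVars false

namespace CfsgLib.POmegaBalPlus

open Matrix QuadraticMap CfsgLib.Orth CfsgLib.AutBalance Cfsg.Agent.GammaO57 CfsgLib.FieldPOmega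
  CfsgLib.POmegaBal Cfsg.Agent.PlusField57 Cfsg.Agent.OutPlus57 Cfsg.Agent.Levi57

variable {F : Type*} [Field F] [Fintype F] {k : ℕ}

/-- Coordinates with the last pair replaced by a binary form. -/
noncomputable def snocT (k : ℕ) (α β : F) (h : α ≠ β) : (MI k → F) ≃ₗ[F] (PI' (k + 1) → F) where
  toFun z := Sum.elim (Fin.snoc (fun i => z (.inl (.inl i))) (z (.inr 0) + α * z (.inr 1)))
    (Fin.snoc (fun i => z (.inl (.inr i))) (z (.inr 0) + β * z (.inr 1)))
  invFun v := Sum.elim (Sum.elim (fun i => v (.inl i.castSucc)) (fun i => v (.inr i.castSucc)))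
    ![(α * v (.inr (Fin.last k)) - β * v (.inl (Fin.last k))) / (α - β),
      (v (.inl (Fin.last k)) - v (.inr (Fin.last k))) / (α - β)]
  map_add' z w := by
    funext j
    rcases j with j | j <;> induction j using Fin.lastCases <;> simp <;> ring
  map_smul' t z := by
    funext j
    rcases j with j | j <;> induction j using Fin.lastCases <;> simp <;> ring
  left_inv z := by
    have h' : α - β ≠ 0 := sub_ne_zero.2 h
    funext j
    rcases j with (j | j) | j
    · simp
    · simp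
    · fin_cases j <;> simp <;> field_simp <;> ring
  right_inv v := by
    have h' : α - β ≠ 0 := sub_ne_zero.2 h
    funext j
    rcases j with j | j <;> induction j using Fin.lastCases <;> simp <;> field_simp <;> ring

theorem snocT_isometry (α β : F) (h : α ≠ β) (z : MI k → F) :
    plusQ (k + 1) F (snocT k α β h z) = minusQ k F (α + β) (α * β) z := by
  rw [plusQ_coe, minusQ_coe]
  simp [snocT, Cfsg.quadFormPlus, Cfsg.quadFormMinus, Fin.sum_univ_castSucc]
  ring

/-- A semisimilarity of the plus form with such coordinates. -/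
def HasModel (σ : F ≃+* F) (Y : ↥(semiGroup (plusQ (k + 1) F))) : Prop :=
  ∃ (a b : F) (_ : σ a = a) (_ : σ b = b) (T : (MI k → F) ≃ₗ[F] (PI' (k + 1) → F)),
    (∀ z, plusQ (k + 1) F (T z) = minusQ k F a b z) ∧ ∀ z, semi Y.1 (T z) = T (⇑σ ∘ z)

theorem hasModel_fEl (σ : F ≃+* F) : HasModel (k := k) σ (fEl (plusQ_fixes σ)) := by
  refine ⟨0 + 1, 0 * 1, by simp, by simp, snocT k 0 1 zero_ne_one, snocT_isometry 0 1 zero_ne_one, fun z => ?_⟩
  show (1 : Matrix (PI' (k + 1)) (PI' (k + 1)) F) *ᵥ (⇑σ ∘ snocT k 0 1 zero_ne_one z) = _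
  rw [one_mulVec]
  funext j
  rcases j with j | j <;> induction j using Fin.lastCases <;> simp [snocT]

theorem hasModel_rEl {σ : F ≃+* F} (h2 : σ * σ = 1) (hσ : σ ≠ 1) :
    HasModel (k := k) σ (rEl (pv (Fin.last k) (-1)) σ) := by
  obtain ⟨α, hα⟩ : ∃ α, σ α ≠ α := by
    by_contra h
    push Not at h
    exact hσ (RingEquiv.ext h)
  have hαα : σ (σ α) = α := DFunLike.congr_fun h2 α
  refine ⟨α + σ α, α * σ α, by rw [map_add, hαα, add_comm], by rw [map_mul, hαα, mul_comm],
    snocT k α (σ α) (Ne.symm hα), snocT_isometry α (σ α) (Ne.symm hα), fun z => ?_⟩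
  have hs : ∀ v : PI' (k + 1) → F, semi (rEl (pv (Fin.last k) (-1)) σ).1 v =
      app (refl (plusQ (k + 1) F) (pv (Fin.last k) (-1))) (⇑σ ∘ v) := by
    intro v
    rw [rEl, Subgroup.coe_mul, semi_mul]
    show semi (oIn (plusQ (k + 1) F) _).1 ((1 : Matrix (PI' (k + 1)) (PI' (k + 1)) F) *ᵥ (⇑σ ∘ v)) = _
    rw [one_mulVec]
    exact app_semi _ _
  rw [hs, app_refl, Q_pair, polar_pair]
  funext j
  rcases j with j | j <;> induction j using Fin.lastCases <;>
    simp [snocT, Pi.single_apply, hαα] <;> ring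

set_option maxHeartbeats 1600000 in
/-- What the coordinates give about the fixed points. -/
theorem HasModel.facts (hk : 3 ≤ k) {σ : F ≃+* F} {Y : ↥(semiGroup (plusQ (k + 1) F))} (M : HasModel σ Y)
    {p : ℕ} [Fact p.Prime] (h2p : p = 2 → (2 : F) ≠ 0) (hσ : σ ^ p = 1) :
    ((Odd p → p ∣ Nat.card (fixedPts (gAut (plusQ (k + 1) F) Y))) →
        Cfsg.pPrimeCore p (fixedPts (gAut (plusQ (k + 1) F) Y)) = ⊥) ∧
      (∃ z, z ≠ 1 ∧ gAut (plusQ (k + 1) F) Y z = z) ∧
      (p = 2 → 2 ∣ Nat.card (fixedPts (gAut (plusQ (k + 1) F) Y))) ∧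
      ∀ y, (∀ z ∈ fixedPts (gAut (plusQ (k + 1) F) Y), gAut (plusQ (k + 1) F) y z = z) →
        gAut (plusQ (k + 1) F) y ∈ Subgroup.zpowers (gAut (plusQ (k + 1) F) Y) := by
  obtain ⟨a, b, ha, hb, T, hT, hY⟩ := M
  have hQ : (minusQ k F a b).polarBilin.Nondegenerate := nondeg_of_iso T hT (plusQ_nondegenerate _)
  set ψ := isoP T hT
  have hψ : MulAut.congr ψ (gAut (minusQ k F a b) (fEl (minus_fixes ha hb))) = gAut (plusQ (k + 1) F) Y :=
    congr_gAut_of_semi T hT _ _ fun v => by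
      rw [hY]
      congr 1
      show _ = (1 : Matrix (MI k) (MI k) F) *ᵥ (⇑σ ∘ v)
      rw [one_mulVec]
  rw [← hψ]
  let e := fixCongr ψ (gAut (minusQ k F a b) (fEl (minus_fixes ha hb)))
  have hcard := Nat.card_congr e.toEquiv
  refine ⟨fun hd => ?_, ?_, fun hp2 => ?_, fun y hy => ?_⟩
  · exact CfsgLib.PCore.pPrimeCore_eq_bot_of_equiv e
      (core_fixed hk hQ ha hb h2p hσ fun ho => hcard ▸ hd ho)
  · obtain ⟨z, hz1, hz⟩ := exists_fixed_ne_one hk hQ ha hb
    exact ⟨ψ z, fun h => hz1 (ψ.injective (h.trans (map_one ψ).symm)), (e ⟨z, hz⟩).2⟩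
  · subst hp2
    rw [← hcard]
    exact two_dvd_fixed hk hQ ha hb (h2p rfl) hσ
  · obtain ⟨x, hx⟩ := exists_pullback T hT y
    have hxy := congr_gAut_of_semi T hT x y hx
    obtain ⟨j, hj⟩ := eq_zpow_of_fix hk hQ ha hb x fun u c hm hu hc hur hcr => by
      have h1 := fEl_fix hk hQ ha hb hu hc hur hcr
      refine ψ.injective ?_
      have h2 := hy _ (e ⟨_, h1⟩).2
      rw [← hxy] at h2
      change ψ (gAut (minusQ k F a b) x (ψ.symm (ψ (QuotientGroup.mk ⟨eich (minusQ k F a b) u c, hm⟩)))) =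
        ψ (QuotientGroup.mk ⟨eich (minusQ k F a b) u c, hm⟩) at h2
      rwa [MulEquiv.symm_apply_apply] at h2
    refine ⟨j, ?_⟩
    show MulAut.congr ψ _ ^ j = _
    rw [← map_zpow]
    exact (congrArg (MulAut.congr ψ) hj).trans hxy

end CfsgLib.POmegaBalPlus
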