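import Cfsg.Agent.Lib.POmegaBalPlus.Perm
import Cfsg.Agent.Lib.POmegaBalPlus.FieldModel
import Cfsg.Agent.Lib.POmegaBal.GraphMain
import Cfsg.Agent.Lib.POmegaSim.Inndiag
import Cfsg.Agent.Helper57PlusFieldAut

/-!
Automorphisms of prime order of `PΩ⁺` outside the inner-diagonal group and local balance.
-/

set_option autoImplicit false
set_option linter.unusedSectionVars false
set_option maxHeartbeats 1600000

namespace CfsgLib.POmegaBalPlus

open Matrix QuadraticMap CfsgLib.Orth CfsgLib.FieldPOmega CfsgLib.AutBalance Cfsg.Agent.GammaO57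
  Cfsg.Agent.PlusField57 Cfsg.Agent.OutPlus57 Cfsg.Agent.Triality57 CfsgLib.POmegaBal

variable {F : Type*} [Field F] [Fintype F] {m : ℕ}

theorem plus_conj_injective (hm : 4 ≤ m) : Function.Injective
    (MulAut.conj : Cfsg.POmega F ⇑(plusQ m F) →* MulAut (Cfsg.POmega F ⇑(plusQ m F))) :=
  conj_injective_of_hyp (plusQ_nondegenerate m) (card_PI hm) (plusData (by omega))

theorem surj_of_five (hm : 5 ≤ m) : Function.Surjective (gAut (plusQ m F)) :=
  gAut_surjective (by rw [plusQ_coe]; exact Cfsg.Agent.S2695.result hm)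

theorem range_of_comm (hm : 4 ≤ m) {y : ↥(semiGroup (plusQ m F))} (hy : psgn m F y = -1)
    {u : MulAut (Cfsg.POmega F ⇑(plusQ m F))} (h : u * gAut _ y = gAut _ y * u) :
    u ∈ (gAut (plusQ m F)).range := by
  rcases Nat.lt_or_ge m 5 with hm5 | hm5
  swap
  · exact surj_of_five hm5 u
  obtain rfl : m = 4 := by omega
  exact comm_mem_range hy h

/-- Fixing the rational root elements leaves no room for triality. -/
theorem range_of_fix (hm : 4 ≤ m) (σ : F ≃+* F) {u : MulAut (Cfsg.POmega F ⇑(plusQ m F))}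
    (h : ∀ z ∈ fixedPts (gAut (plusQ m F) (fEl (plusQ_fixes σ))), u z = z) :
    u ∈ (gAut (plusQ m F)).range := by
  rcases Nat.lt_or_ge m 5 with hm5 | hm5
  swap
  · exact surj_of_five hm5 u
  obtain rfl : m = 4 := by omega
  refine mem_range_of_points fun k => ⟨(S4 F).x (kq k), (S4 F).ne_zero _, fun n hn => ?_⟩
  set S := S4 F
  have hfix : u (S.rt (S.x (root n).1) (S.x (root n).2)) = S.rt (S.x (root n).1) (S.x (root n).2) := by
    refine h _ ?_
    show gAut (plusQ 4 F) (fEl (plusQ_fixes σ)) _ = _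
    rw [CfsgLib.AutPOmega.Frame.rt, gAut_mk]
    refine congrArg _ (Subtype.ext (ext_app fun v => ?_))
    obtain ⟨w, rfl⟩ : ∃ w, semi (fEl (plusQ_fixes (m := 4) σ)).1 w = v := ⟨_, semi_semi_inv _ v⟩
    have hs : ∀ z : I → F, semi (fEl (plusQ_fixes (m := 4) σ)).1 z = ⇑σ ∘ z := fun z => by
      show (1 : Matrix I I F) *ᵥ (⇑σ ∘ z) = _
      rw [one_mulVec]
    show app (conjO _ _ (eich (plusQ 4 F) (S.x (root n).1) (S.x (root n).2))) _ =
      app (eich (plusQ 4 F) (S.x (root n).1) (S.x (root n).2)) _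
    rw [semi_app_conj, hs, hs]
    have hr : eich (plusQ 4 F) (S.x (root n).1) (S.x (root n).2) = rootE (root n).1 (root n).2 (1 : F) := by
      rw [rootE, one_smul]; rfl
    rw [hr, app_rootE _ _ (root_ne n), app_rootE _ _ (root_ne n)]
    funext i
    simp [ev, Pi.single_apply, apply_ite σ]
  have hx : S.rt (S.x (root n).1) (S.x (root n).2) ∈ S.X (S.img u (line n)) := by
    rw [← hfix]
    exact (S.mem_img u (line_isLine n) _).2 (S.rt_mem_X (CfsgLib.AutPOmega.left_mem_ln _ _)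
      (CfsgLib.AutPOmega.right_mem_ln _ _))
  obtain ⟨v, b, hv, hM⟩ := S.img_line u (line_isLine n)
  rw [hM] at hx ⊢
  obtain ⟨t, ht⟩ := (S.mem_X_iff hv).1 hx
  have h2 := S.mem_of_rt (S.good_frame (root_ne n)) hv.left
    (by rw [polar_smul_right, hv.ortho, smul_zero]) ht.symm
  have hsub : CfsgLib.AutPOmega.ln v (t • b) ≤ CfsgLib.AutPOmega.ln v b := Submodule.span_le.2 (by
    rintro z (rfl | rfl)
    · exact CfsgLib.AutPOmega.left_mem_ln _ _
    · exact Submodule.smul_mem _ _ (CfsgLib.AutPOmega.right_mem_ln v b))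
  rcases (six_zero k n).1 hn with e | e <;> rw [← e]
  exacts [hsub h2.1, hsub h2.2]

/-- The criterion. -/
def Crit (p : ℕ) (A : Subgroup (MulAut (Cfsg.POmega F ⇑(plusQ m F))))
    (x : MulAut (Cfsg.POmega F ⇑(plusQ m F))) : Prop :=
  Cfsg.pPrimeCore p ↥(A ⊓ Subgroup.centralizer {x}) ≠ ⊥ ↔
    (Cfsg.IsFieldAutClassPOmega (⇑(plusQ m F)) x ∧ Nat.Coprime p (Nat.card (fixedPts x)))

variable {p : ℕ} [hp : Fact p.Prime]

theorem field_conj_iff (x β : MulAut (Cfsg.POmega F ⇑(plusQ m F))) :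
    Cfsg.IsFieldAutClassPOmega (⇑(plusQ m F)) (β * x * β⁻¹) ↔
      Cfsg.IsFieldAutClassPOmega (⇑(plusQ m F)) x := by
  constructor
  · rintro ⟨α, φ, σ, h1, h2, h3⟩
    exact ⟨α * β, φ, σ, h1, h2, by rw [← h3]; group⟩
  · rintro ⟨α, φ, σ, h1, h2, h3⟩
    exact ⟨α * β⁻¹, φ, σ, h1, h2, by rw [← h3]; group⟩

theorem crit_conj (A : Subgroup (MulAut (Cfsg.POmega F ⇑(plusQ m F))))
    (x β : MulAut (Cfsg.POmega F ⇑(plusQ m F))) (h : Crit p (A.map (MulAut.conj β).toMonoidHom) (β * x * β⁻¹)) :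
    Crit p A x := by
  have hc : MulAut.congr β x = β * x * β⁻¹ := MulEquiv.ext fun _ => rfl
  have hcard : Nat.card (fixedPts x) = Nat.card (fixedPts (β * x * β⁻¹)) := by
    rw [← hc]; exact Nat.card_congr (fixCongr β x).toEquiv
  rw [Crit, ne_eq, core_conj_iff, field_conj_iff, ← hcard] at h
  exact h

theorem graph_core (hm : 4 ≤ m) (A : Subgroup (MulAut (Cfsg.POmega F ⇑(plusQ m F))))
    (hinn : ∀ k, MulAut.conj k ∈ A) (h2 : (2 : F) ≠ 0) {y : ↥(semiGroup (plusQ m F))} (hy1 : y.1.right = 1)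
    (hy : psgn m F y = -1) (hx : gAut (plusQ m F) y ^ 2 = 1) :
    Cfsg.pPrimeCore 2 ↥(A ⊓ Subgroup.centralizer {gAut (plusQ m F) y}) = ⊥ := by
  obtain ⟨c, hc⟩ := y.2
  let w : ↥(CfsgLib.POmegaSim.Sim (plusQ m F)) := ⟨y.1.left, c, fun v => by
    have h := hc v
    rw [Cfsg.Agent.GammaO57.semi, hy1] at h
    exact h⟩
  have hw : CfsgLib.POmegaSim.act (plusQ m F) w = gAut (plusQ m F) y := by
    show gAut (plusQ m F) (CfsgLib.POmegaSim.emb (plusQ m F) w) = gAut (plusQ m F) y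
    exact congrArg _ (Subtype.ext (SemidirectProduct.ext rfl hy1.symm))
  have hs : (CfsgLib.POmegaSim.plusSim hm h2).sgn w = -1 := (Int.units_eq_one_or _).resolve_left fun h => by
    have hp := (CfsgLib.POmegaSim.plus_preserves hm h2 w).2 h
    rw [← plusQ_coe] at hp
    have hmem : SemidirectProduct.inl y.1.left ∈ semiGroup (plusQ m F) := by rw [inl_left hy1]; exact y.2
    have h1 := (preserves_iff _ hmem).1 hp
    rw [show (⟨_, hmem⟩ : ↥(semiGroup (plusQ m F))) = y from Subtype.ext (inl_left hy1), hy] at h1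
    exact absurd h1 (by decide)
  rw [← hw]
  exact graph_balance_of_range (CfsgLib.POmegaSim.plusSim hm h2) (show 4 ≤ m by omega) A hinn
    (fun u hu => range_of_comm hm hy (hw ▸ hu)) hs (by rw [map_mul, ← pow_two, hw, hx])

set_option maxHeartbeats 8000000 in
/-- An automorphism induced by a semisimilarity. -/
theorem range_crit (hm : 4 ≤ m) (h2p : p = 2 → (2 : F) ≠ 0)
    (A : Subgroup (MulAut (Cfsg.POmega F ⇑(plusQ m F)))) (hinn : ∀ k, MulAut.conj k ∈ A)
    {y : ↥(semiGroup (plusQ m F))} (hxp : gAut (plusQ m F) y ^ p = 1)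
    (hnot : gAut (plusQ m F) y ∉ indAut m F) : Crit p A (gAut (plusQ m F) y) := by
  have hinj := plus_conj_injective (F := F) hm
  obtain ⟨hr, c, hc⟩ := gAut_eq_one (plusQ_nondegenerate m) (card_PI hm) (plusData (by omega))
    (x := y ^ p) (by rw [map_pow, hxp])
  have hsgn := psgn_scalar hr hc
  rw [map_pow] at hsgn
  have hnf : psgn m F y = -1 → ¬ Cfsg.IsFieldAutClassPOmega (⇑(plusQ m F)) (gAut (plusQ m F) y) := fun hy hf => by
    obtain ⟨z, hz, e⟩ := mem_posSub_of_field hm hf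
    have h1 : psgn m F z = 1 := hz
    rw [(gAut_inj_iff hm e).2, hy] at h1
    exact absurd h1 (by decide)
  have hp2 : psgn m F y = -1 → p = 2 := fun hy => by
    rcases hp.out.eq_two_or_odd' with h | h
    · exact h
    · rw [hy, h.neg_one_pow] at hsgn
      exact absurd hsgn (by decide)
  by_cases hσ1 : y.1.right = 1
  · have hy : psgn m F y = -1 := (Int.units_eq_one_or _).resolve_left fun h =>
      hnot (mem_indAut.2 ⟨y, h, hσ1, rfl⟩)
    obtain rfl := hp2 hy
    exact iff_of_false (fun h => h (graph_core hm A hinn (h2p rfl) hσ1 hy hxp)) fun h => hnf hy h.1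
  set σ := y.1.right with hσdef
  have hσp : σ ^ p = 1 := by
    rw [SubmonoidClass.coe_pow] at hr
    exact (map_pow SemidirectProduct.rightHom y.1 p).symm.trans hr
  have hord : orderOf σ = p := orderOf_eq_prime hσp hσ1
  obtain ⟨k, rfl⟩ : ∃ k, m = k + 1 := ⟨m - 1, by omega⟩
  have hk : 3 ≤ k := by omega
  rcases Int.units_eq_one_or (psgn (k + 1) F y) with hy | hy
  · set Y := fEl (plusQ_fixes (m := k + 1) σ)
    have hYp : gAut (plusQ (k + 1) F) Y ^ orderOf σ = 1 := by
      rw [← gAut_fEl_order hm σ, pow_orderOf_eq_one]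
    obtain ⟨h, -, he⟩ := conj_coset hm (hord.symm ▸ hp.out) (X := y) (Y := Y) rfl rfl
      (by rw [hord]; exact hxp) hYp (by rw [hy, psgn_fEl])
    refine crit_conj A _ (gAut (plusQ (k + 1) F) h)⁻¹ ?_
    have e : (gAut (plusQ (k + 1) F) h)⁻¹ * gAut (plusQ (k + 1) F) y * (gAut (plusQ (k + 1) F) h)⁻¹⁻¹ =
        gAut (plusQ (k + 1) F) Y := by
      rw [← he, map_mul, map_mul, map_inv]; group
    rw [e]
    have hinn' := inn_map_conj A hinn (gAut (plusQ (k + 1) F) h)⁻¹
    obtain ⟨hcore, hne, -, hcent⟩ := (hasModel_fEl (k := k) σ).facts hk h2p hσp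
    have hfield : Cfsg.IsFieldAutClassPOmega (⇑(plusQ (k + 1) F)) (gAut (plusQ (k + 1) F) Y) := by
      refine ⟨1, _, σ, hσ1, ?_, by rw [one_mul, inv_one, mul_one]⟩
      intro s s' hh
      exact gAut_induced Y s s' (by
        rw [fEl_left, fEl_right, Units.val_one, inv_one, Units.val_one, one_mul, mul_one]
        exact hh)
    refine ⟨fun hnb => ⟨hfield, ?_⟩, fun hh => core_ne_bot hinj _ hinn' _ hne hh.2⟩
    by_contra hcop
    refine hnb (core_eq_bot hinj _ hinn' _ (hord ▸ hYp) (hcore fun _ => ?_) fun u _ hfix => ?_)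
    · exact hp.out.coprime_iff_not_dvd.not_left.mp hcop
    · obtain ⟨z, rfl⟩ := range_of_fix hm σ hfix
      exact hcent z hfix
  · obtain rfl := hp2 hy
    have hσ2 : σ * σ = 1 := by rw [← pow_two, hσp]
    set v := pv (F := F) (Fin.last k) (-1)
    have hv : plusQ (k + 1) F v ≠ 0 := pv_ne (neg_ne_zero.2 one_ne_zero)
    have hvfix : ∀ i, σ (v i) = v i := fun i => by
      rcases i with i | i <;> simp [v, Pi.single_apply, apply_ite σ]
    obtain ⟨h, -, he⟩ := conj_coset hm (hord.symm ▸ hp.out) (X := y) (Y := rEl v σ) rfl (rEl_right v σ)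
      (by rw [hord]; exact hxp) (rEl_sq_two hord hvfix) (by rw [hy, psgn_rEl hv])
    refine iff_of_false (fun hnb => hnb ?_) fun hh => hnf hy hh.1
    rw [← core_conj_iff A _ (gAut (plusQ (k + 1) F) h)⁻¹]
    have e : (gAut (plusQ (k + 1) F) h)⁻¹ * gAut (plusQ (k + 1) F) y * (gAut (plusQ (k + 1) F) h)⁻¹⁻¹ =
        gAut (plusQ (k + 1) F) (rEl v σ) := by
      rw [← he, map_mul, map_mul, map_inv]; group
    rw [e]
    obtain ⟨hcore, -, -, hcent⟩ := (hasModel_rEl (k := k) hσ2 hσ1).facts hk h2p hσp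
    refine core_eq_bot hinj _ (inn_map_conj A hinn (gAut (plusQ (k + 1) F) h)⁻¹) _
      (hord ▸ rEl_sq_two hord hvfix) (hcore fun ho => absurd ho (by decide)) fun u hu hfix => ?_
    obtain ⟨z, rfl⟩ := range_of_comm hm (psgn_rEl hv σ) hu
    exact hcent z hfix

/-- The criterion for an automorphism of prime order outside the inner-diagonal group. -/
theorem plus_crit {r : ℕ} [Fact r.Prime] [CharP F r] (hm : 4 ≤ m) (hpr : p ≠ r)
    (A : Subgroup (MulAut (Cfsg.POmega F ⇑(plusQ m F)))) (hinn : ∀ k, MulAut.conj k ∈ A)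
    {x : MulAut (Cfsg.POmega F ⇑(plusQ m F))} (hxp : x ^ p = 1) (hnot : x ∉ indAut m F) : Crit p A x := by
  have h2p : p = 2 → (2 : F) ≠ 0 := by
    rintro rfl h0
    have h1 : ((2 : ℕ) : F) = 0 := by exact_mod_cast h0
    rw [CharP.cast_eq_zero_iff F r] at h1
    exact hpr ((Nat.prime_dvd_prime_iff_eq (Fact.out) Nat.prime_two).mp h1).symm
  have red : ∀ β y, β * x * β⁻¹ = gAut (plusQ m F) y → Crit p A x := fun β y e => by
    refine crit_conj A x β (e ▸ range_crit hm h2p _ (inn_map_conj A hinn β) ?_ fun hmem => hnot ?_)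
    · rw [← e, conj_pow, hxp, mul_one, mul_inv_cancel]
    · have := (Cfsg.Agent.PlusFieldAut57.indAut_normal' (F := F) hm).conj_mem _ (e ▸ hmem) β⁻¹
      rwa [inv_inv, mul_assoc β, inv_mul_cancel_left, inv_mul_cancel_right] at this
  rcases Nat.lt_or_ge m 5 with hm5 | hm5
  swap
  · obtain ⟨y, hy⟩ := surj_of_five hm5 x
    exact red 1 y (by rw [one_mul, inv_one, mul_one, hy])
  obtain rfl : m = 4 := by omega
  rcases eight_cases (r := r) (plus_conj_injective hm) A hinn hpr hxp with ⟨β, y, e⟩ | ⟨hcore, hnf⟩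
  · exact red β y e
  · exact iff_of_false (fun h => h hcore) fun h => hnf h.1

end CfsgLib.POmegaBalPlus
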