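import Cfsg.Agent.Lib.POmegaBalPlus.TriCore
import Cfsg.Agent.Helper57AutEight
import Cfsg.Agent.Helper57OutEight

/-!
An automorphism commuting with a twist of triality and centralising its fixed points is a power of the twist.
-/

set_option autoImplicit false
set_option linter.unusedSectionVars false

namespace CfsgLib.TriNorm

open Matrix QuadraticMap CfsgLib.Orth CfsgLib.FieldPOmega Cfsg.Agent.GammaO57 Cfsg.Agent.Triality57
  Cfsg.Agent.OutPlus57 CfsgLib.AutBalance Cfsg.Agent.PlusField57 Cfsg.Agent.Levi57 Cfsg.Agent.PlusSplit57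

variable {F : Type*} [Field F] [Fintype F]

/-- Semisimilarities inducing the same automorphism move a vector along the same line. -/
theorem semi_prop {y z : ↥(semiGroup (plusQ 4 F))} (h : gAut (plusQ 4 F) y = gAut (plusQ 4 F) z) :
    ∃ c : Fˣ, ∀ v, semi y.1 v = (c : F) • semi z.1 v := by
  have h1 : gAut (plusQ 4 F) (y * z⁻¹) = 1 := by rw [map_mul, map_inv, h, mul_inv_cancel]
  obtain ⟨hr, c, hc⟩ := gAut_eq_one (plusQ_nondegenerate 4) (card_PI le_rfl) (plusData (by omega)) h1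
  refine ⟨c, fun v => ?_⟩
  have e : y.1 = (y * z⁻¹).1 * z.1 := by rw [Subgroup.coe_mul, InvMemClass.coe_inv, inv_mul_cancel_right]
  rw [e, semi_mul, Cfsg.Agent.GammaO57.semi, hr, hc]
  exact CfsgLib.FieldPOmega.scalar_mulVec c _

/-- A semisimilarity which is a scalar on vectors induces the identity. -/
theorem gAut_eq_one_of_scalar {y : ↥(semiGroup (plusQ 4 F))} {b : F} (hb : b ≠ 0)
    (h : ∀ v, semi y.1 v = b • v) : gAut (plusQ 4 F) y = 1 := by
  refine MulEquiv.ext fun k => ?_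
  induction k using QuotientGroup.induction_on with
  | _ s =>
    rw [gAut_mk, MulAut.one_apply]
    refine congrArg QuotientGroup.mk (Subtype.ext (ext_app fun v => ?_))
    have e := semi_app_conj y (s : O (plusQ 4 F)) v
    rw [h, h, map_smul] at e
    have := congrArg (b⁻¹ • ·) e
    simp only [smul_smul, inv_mul_cancel₀ hb, one_smul] at this
    exact this

theorem swap_solve {G : Type*} [Group G] {T a y p₁ p₂ R : G} (hc : y * (a * T) = a * T * y)
    (hP : T * p₁ = p₂ * T) (hi : T * R = R * (T * T)) (hy : y = p₁ * R) : T = (a * p₂ * R)⁻¹ * (y * a) := by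
  have e : a * T * y = a * p₂ * R * (T * T) := by
    rw [hy, mul_assoc a T, ← mul_assoc T p₁ R, hP, mul_assoc p₂ T R, hi]
    simp only [mul_assoc]
  rw [← hc, ← mul_assoc, ← mul_assoc (a * p₂ * R)] at e
  rw [mul_right_cancel e, inv_mul_cancel_left]

theorem companions_solve {G : Type*} [Group G] {T a b p₂ p₃ : G} (hc : b * (a * T) = a * T * b)
    (hP : T * b = p₂ * T) (hQ : T * p₂ = p₃ * T) (hat : T * a = a * T) (ha : a * a * a = 1) :
    p₂ = a⁻¹ * b * a ∧ p₃ = a * b * a⁻¹ := by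
  have h2 : p₂ = a⁻¹ * b * a := by
    rw [mul_assoc a T, hP, ← mul_assoc, ← mul_assoc] at hc
    rw [mul_assoc, mul_right_cancel hc, inv_mul_cancel_left]
  have e : T * p₂ = a⁻¹ * p₂ * a * T := by
    have hat' : T * a⁻¹ = a⁻¹ * T := (Commute.inv_right hat).eq
    conv_lhs => rw [h2, ← mul_assoc, ← mul_assoc, hat', mul_assoc a⁻¹ T b, hP, mul_assoc, mul_assoc, hat]
    simp only [mul_assoc]
  refine ⟨h2, ?_⟩
  rw [mul_right_cancel (hQ.symm.trans e), h2]
  have hinv : a⁻¹ * a⁻¹ = a := by rw [← _root_.mul_inv_rev, inv_eq_iff_mul_eq_one, ha]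
  calc a⁻¹ * (a⁻¹ * b * a) * a = (a⁻¹ * a⁻¹) * b * (a * a) := by simp only [mul_assoc]
    _ = a * b * a⁻¹ := by rw [hinv, inv_eq_of_mul_eq_one_left ha]

/-- A semisimilarity commuting with triality composed with the twist preserves the classes. -/
theorem Twist.psgn_of_comm (D : Twist F) {Y : ↥(semiGroup (plusQ 4 F))}
    (h : gAut (plusQ 4 F) Y * D.x = D.x * gAut (plusQ 4 F) Y) : psgn 4 F Y = 1 := by
  refine (Int.units_eq_one_or _).resolve_right fun hs => ?_
  set R := oIn (plusQ 4 F) (refl (plusQ 4 F) (pv (lastI (le_refl 4)) (-1))) with hRdef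
  have hR : psgn 4 F R = -1 := psgn_refl (by rw [Q_pair]; exact neg_ne_zero.2 one_ne_zero)
  have hRR : R * R = 1 := by rw [hRdef, ← map_mul, refl_mul_self, map_one]
  have hi : triality F * gAut (plusQ 4 F) R = gAut (plusQ 4 F) R * (triality F * triality F) :=
    triality_inverting (P := R) (c := -1) (σ := 1) fun x y z => by
      rw [Cfsg.Agent.OutEight57.semi_oIn, Cfsg.Agent.OutEight57.semi_oIn, Cfsg.Agent.OutEight57.semi_oIn,
        Cfsg.Agent.OutEight57.app_rA, Cfsg.Agent.OutEight57.app_rA, Cfsg.Agent.OutEight57.app_rA, tri_eq, tri_eq,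
        RingAut.one_apply]
      simp
      ring
  obtain ⟨P, hP, hP1⟩ := exists_trip (x := Y * R) (by rw [map_mul, hs, hR]; rfl)
  refine triality_not_mem (F := F) ⟨(D.φ * P.2.1 * R)⁻¹ * (Y * D.φ), ?_⟩
  have hY : gAut (plusQ 4 F) Y = gAut (plusQ 4 F) P.1 * gAut (plusQ 4 F) R := by
    rw [hP1, ← map_mul, mul_assoc, hRR, mul_one]
  rw [map_mul, map_inv, map_mul, map_mul, map_mul]
  exact (swap_solve h (intertwine hP) hi hY).symm

theorem app_uElM_add (σ : F ≃+* F) (s t : F) : uElM σ s * uElM σ t = uElM σ (s + t) := by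
  refine ext_app fun v => ?_
  rw [vec_eq v]
  simp only [uElM, app_mul, appE10, appE11, appE17, map_add]
  apply vec_ext <;> ring

theorem uElM_pow (σ : F ≃+* F) (t : F) (n : ℕ) : uElM σ t ^ n = uElM σ ((n : F) * t) := by
  induction n with
  | zero =>
    rw [pow_zero, Nat.cast_zero, zero_mul]
    exact (mul_eq_left.1 (by rw [app_uElM_add, add_zero] : uElM σ (0 : F) * uElM σ 0 = uElM σ 0)).symm
  | succ n ih => rw [pow_succ, ih, app_uElM_add]; push_cast; ring_nf

variable (D : Twist F)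

/-- The hypothesis on a semisimilarity. -/
structure Cent (Y : ↥(semiGroup (plusQ 4 F))) : Prop where
  comm : gAut (plusQ 4 F) Y * D.x = D.x * gAut (plusQ 4 F) Y
  fix : ∀ k ∈ fixedPts D.x, gAut (plusQ 4 F) Y k = k

variable {D} {Y : ↥(semiGroup (plusQ 4 F))}

/-- Such a semisimilarity commutes exactly with the unipotent invariant isometries. -/
theorem Cent.comm_exact (h : Cent D Y) {r : ℕ} [Fact r.Prime] [CharP F r] {f : O (plusQ 4 F)} (hf : f ∈ D.fix)
    {n : ℕ} (hn : f ^ r ^ n = 1) (v : I → F) : semi Y.1 (app f v) = app f (semi Y.1 v) := by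
  have h1 := h.fix _ (D.mk_fixed hf)
  change gAut (plusQ 4 F) Y (QuotientGroup.mk ⟨f, hf.1⟩) = QuotientGroup.mk ⟨f, hf.1⟩ at h1
  rw [gAut_mk] at h1
  set s : ↥(Cfsg.Omega F ⇑(plusQ 4 F)) := ⟨f, hf.1⟩
  obtain ⟨l, hl, hlv⟩ := sign_of_mk_eq_one (s := s⁻¹ * commAut _ (conjO _ Y) s) (by
    rw [QuotientGroup.mk_mul, QuotientGroup.mk_inv, h1, inv_mul_cancel])
  obtain ⟨z, hz⟩ : ∃ z : O (plusQ 4 F), z = f⁻¹ * conjO _ Y f := ⟨_, rfl⟩
  have hzv : ∀ v, app z v = l • v := by rw [hz]; exact hlv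
  have hcomm : Commute f z := ext_app fun v => by rw [app_mul, app_mul, hzv, hzv, map_smul]
  have e : conjO _ Y f = f * z := by rw [hz, mul_inv_cancel_left]
  have h2 : (conjO (plusQ 4 F) Y f) ^ r ^ n = 1 := by rw [← map_pow, hn, map_one]
  rw [e, hcomm.mul_pow, hn, one_mul] at h2
  have hpow : ∀ (k : ℕ) v, app (z ^ k) v = l ^ k • v := fun k v => by
    induction k with
    | zero => simp
    | succ k ih => rw [pow_succ, app_mul, hzv, map_smul, ih, smul_smul, pow_succ']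
  have h3 : l ^ r ^ n = 1 := by
    have := congrFun (hpow (r ^ n) (e0 F)) (.inl 0)
    rw [h2] at this
    simpa using this.symm
  have hl1 : l = 1 := by
    rcases mul_self_eq_one_iff.1 hl with e' | e'
    · exact e'
    · rcases (Fact.out : r.Prime).eq_two_or_odd' with e2 | ho
      · subst e2
        rw [e']
        exact CharTwo.neg_eq 1
      · rw [e', (ho.pow).neg_one_pow] at h3
        rw [e', h3]
  have := semi_app_conj Y f v
  rw [e, app_mul, hzv, hl1, one_smul] at this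
  exact this.symm

/-- The two companions of such a semisimilarity. -/
theorem Cent.companions (h : Cent D Y) : ∃ P ∈ tripSub F, P.1 = Y ∧
    (∃ c : Fˣ, ∀ v, semi P.2.1.1 v = (c : F) • semi D.φ⁻¹.1 (semi Y.1 (semi D.φ.1 v))) ∧
    (∃ c : Fˣ, ∀ v, semi P.2.2.1 v = (c : F) • semi D.φ.1 (semi Y.1 (semi D.φ⁻¹.1 v))) := by
  obtain ⟨P, hP, hP1⟩ := exists_trip (D.psgn_of_comm h.comm)
  subst hP1
  have ha : gAut (plusQ 4 F) D.φ * gAut (plusQ 4 F) D.φ * gAut (plusQ 4 F) D.φ = 1 := by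
    rw [← map_mul, ← map_mul, D.three, map_one]
  obtain ⟨s2, s3⟩ := companions_solve h.comm (intertwine hP) (intertwine (P := shift P) (shift_mem hP)) D.comm ha
  have e2 : gAut (plusQ 4 F) P.2.1 = gAut (plusQ 4 F) (D.φ⁻¹ * P.1 * D.φ) := by
    rw [map_mul, map_mul, map_inv]; exact s2
  have e3 : gAut (plusQ 4 F) P.2.2 = gAut (plusQ 4 F) (D.φ * P.1 * D.φ⁻¹) := by
    rw [map_mul, map_mul, map_inv]; exact s3
  obtain ⟨c2, hc2⟩ := semi_prop e2
  obtain ⟨c3, hc3⟩ := semi_prop e3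
  exact ⟨P, hP, rfl, ⟨c2, fun v => by rw [hc2, Subgroup.coe_mul, Subgroup.coe_mul, semi_mul, semi_mul]⟩,
    ⟨c3, fun v => by rw [hc3, Subgroup.coe_mul, Subgroup.coe_mul, semi_mul, semi_mul]⟩⟩

theorem semi_lay_zero (x : GLS I F) : semi x (0 : I → F) = 0 := semi_smul_zero x

theorem smul_eq_zero_vec {c : F} {v : I → F} (hc : c ≠ 0) {i : I} (h : (c • v) i = 0) : v i = 0 := by
  simpa [hc] using h

/-- Coordinate subspaces stable under the twist. -/
structure Good (D : Twist F) : Prop where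
  lay : ∀ v ∈ lay F 2, semi D.φ.1 v ∈ lay F 2
  W : ∀ v : I → F, (∀ i, v (.inr i) = 0) → ∀ i, semi D.φ.1 v (.inr i) = 0
  Wm : ∀ v : I → F, (∀ i, v (.inl i) = 0) → ∀ i, semi D.φ.1 v (.inl i) = 0
  W' : ∀ v : I → F, v (.inl 3) = 0 → v (.inr 0) = 0 → v (.inr 1) = 0 → v (.inr 2) = 0 →
    semi D.φ.1 v (.inl 3) = 0 ∧ semi D.φ.1 v (.inr 0) = 0 ∧ semi D.φ.1 v (.inr 1) = 0 ∧
      semi D.φ.1 v (.inr 2) = 0
  Wm' : ∀ v : I → F, v (.inr 3) = 0 → v (.inl 0) = 0 → v (.inl 1) = 0 → v (.inl 2) = 0 →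
    semi D.φ.1 v (.inr 3) = 0 ∧ semi D.φ.1 v (.inl 0) = 0 ∧ semi D.φ.1 v (.inl 1) = 0 ∧
      semi D.φ.1 v (.inl 2) = 0

theorem good_twI {σ : F ≃+* F} (h3 : σ * σ * σ = 1) : Good (twI σ h3) := by
  constructor <;> intro v <;> simp +contextual [mem_lay, semi_twI]

theorem good_twM : Good (twM F) := by
  refine ⟨fun v hv => lay2 hv, fun v h i => ?_, fun v h i => ?_, fun v a b c d => ?_, fun v a b c d => ?_⟩
  · rw [semi_twM]; fin_cases i <;> simp [h]
  · rw [semi_twM]; fin_cases i <;> simp [h]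
  · rw [semi_twM]; simp [a, b, c, d]
  · rw [semi_twM]; simp [a, b, c, d]
where
  lay2 {v : I → F} (hv : v ∈ lay F 2) : semi (twM F).φ.1 v ∈ lay F 2 := by
    intro i hi
    rw [semi_twM]
    rcases i with i | i <;> fin_cases i <;> simp [wt] at hi ⊢
    all_goals simp [hv (.inl 3) (by decide), hv (.inr 0) (by decide), hv (.inr 1) (by decide),
      hv (.inr 2) (by decide), hv (.inr 3) (by decide)]

theorem twist_inv_semi (D : Twist F) (v : I → F) : semi D.φ⁻¹.1 v = semi D.φ.1 (semi D.φ.1 v) := by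
  rw [D.inv_eq, Subgroup.coe_mul, semi_mul]

/-- Such a semisimilarity fixes the base line. -/
theorem Cent.fix_e0 (h : Cent D Y) (G : Good D) {σ : F ≃+* F} (S : Std D σ) {r : ℕ} [Fact r.Prime] [CharP F r] :
    ∃ κ : F, semi Y.1 (e0 F) = κ • e0 F := by
  obtain ⟨μ, hμ⟩ := Y.2
  set g := uEl σ (1 : F)
  have hg : ∀ v, semi Y.1 (app g v) = app g (semi Y.1 v) := fun v =>
    h.comm_exact (S.hu 1) (n := 3) (ext_app fun w => by
      rw [(uEl_mem_uni σ (1 : F)).pow_char, one_pow, one_smul, app_one]) v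
  have happ : ∀ w, app g w - w = Sum.elim
      ![-w (.inl 3) - w (.inr 0) - w (.inr 3), -w (.inr 2), w (.inr 1), w (.inr 0)] ![0, 0, 0, w (.inr 0)] := by
    intro w
    conv_lhs => rw [vec_eq w]
    simp only [g, uEl, app_mul, map_one, appE4, appE5, appE12]
    funext j
    rcases j with i | i <;> fin_cases i <;> simp <;> ring
  have hstab : ∀ v ∈ lay F 2, semi Y.1 v ∈ lay F 2 := by
    intro v hv
    obtain ⟨w, hw⟩ : ∃ w, app g w - w = v := by
      refine ⟨Sum.elim ![0, 0, 0, -v (.inl 0)] ![0, v (.inl 2), -v (.inl 1), 0], ?_⟩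
      rw [happ]
      funext j
      rcases j with i | i <;> fin_cases i <;> simp <;>
        simp [hv (.inl 3) le_rfl, hv (.inr 0) (by decide), hv (.inr 1) (by decide), hv (.inr 2) (by decide),
          hv (.inr 3) (by decide)]
    have e : semi Y.1 v = app g (semi Y.1 w) - semi Y.1 w := by
      rw [← hg, ← hw]
      refine eq_sub_of_add_eq ?_
      rw [← Cfsg.Agent.GammaO57.semi_add, sub_add_cancel]
    have hQ : plusQ 4 F (semi Y.1 v) = 0 := by
      rw [hμ, Q_eq, hv (.inl 3) le_rfl, hv (.inr 0) (by decide), hv (.inr 1) (by decide), hv (.inr 2) (by decide)]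
      simp
    rw [e, happ] at hQ ⊢
    rw [Q_eq] at hQ
    simp at hQ
    intro i hi
    rcases i with i | i <;> fin_cases i <;> simp [wt, hQ] at hi ⊢
  obtain ⟨P, hP, hP1, ⟨c2, hc2⟩, ⟨c3, hc3⟩⟩ := h.companions
  obtain ⟨k, hk⟩ := prod_equivariant hP
  have e := hk (Pi.single (.inl 2) 1) (Pi.single (.inl 1) 1)
  have he : prod (Pi.single (.inl 2) 1 : I → F) (Pi.single (.inl 1) 1) = e0 F := by
    rw [prod_eq]; funext j; rcases j with i | i <;> fin_cases i <;> simp
  rw [he, hc3, semi_fix_of_order D D.semi_e0, hP1] at e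
  have h2 := hstab _ (single_mem_lay (F := F) (Sum.inl 2))
  have h1 : semi P.2.1.1 (Pi.single (.inl 1) 1) ∈ lay F 2 := by
    rw [hc2, twist_inv_semi]
    exact Submodule.smul_mem _ _ (G.lay _ (G.lay _ (hstab _ (G.lay _ (single_mem_lay (F := F) (Sum.inl 1))))))
  set b := semi P.2.1.1 (Pi.single (.inl 1) 1)
  set a := semi Y.1 (Pi.single (.inl 2) 1)
  set w := semi D.φ.1 (semi Y.1 (e0 F))
  have hw : w ∈ lay F 1 := by
    intro i hi
    have e' := congrFun e i
    rw [prod_eq] at e'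
    refine (mul_eq_zero.1 (?_ : ((k : F) * (c3 : F)) * w i = 0)).resolve_left (mul_ne_zero k.ne_zero c3.ne_zero)
    simp only [Pi.smul_apply, smul_eq_mul] at e'
    rw [mul_assoc, ← e']
    rcases i with i | i <;> fin_cases i <;>
      simp [wt, h2 (.inl 3) le_rfl, h2 (.inr 0) (by decide), h2 (.inr 1) (by decide), h2 (.inr 2) (by decide),
        h2 (.inr 3) (by decide), h1 (.inl 3) le_rfl, h1 (.inr 0) (by decide), h1 (.inr 1) (by decide),
        h1 (.inr 2) (by decide), h1 (.inr 3) (by decide)] at hi ⊢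
  obtain ⟨κ, hκ⟩ : ∃ κ, w = κ • e0 F := ⟨_, lay_one hw⟩
  refine ⟨D.φ⁻¹.1.right κ, ?_⟩
  calc semi Y.1 (e0 F) = semi D.φ⁻¹.1 w := (semi_inv_semi D.φ.1 _).symm
    _ = _ := by rw [hκ, Cfsg.Agent.GammaO57.semi_smul, semi_fix_of_order D D.semi_e0]

theorem Cent.fix_f0 (h : Cent D Y) (G : Good D) {σ : F ≃+* F} (S : Std D σ) {r : ℕ} [Fact r.Prime] [CharP F r] :
    ∃ κ : F, semi Y.1 (f0 F) = κ • f0 F := by
  obtain ⟨κ, hκ⟩ := h.fix_e0 G S (r := r)
  have hu : ∀ v, semi Y.1 (app (uEl σ (1 : F)) v) = app (uEl σ (1 : F)) (semi Y.1 v) := fun v =>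
    h.comm_exact (S.hu 1) (n := 3) (ext_app fun w => by
      rw [(uEl_mem_uni σ (1 : F)).pow_char, one_pow, one_smul, app_one]) v
  have hm : ∀ v, semi Y.1 (app (uElM σ (1 : F)) v) = app (uElM σ (1 : F)) (semi Y.1 v) := fun v =>
    h.comm_exact (S.hum 1) (n := 1) (by
      rw [uElM_pow, pow_one, CharP.cast_eq_zero, zero_mul]
      exact mul_eq_left.1 (by rw [app_uElM_add, add_zero] : uElM σ (0 : F) * uElM σ 0 = uElM σ 0)) v
  have he : app (uEl σ (1 : F)) (app (uElM σ (1 : F)) (e0 F)) = -f0 F + app (uEl σ (1:F)) 0 := by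
    rw [map_zero, add_zero, e0_vec, f0_vec]
    simp only [uEl, uElM, app_mul, map_one, appE4, appE5, appE12, appE10, appE11, appE17]
    funext j
    rcases j with i | i <;> fin_cases i <;> simp
  rw [map_zero, add_zero] at he
  refine ⟨κ, ?_⟩
  have e := hu (app (uElM σ (1 : F)) (e0 F))
  rw [hm, hκ, map_smul, map_smul, he, ← neg_one_smul F (f0 F), Cfsg.Agent.GammaO57.semi_smul, map_neg, map_one,
    neg_one_smul, smul_comm, neg_one_smul] at e
  exact neg_inj.1 e

theorem semi_polar {v w : I → F} {μ : Fˣ}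
    (hμ : ∀ v, plusQ 4 F (semi Y.1 v) = (μ : F) * Y.1.right (plusQ 4 F v)) :
    polar (plusQ 4 F) (semi Y.1 v) (semi Y.1 w) = (μ : F) * Y.1.right (polar (plusQ 4 F) v w) := by
  rw [QuadraticMap.polar, ← Cfsg.Agent.GammaO57.semi_add, hμ, hμ, hμ, QuadraticMap.polar, map_sub, map_sub]
  ring

/-- The coordinate subspaces preserved by a semisimilarity fixing the two base lines. -/
theorem Cent.preserved (h : Cent D Y) (G : Good D) {a b : F} (ha : semi Y.1 (e0 F) = a • e0 F)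
    (hb : semi Y.1 (f0 F) = b • f0 F) :
    (∀ v : I → F, (∀ i, v (.inr i) = 0) → ∀ i, semi Y.1 v (.inr i) = 0) ∧
    (∀ v : I → F, (∀ i, v (.inl i) = 0) → ∀ i, semi Y.1 v (.inl i) = 0) ∧
    (∀ v : I → F, v (.inl 3) = 0 → v (.inr 0) = 0 → v (.inr 1) = 0 → v (.inr 2) = 0 →
      semi Y.1 v (.inl 3) = 0 ∧ semi Y.1 v (.inr 0) = 0 ∧ semi Y.1 v (.inr 1) = 0 ∧ semi Y.1 v (.inr 2) = 0) ∧
    (∀ v : I → F, v (.inr 3) = 0 → v (.inl 0) = 0 → v (.inl 1) = 0 → v (.inl 2) = 0 →
      semi Y.1 v (.inr 3) = 0 ∧ semi Y.1 v (.inl 0) = 0 ∧ semi Y.1 v (.inl 1) = 0 ∧ semi Y.1 v (.inl 2) = 0) := by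
  obtain ⟨P, hP, hP1, ⟨c2, hc2⟩, ⟨c3, hc3⟩⟩ := h.companions
  obtain ⟨k, hk⟩ := prod_equivariant hP
  have hk0 : (k : F) * (c3 : F) ≠ 0 := mul_ne_zero k.ne_zero c3.ne_zero
  have hfix : ∀ {u : I → F} {κ : F}, semi D.φ.1 u = u → semi Y.1 u = κ • u →
      semi P.1.1 u = κ • u ∧ ∃ κ', semi P.2.1.1 u = κ' • u := fun {u κ} hu hy => by
    refine ⟨hP1 ▸ hy, (c2 : F) * D.φ⁻¹.1.right κ, ?_⟩
    rw [hc2, hu, hy, Cfsg.Agent.GammaO57.semi_smul, semi_fix_of_order D hu, smul_smul]
  obtain ⟨he1, κ, he2⟩ := hfix D.semi_e0 ha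
  obtain ⟨hf1, κ', hf2⟩ := hfix D.semi_f0 hb
  -- undo the twist on `P.2.2`
  have back : ∀ (v z : I → F), prod (semi P.1.1 v) (semi P.2.1.1 z) =
      ((k : F) * (c3 : F)) • semi D.φ.1 (semi Y.1 (semi D.φ⁻¹.1 (prod v z))) := fun v z => by
    rw [hk, hc3, smul_smul]
  have coord : ∀ {u : I → F} {i : I}, (((k : F) * (c3 : F)) • u) i = 0 → u i = 0 := fun h' =>
    smul_eq_zero_vec hk0 h'
  have undo : ∀ v, semi Y.1 v = semi D.φ⁻¹.1 (semi D.φ.1 (semi Y.1 (semi D.φ⁻¹.1 (semi D.φ.1 v)))) := fun v => by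
    rw [show semi D.φ⁻¹.1 (semi D.φ.1 v) = v from semi_inv_semi D.φ.1 v]
    exact (semi_inv_semi D.φ.1 _).symm
  refine ⟨fun v hv => ?_, fun v hv => ?_, fun v h3 h0 h1 h2 => ?_, fun v h3 h0 h1 h2 => ?_⟩
  · obtain ⟨x, hx⟩ := mem_W (G.W v hv)
    have e := back x (e0 F)
    rw [he2, prod_smul_right, prod_e0_right, hx] at e
    rw [undo v, twist_inv_semi]
    exact G.W _ (G.W _ fun i => coord (by rw [← e]; fin_cases i <;> simp))
  · obtain ⟨x, hx⟩ := mem_Wm (G.Wm v hv)
    have e := back x (f0 F)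
    rw [hf2, prod_smul_right, prod_f0_right, hx] at e
    rw [undo v, twist_inv_semi]
    exact G.Wm _ (G.Wm _ fun i => coord (by rw [← e]; fin_cases i <;> simp))
  · obtain ⟨g3, g0, g1, g2⟩ := G.W' v h3 h0 h1 h2
    obtain ⟨x, hx⟩ := mem_W' g3 g0 g1 g2
    have e := back (e0 F) x
    rw [he1, prod_smul_left, prod_e0_left, hx] at e
    rw [undo v, twist_inv_semi]
    obtain ⟨q3, q0, q1, q2⟩ := G.W' _ (coord (i := .inl 3) (by rw [← e]; simp))
      (coord (i := .inr 0) (by rw [← e]; simp)) (coord (i := .inr 1) (by rw [← e]; simp))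
      (coord (i := .inr 2) (by rw [← e]; simp))
    exact G.W' _ q3 q0 q1 q2
  · obtain ⟨g3, g0, g1, g2⟩ := G.Wm' v h3 h0 h1 h2
    obtain ⟨x, hx⟩ := mem_Wm' g3 g0 g1 g2
    have e := back (f0 F) x
    rw [hf1, prod_smul_left, prod_f0_left, hx] at e
    rw [undo v, twist_inv_semi]
    obtain ⟨q3, q0, q1, q2⟩ := G.Wm' _ (coord (i := .inr 3) (by rw [← e]; simp))
      (coord (i := .inl 0) (by rw [← e]; simp)) (coord (i := .inl 1) (by rw [← e]; simp))
      (coord (i := .inl 2) (by rw [← e]; simp))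
    exact G.Wm' _ q3 q0 q1 q2

/-- Such a semisimilarity is a scalar. -/
theorem Cent.eq_one (h : Cent D Y) (G : Good D) {σ : F ≃+* F} (S : Std D σ) {r : ℕ} [Fact r.Prime] [CharP F r] :
    gAut (plusQ 4 F) Y = 1 := by
  obtain ⟨μ, hμ⟩ := Y.2
  obtain ⟨a, ha⟩ := h.fix_e0 G S (r := r)
  obtain ⟨b, hb⟩ := h.fix_f0 G S (r := r)
  obtain ⟨hW, hWm, hW', hWm'⟩ := h.preserved G ha hb
  have pol : ∀ v w, polar (plusQ 4 F) (semi Y.1 v) (semi Y.1 w) = (μ : F) * Y.1.right (polar (plusQ 4 F) v w) :=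
    fun v w => semi_polar hμ
  have hab : a * b = (μ : F) := by
    have e := pol (e0 F) (f0 F)
    rw [ha, hb, polar_plusQ, polar_plusQ] at e
    simpa [Fin.sum_univ_four] using e
  have ha0 : a ≠ 0 := fun e => μ.ne_zero (by rw [← hab, e, zero_mul])
  have hb0 : b ≠ 0 := fun e => μ.ne_zero (by rw [← hab, e, mul_zero])
  set E := semi Y.1 (Pi.single (.inl 3) 1) with hE
  set G3 := semi Y.1 (Pi.single (.inr 3) 1) with hG3
  have E1 := hW (Pi.single (.inl 3) 1) (fun i => by simp)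
  obtain ⟨-, E2, E3, E4⟩ := hWm' (Pi.single (.inl 3) 1) (by simp) (by simp) (by simp) (by simp)
  have K1 := hWm (Pi.single (.inr 3) 1) (fun i => by simp)
  obtain ⟨-, K2, K3, K4⟩ := hW' (Pi.single (.inr 3) 1) (by simp) (by simp) (by simp) (by simp)
  rw [← hE] at E1 E2 E3 E4
  rw [← hG3] at K1 K2 K3 K4
  have hlin : ∀ t : F, semi Y.1 (app (uEl σ t) (f0 F)) = b • app (uEl σ t) (f0 F) := fun t => by
    rw [h.comm_exact (S.hu t) (n := 3) (r := r) (ext_app fun w => by
      rw [(uEl_mem_uni σ t).pow_char, one_pow, one_smul, app_one]) (f0 F), hb, map_smul]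
  have hcoord : ∀ t : F, Y.1.right (t * σ (σ t)) * a = b * (t * σ (σ t)) ∧ Y.1.right t * E (.inl 3) = b * t ∧
      Y.1.right (σ (σ t)) * G3 (.inr 3) = b * σ (σ t) := fun t => by
    have e := hlin t
    have hv : (app (uEl σ t) (f0 F) : I → F) = (-(t * σ (σ t))) • e0 F + f0 F + t • Pi.single (.inl 3) 1 +
        σ (σ t) • Pi.single (.inr 3) 1 := by
      rw [app_uEl_f0]
      funext j
      rcases j with i | i <;> fin_cases i <;> simp
    rw [hv] at e
    simp only [Cfsg.Agent.GammaO57.semi_add, Cfsg.Agent.GammaO57.semi_smul, ha, hb] at e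
    have c0 := congrFun e (.inl 0)
    have c3 := congrFun e (.inl 3)
    have d3 := congrFun e (.inr 3)
    simp [← hE, ← hG3, E1 3, K1 0, K1 3, E2] at c0 c3 d3
    exact ⟨by rw [map_mul]; linear_combination c0, c3, d3⟩
  have hab' : a = b := by simpa using (hcoord 1).1
  subst hab'
  have hE3 : E (.inl 3) = a := by simpa using (hcoord 1).2.1
  have hG33 : G3 (.inr 3) = a := by simpa using (hcoord 1).2.2
  have hτ : ∀ t, Y.1.right t = t := fun t => by
    have := (hcoord t).2.1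
    rw [hE3, mul_comm] at this
    exact mul_left_cancel₀ ha0 this
  have hEv : semi Y.1 (Pi.single (.inl 3) 1) = a • Pi.single (.inl 3) 1 := by
    rw [← hE]
    funext j
    rcases j with i | i <;> fin_cases i <;> simp [E1, E2, E3, E4, hE3]
  have hGv : semi Y.1 (Pi.single (.inr 3) 1) = a • Pi.single (.inr 3) 1 := by
    rw [← hG3]
    funext j
    rcases j with i | i <;> fin_cases i <;> simp [K1, K2, K3, K4, hG33]
  -- the first layer
  have hfj : ∀ j : Fin 4, ∀ g ∈ D.rad, app g (f0 F) (.inr j) ≠ 0 →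
      (∀ i : Fin 4, i ≠ j → i = 1 ∨ i = 2 → app g (f0 F) (.inr i) = 0) → (j = 1 ∨ j = 2) →
      semi Y.1 (Pi.single (.inr j) 1) = a • Pi.single (.inr j) 1 := by
    intro j g hg hne hz hj
    have hgc : ∀ v, semi Y.1 (app g v) = app g (semi Y.1 v) :=
      h.comm_exact (r := r) hg.1 (n := 3) (ext_app fun w => by
        rw [(mem_uni.1 hg.2).pow_char, one_pow, one_smul, app_one])
    set w := app g (f0 F) with hw
    have hfw : semi Y.1 w = a • w := by rw [hw, hgc, hb, map_smul]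
    have hsum : w = w (.inl 0) • e0 F + w (.inl 1) • Pi.single (.inl 1) 1 + w (.inl 2) • Pi.single (.inl 2) 1 +
        w (.inl 3) • Pi.single (.inl 3) 1 + w (.inr 0) • f0 F + w (.inr j) • Pi.single (.inr j) 1 +
        w (.inr 3) • Pi.single (.inr 3) 1 := by
      funext i
      rcases i with i | i <;> fin_cases i <;> rcases hj with rfl | rfl <;> simp
      all_goals first
        | exact hz 2 (by decide) (Or.inr rfl)
        | exact hz 1 (by decide) (Or.inl rfl)
    rw [hsum] at hfw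
    simp only [Cfsg.Agent.GammaO57.semi_add, Cfsg.Agent.GammaO57.semi_smul, ha, hb, hτ, hEv, hGv] at hfw
    have m1 := hW (Pi.single (.inl 1) 1) (fun i => by simp)
    have m2 := hW (Pi.single (.inl 2) 1) (fun i => by simp)
    have n1 := hWm (Pi.single (.inr j) 1) (fun i => by simp)
    funext i
    rcases i with i | i
    · rw [n1 i]; simp
    · have e := congrFun hfw (.inr i)
      simp [m1 i, m2 i] at e
      refine mul_left_cancel₀ hne ?_
      rcases hj with rfl | rfl <;> fin_cases i <;>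
        simp [-mul_eq_mul_left_iff, -mul_eq_zero, -mul_eq_mul_right_iff] at e ⊢ <;>
        linear_combination e
  obtain ⟨g₁, hg₁, hk₁, hz₁⟩ := S.hg₁
  obtain ⟨g₂, hg₂, hk₂, hz₂⟩ := S.hg₂
  have hf1 := hfj 1 g₁ hg₁ hk₁ (fun i hi h12 => by rcases h12 with rfl | rfl; exacts [absurd rfl hi, hz₁])
    (Or.inl rfl)
  have hf2 := hfj 2 g₂ hg₂ hk₂ (fun i hi h12 => by rcases h12 with rfl | rfl; exacts [hz₂, absurd rfl hi])
    (Or.inr rfl)
  have hμa : (μ : F) = a * a := hab.symm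
  have hej : ∀ j : Fin 4, (j = 1 ∨ j = 2) → semi Y.1 (Pi.single (.inl j) 1) = a • Pi.single (.inl j) 1 := by
    intro j hj
    set v : I → F := Pi.single (.inl j) 1 with hv
    have hr : ∀ i, semi Y.1 v (.inr i) = 0 := hW v (fun i => by simp [hv])
    have test : ∀ u : I → F, semi Y.1 u = a • u →
        polar (plusQ 4 F) (semi Y.1 v) u = a * polar (plusQ 4 F) v u := fun u hu => by
      have e := pol v u
      rw [hu, polar_smul_right, hτ, hμa, smul_eq_mul] at e
      exact mul_left_cancel₀ ha0 (by linear_combination e)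
    have t0 := test _ hb; have t1 := test _ hf1; have t2 := test _ hf2; have t3 := test _ hGv
    simp [polar_plusQ, Fin.sum_univ_four] at t0 t1 t2 t3
    funext i
    rcases i with i | i
    · fin_cases i
      · simpa [hv] using t0
      · simpa [hv] using t1
      · simpa [hv] using t2
      · simpa [hv] using t3
    · rw [hr i]; simp [hv]
  refine gAut_eq_one_of_scalar ha0 fun v => ?_
  have he : v = v (.inl 0) • e0 F + v (.inl 1) • Pi.single (.inl 1) 1 + v (.inl 2) • Pi.single (.inl 2) 1 +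
      v (.inl 3) • Pi.single (.inl 3) 1 + v (.inr 0) • f0 F + v (.inr 1) • Pi.single (.inr 1) 1 +
      v (.inr 2) • Pi.single (.inr 2) 1 + v (.inr 3) • Pi.single (.inr 3) 1 := by
    funext i
    rcases i with i | i <;> fin_cases i <;> simp
  rw [he]
  simp only [Cfsg.Agent.GammaO57.semi_add, Cfsg.Agent.GammaO57.semi_smul, ha, hb, hτ, hEv, hGv, hf1, hf2,
    hej 1 (Or.inl rfl), hej 2 (Or.inr rfl)]
  module

theorem split_pow {G : Type*} [Group G] {g a T : G} (h : Commute a T) (j : ℕ) :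
    g * T ^ j = g * (a ^ j)⁻¹ * (a * T) ^ j := by
  rw [h.mul_pow]; group

theorem comm_split {G : Type*} [Group G] {g x : G} {j : ℕ} (h : g * x ^ j * x = x * (g * x ^ j)) :
    g * x = x * g := by
  rw [mul_assoc, ← pow_succ, pow_succ', ← mul_assoc, ← mul_assoc] at h
  exact mul_right_cancel h

set_option maxHeartbeats 1600000 in
/-- An automorphism commuting with the twist and centralising its fixed points is one of its powers. -/
theorem Twist.cent_zpowers (D : Twist F) (G : Good D) {σ : F ≃+* F} (S : Std D σ) {r : ℕ} [Fact r.Prime]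
    [CharP F r] (u : MulAut (PG4 F)) (hu : u * D.x = D.x * u) (hfix : ∀ k ∈ fixedPts D.x, u k = k) :
    u ∈ Subgroup.zpowers D.x := by
  obtain ⟨Y, j, rfl⟩ := exists_gAut_mul_pow u
  set j' := (j : ℕ)
  have hxj : gAut (plusQ 4 F) Y * triality F ^ j' =
      gAut (plusQ 4 F) (Y * (D.φ ^ j')⁻¹) * D.x ^ j' := by
    rw [map_mul, map_inv, map_pow]
    exact split_pow (show Commute (gAut (plusQ 4 F) D.φ) (triality F) from D.comm.symm) j'
  set Z := Y * (D.φ ^ j')⁻¹
  rw [hxj] at hu hfix ⊢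
  have hc : Cent D Z := by
    have hxfix : ∀ (n : ℕ), ∀ k ∈ fixedPts D.x, (D.x ^ n) k = k := fun n k hk => by
      induction n with
      | zero => simp
      | succ n ih => rw [pow_succ, MulAut.mul_apply, show D.x k = k from hk, ih]
    refine ⟨?_, fun k hk => ?_⟩
    · exact comm_split hu
    · have := hfix k hk
      rwa [MulAut.mul_apply, hxfix j' k hk] at this
  rw [hc.eq_one G S (r := r), one_mul]
  exact Subgroup.npow_mem_zpowers _ _

end CfsgLib.TriNorm
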