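import Cfsg.Agent.Lib.POmegaBalPlus.TriCore
import Cfsg.Agent.Lib.FewOrders.Structure

/-!
The invariant isometries of a twist of triality have no normal subgroup of order prime to three.
-/

set_option autoImplicit false
set_option linter.unusedSectionVars false

namespace CfsgLib.TriNorm

open Matrix QuadraticMap CfsgLib.Orth CfsgLib.FieldPOmega Cfsg.Agent.GammaO57 Cfsg.Agent.Triality57
  Cfsg.Agent.OutPlus57 CfsgLib.AutBalance

/-- A non-cyclic group of prime exponent does not act without fixed points. -/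
theorem fpf_bot {G : Type*} [Group G] [Finite G] {M E : Subgroup G} {r : ℕ} [hr : Fact r.Prime]
    (hnorm : ∀ e ∈ E, ∀ m ∈ M, e * m * e⁻¹ ∈ M) (hexp : ∀ e ∈ E, e ^ r = 1) (hcard : r < Nat.card E)
    (h : ∀ e ∈ E, e ≠ 1 → ∀ m ∈ M, Commute e m → m = 1) : M = ⊥ := by
  by_contra hM
  set H := Subgroup.normalizer (M : Set G) with hH
  have hE : E ≤ H := fun e he => Subgroup.mem_normalizer_iff.2 fun m => ⟨hnorm e he m, fun hm => by
    simpa [mul_assoc] using hnorm _ (inv_mem he) _ hm⟩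
  have hMH : M ≤ H := Subgroup.le_normalizer
  have : (M.subgroupOf H).Normal := Subgroup.normal_subgroupOf_iff_le_normalizer hMH |>.2 le_rfl
  have h1 : M.subgroupOf H ≠ ⊥ := fun e => hM (by
    rw [Subgroup.subgroupOf_eq_bot] at e
    exact e le_rfl |> fun _ => le_bot_iff.1 (e.le_bot.trans' (le_inf le_rfl hMH)))
  have hc : Nat.card (E.subgroupOf H) = Nat.card E := Nat.card_congr (Subgroup.subgroupOfEquivOfLe hE).toEquiv
  have h2 : E.subgroupOf H ≠ ⊥ := fun e => by
    rw [e, Subgroup.card_bot] at hc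
    have := hr.out.two_le
    omega
  have := CfsgLib.FewOrders.card_eq_prime_of_conj_fpf (M.subgroupOf H) (E.subgroupOf H) h1 hr.out h2
    (fun x hx => Subtype.ext (hexp _ hx))
    fun x hx hx1 v hv hcomm => Subtype.ext (h _ hx (fun e => hx1 (Subtype.ext e)) _ hv (congrArg Subtype.val hcomm))
  omega

variable {F : Type*} [Field F] [Fintype F]

/-! ### The abelian unipotent subgroups -/

/-- An element of the second and third layers. -/
noncomputable def uz (σ : F ≃+* F) (t p q : F) : O (plusQ 4 F) := uEl σ t * zEl p q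

theorem uz_mul (σ : F ≃+* F) (t p q t' p' q' : F) :
    uz σ t p q * uz σ t' p' q' = uz σ (t + t') (p + p') (q + q') := by
  rw [uz, uz, uz, mul_assoc, ← mul_assoc (zEl p q), zEl_uEl, mul_assoc, zEl_add, ← mul_assoc, uEl_add]

theorem uz_zero (σ : F ≃+* F) : uz σ (0 : F) 0 0 = 1 :=
  mul_eq_left.1 (by rw [uz_mul, add_zero] : uz σ (0 : F) 0 0 * uz σ 0 0 0 = uz σ 0 0 0)

theorem uz_inv (σ : F ≃+* F) (t p q : F) : (uz σ t p q)⁻¹ = uz σ (-t) (-p) (-q) :=
  inv_eq_of_mul_eq_one_right (by rw [uz_mul, add_neg_cancel, add_neg_cancel, add_neg_cancel, uz_zero])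

theorem uz_pow (σ : F ≃+* F) (t p q : F) (n : ℕ) : uz σ t p q ^ n = uz σ (n * t) (n * p) (n * q) := by
  induction n with
  | zero => simp [uz_zero]
  | succ n ih => rw [pow_succ, ih, uz_mul]; push_cast; ring_nf

theorem app_uz (σ : F ≃+* F) (t p q a₀ a₁ a₂ a₃ b₀ b₁ b₂ b₃ : F) :
    app (uz σ t p q) (Sum.elim ![a₀, a₁, a₂, a₃] ![b₀, b₁, b₂, b₃]) =
      Sum.elim ![a₀ - σ (σ t) * a₃ - t * σ (σ t) * b₀ - t * b₃ - p * b₁ - q * b₂, a₁ - σ t * b₂ + p * b₀,
        a₂ + σ t * b₁ + q * b₀, a₃ + t * b₀] ![b₀, b₁, b₂, b₃ + σ (σ t) * b₀] := by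
  simp only [uz, uEl, zEl, app_mul, appE0, appE2, appE4, appE5, appE12]
  apply vec_ext <;> ring

theorem app_uz_f0 (σ : F ≃+* F) (t p q : F) : app (uz σ t p q) (f0 F) =
    Sum.elim ![-(t * σ (σ t)), p, q, t] ![1, 0, 0, σ (σ t)] := by
  rw [f0_vec, app_uz]
  apply vec_ext <;> ring

theorem uz_inj (σ : F ≃+* F) {t p q t' p' q' : F} (h : uz σ t p q = uz σ t' p' q') :
    t = t' ∧ p = p' ∧ q = q' := by
  have e := congrArg (fun g => app g (f0 F)) h
  simp only [app_uz_f0] at e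
  exact ⟨by simpa using congrFun e (.inl 3), by simpa using congrFun e (.inl 1),
    by simpa using congrFun e (.inl 2)⟩

/-- A subgroup of second and third layer elements with restricted parameters. -/
def uzSub (σ : F ≃+* F) (S : AddSubgroup (F × F)) : Subgroup (O (plusQ 4 F)) where
  carrier := {g | ∃ t : F, ∃ pq ∈ S, g = uz σ t pq.1 pq.2}
  one_mem' := ⟨0, 0, S.zero_mem, (uz_zero σ).symm⟩
  mul_mem' := by
    rintro _ _ ⟨t, a, ha, rfl⟩ ⟨t', b, hb, rfl⟩
    exact ⟨t + t', a + b, S.add_mem ha hb, uz_mul σ _ _ _ _ _ _⟩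
  inv_mem' := by
    rintro _ ⟨t, a, ha, rfl⟩
    exact ⟨-t, -a, S.neg_mem ha, uz_inv σ _ _ _⟩

theorem uzSub_exp (σ : F ≃+* F) (S : AddSubgroup (F × F)) {r : ℕ} [CharP F r] :
    ∀ g ∈ uzSub σ S, g ^ r = 1 := by
  rintro _ ⟨t, a, -, rfl⟩
  rw [uz_pow, CharP.cast_eq_zero, zero_mul, zero_mul, zero_mul, uz_zero]

theorem card_uzSub (σ : F ≃+* F) (S : AddSubgroup (F × F)) :
    Nat.card (uzSub σ S) = Nat.card F * Nat.card S := by
  rw [← Nat.card_prod]
  refine (Nat.card_congr (Equiv.ofBijective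
    (fun x : F × S => (⟨uz σ x.1 x.2.1.1 x.2.1.2, x.1, x.2.1, x.2.2, rfl⟩ : uzSub σ S)) ⟨?_, ?_⟩)).symm
  · rintro ⟨t, a⟩ ⟨t', b⟩ e
    obtain ⟨h1, h2, h3⟩ := uz_inj σ (congrArg Subtype.val e)
    exact Prod.ext h1 (Subtype.ext (Prod.ext h2 h3))
  · rintro ⟨_, t, a, ha, rfl⟩
    exact ⟨(t, ⟨a, ha⟩), rfl⟩

/-- An invariant isometry commuting with a second-layer element stabilises the base line. -/
theorem stab_of_comm_uz {D : Twist F} (hπ : ∀ v ∈ lay F 2, semi D.φ.1 v ∈ lay F 2) {σ : F ≃+* F}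
    {f : O (plusQ 4 F)} (hf : f ∈ D.fix) {t p q : F} (ht : t ≠ 0) (hc : Commute f (uz σ t p q)) :
    ∃ κ : F, app f (e0 F) = κ • e0 F := by
  set g := uz σ t p q
  have ht1 : σ t ≠ 0 := (map_ne_zero σ).2 ht
  have ht2 : σ (σ t) ≠ 0 := (map_ne_zero σ).2 ht1
  have hsurj : ∀ v ∈ lay F 2, ∃ w, app g w - w = v := by
    intro v hv
    set b₁ := v (.inl 2) / σ t
    set b₂ := -(v (.inl 1)) / σ t
    refine ⟨Sum.elim ![0, 0, 0, -((v (.inl 0) + p * b₁ + q * b₂) / σ (σ t))] ![0, b₁, b₂, 0], ?_⟩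
    rw [show g = uz σ t p q from rfl, app_uz]
    conv_rhs => rw [vec_eq v, hv (.inl 3) le_rfl, hv (.inr 0) (by decide), hv (.inr 1) (by decide),
      hv (.inr 2) (by decide), hv (.inr 3) le_rfl]
    funext j
    rcases j with i | i <;> fin_cases i <;> simp [b₁, b₂] <;> field_simp <;> ring
  have hrange : ∀ w, plusQ 4 F (app g w - w) = 0 → app g w - w ∈ lay F 2 := by
    intro w hw
    rw [show g = uz σ t p q from rfl] at hw ⊢
    rw [vec_eq w, app_uz] at hw ⊢
    rw [Q_eq] at hw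
    simp at hw
    have h0 : w (.inr 0) = 0 := hw.resolve_left ht
    intro i hi
    rcases i with i | i <;> fin_cases i <;> simp [wt, h0] at hi ⊢
  have hstab : ∀ v ∈ lay F 2, app f v ∈ lay F 2 := by
    intro v hv
    obtain ⟨w, hw⟩ := hsurj v hv
    have e : app f v = app g (app f w) - app f w := by
      rw [← hw, map_sub, ← app_mul, hc.eq, app_mul]
    rw [e]
    refine hrange _ ?_
    rw [← e, CfsgLib.Orth.Q_app, Q_eq, hv (.inl 3) le_rfl, hv (.inr 0) (by decide), hv (.inr 1) (by decide),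
      hv (.inr 2) (by decide)]
    ring
  have hπ2 : ∀ v ∈ lay F 2, semi D.φ⁻¹.1 v ∈ lay F 2 := fun v hv => by
    rw [D.inv_eq, Subgroup.coe_mul, semi_mul]
    exact hπ _ (hπ _ hv)
  have hconj : ∀ v ∈ lay F 2, app (conjO (plusQ 4 F) D.φ⁻¹ f) v ∈ lay F 2 ∧
      app (conjO (plusQ 4 F) (D.φ⁻¹ * D.φ⁻¹) f) v ∈ lay F 2 := by
    intro v hv
    constructor
    · obtain ⟨w, rfl⟩ : ∃ w, semi D.φ⁻¹.1 w = v := ⟨_, semi_semi_inv _ v⟩
      rw [semi_app_conj]
      refine hπ2 _ (hstab _ ?_)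
      have := hπ _ hv
      rwa [show semi D.φ.1 (semi D.φ⁻¹.1 w) = w from semi_semi_inv D.φ.1 w] at this
    · obtain ⟨w, rfl⟩ : ∃ w, semi (D.φ⁻¹ * D.φ⁻¹).1 w = v := ⟨_, semi_semi_inv _ v⟩
      rw [semi_app_conj]
      rw [D.inv_inv_eq] at hv ⊢
      refine hπ _ (hstab _ ?_)
      have := hπ2 _ hv
      rwa [show semi D.φ⁻¹.1 (semi D.φ.1 w) = w from semi_inv_semi D.φ.1 w] at this
  have h12 : ∀ i : Fin 4, (i = 1 ∨ i = 2) → (Pi.single (.inl i) 1 : I → F) ∈ lay F 2 := by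
    rintro i (rfl | rfl)
    exacts [single_mem_lay (F := F) (.inl 1), single_mem_lay (F := F) (.inl 2)]
  have e := rel_prod hf.2.cycle (Pi.single (.inl 2) 1) (Pi.single (.inl 1) 1)
  have he : prod (Pi.single (.inl 2) 1 : I → F) (Pi.single (.inl 1) 1) = e0 F := by
    rw [prod_eq]; funext j; rcases j with i | i <;> fin_cases i <;> simp
  rw [he] at e
  refine ⟨app f (e0 F) (.inl 0), lay_one fun i hi => ?_⟩
  rw [← e]
  have ha := (hconj _ (h12 2 (Or.inr rfl))).1
  have hb := (hconj _ (h12 1 (Or.inl rfl))).2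
  set a := app (conjO (plusQ 4 F) D.φ⁻¹ f) (Pi.single (.inl 2) 1)
  set b := app (conjO (plusQ 4 F) (D.φ⁻¹ * D.φ⁻¹) f) (Pi.single (.inl 1) 1)
  rw [prod_eq]
  rcases i with i | i <;> fin_cases i <;>
    simp [wt, ha (.inl 3) le_rfl, ha (.inr 0) (by decide), ha (.inr 1) (by decide), ha (.inr 2) (by decide),
      ha (.inr 3) (by decide), hb (.inl 3) le_rfl, hb (.inr 0) (by decide), hb (.inr 1) (by decide),
      hb (.inr 2) (by decide), hb (.inr 3) (by decide)] at hi ⊢

/-- An isometry commuting with two third-layer elements in different directions stabilises the base line. -/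
theorem stab_of_comm_two {σ : F ≃+* F} {f : O (plusQ 4 F)} {p q : F} (hp : p ≠ 0) (hq : q ≠ 0)
    (h1 : Commute f (uz σ 0 p 0)) (h2 : Commute f (uz σ 0 0 q)) : ∃ κ : F, app f (e0 F) = κ • e0 F := by
  have e1 : ∀ v, app f (app (uz σ 0 p 0) v - v) = app (uz σ 0 p 0) (app f v) - app f v := fun v => by
    rw [map_sub, ← app_mul, h1.eq, app_mul]
  have e2 : ∀ v, app f (app (uz σ 0 0 q) v - v) = app (uz σ 0 0 q) (app f v) - app f v := fun v => by
    rw [map_sub, ← app_mul, h2.eq, app_mul]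
  have k1 : app (uz σ 0 p 0) (Pi.single (.inr 1) (-p⁻¹)) - Pi.single (.inr 1) (-p⁻¹) = e0 F := by
    rw [vec_eq (Pi.single (.inr 1) (-p⁻¹) : I → F), app_uz, e0_vec]
    funext j
    rcases j with i | i <;> fin_cases i <;> simp [hp]
  have k2 : app (uz σ 0 0 q) (Pi.single (.inr 2) (-q⁻¹)) - Pi.single (.inr 2) (-q⁻¹) = e0 F := by
    rw [vec_eq (Pi.single (.inr 2) (-q⁻¹) : I → F), app_uz, e0_vec]
    funext j
    rcases j with i | i <;> fin_cases i <;> simp [hq]
  have f1 := e1 (Pi.single (.inr 1) (-p⁻¹))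
  have f2 := e2 (Pi.single (.inr 2) (-q⁻¹))
  rw [k1, vec_eq (app f (Pi.single (.inr 1) (-p⁻¹))), app_uz] at f1
  rw [k2, vec_eq (app f (Pi.single (.inr 2) (-q⁻¹))), app_uz] at f2
  refine ⟨app f (e0 F) (.inl 0), lay_one fun i hi => ?_⟩
  rcases i with i | i
  · fin_cases i
    · simp [wt] at hi
    · rw [f2]; simp
    · rw [f1]; simp
    · rw [f1]; simp
  · fin_cases i <;> (rw [f1]; simp)

/-! ### Triviality of the normal subgroup -/

variable {N : Subgroup (O (plusQ 4 F))}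

theorem lay_two_twI {σ : F ≃+* F} (h3 : σ * σ * σ = 1) {v : I → F} (hv : v ∈ lay F 2) :
    semi (twI σ h3).φ.1 v ∈ lay F 2 := fun i hi => by
  rw [semi_twI]; simp [hv i hi]

theorem lay_two_twM {v : I → F} (hv : v ∈ lay F 2) : semi (twM F).φ.1 v ∈ lay F 2 := fun i hi => by
  rw [semi_twM]
  rcases i with i | i <;> fin_cases i <;> simp [wt] at hi ⊢
  all_goals simp [hv (.inl 3) (by decide), hv (.inr 0) (by decide), hv (.inr 1) (by decide), hv (.inr 2) (by decide),
    hv (.inr 3) (by decide)]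

theorem uz_mem_twI {σ : F ≃+* F} (h3 : σ * σ * σ = 1) (t : F) {p q : F} (hp : σ p = p) (hq : σ q = q) :
    uz σ t p q ∈ (twI σ h3).fix :=
  mul_mem (uEl_mem_twI h3 t) (zEl_mem_twI h3 hp hq)

theorem char_le_card {r : ℕ} [Fact r.Prime] [CharP F r] : r ≤ Nat.card F := by
  refine Nat.le_of_dvd Nat.card_pos ?_
  rw [Nat.card_eq_fintype_card]
  obtain ⟨n, -, hn⟩ := FiniteField.card F r
  rw [hn]
  exact dvd_pow_self r n.ne_zero

/-- A field twist has trivial `3'`-core among its invariant isometries. -/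
theorem Small.eq_bot_twI {σ : F ≃+* F} {h3 : σ * σ * σ = 1} {r : ℕ} [Fact r.Prime] [CharP F r] (h : Small (twI σ h3) N) (h30 : (3 : F) ≠ 0) :
    N = ⊥ := by
  have htriv : ∀ n ∈ N, ∀ κ₀ : F, app n (e0 F) = κ₀ • e0 F → n = 1 := fun n hn κ₀ he =>
    h.stab_trivial (std_twI h3) (r := r) (fun g hg hr => h.rad_trivial_twI h30 hg hr) hn he
  let F₀ : AddSubgroup F := (σ.toAddMonoidHom - AddMonoidHom.id F).ker
  have hF₀ : ∀ {p : F}, p ∈ F₀ ↔ σ p = p := fun {p} => by
    show σ p - p = 0 ↔ _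
    rw [sub_eq_zero]
  have hpos : 1 < Nat.card F₀ := by
    have : Nontrivial F₀ := ⟨⟨0, ⟨1, hF₀.2 (map_one σ)⟩, fun e => zero_ne_one (congrArg Subtype.val e)⟩⟩
    exact Finite.one_lt_card
  have hcardS : ∀ S : AddSubgroup (F × F), Nat.card S = Nat.card F₀ → r < Nat.card (uzSub σ S) := by
    intro S hS
    rw [card_uzSub, hS]
    calc r ≤ Nat.card F := char_le_card
      _ < Nat.card F * Nat.card F₀ := lt_mul_of_one_lt_right Nat.card_pos hpos
  let SL : AddSubgroup (F × F) := F₀.prod ⊥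
  let SR : AddSubgroup (F × F) := (⊥ : AddSubgroup F).prod F₀
  have hL : Nat.card SL = Nat.card F₀ := by
    rw [Nat.card_congr (AddSubgroup.prodEquiv F₀ ⊥).toEquiv, Nat.card_prod, AddSubgroup.card_bot, mul_one]
  have hR : Nat.card SR = Nat.card F₀ := by
    rw [Nat.card_congr (AddSubgroup.prodEquiv (⊥ : AddSubgroup F) F₀).toEquiv, Nat.card_prod, AddSubgroup.card_bot,
      one_mul]
  refine fpf_bot (E := uzSub σ SL) ?_ (uzSub_exp σ SL) (hcardS SL hL) ?_
  · rintro _ ⟨t, ⟨p, q⟩, ⟨hp, hq⟩, rfl⟩ n hn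
    obtain rfl : q = 0 := hq
    exact h.conj _ (uz_mem_twI h3 t (hF₀.1 hp) (map_zero σ)) n hn
  rintro _ ⟨t, ⟨p, q⟩, ⟨hp, hq⟩, rfl⟩ hne n hn hc
  obtain rfl : q = 0 := hq
  have hpσ : σ p = p := hF₀.1 hp
  by_cases ht : t = 0
  swap
  · obtain ⟨κ, hκ⟩ := stab_of_comm_uz (fun v hv => lay_two_twI h3 hv) (h.le hn) ht hc.symm
    exact htriv n hn κ hκ
  subst ht
  have hp0 : p ≠ 0 := fun e => hne (by subst e; exact uz_zero σ)
  set M := N ⊓ Subgroup.centralizer {uz σ (0 : F) p 0}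
  suffices hM : M = ⊥ by
    have : n ∈ M := ⟨hn, Subgroup.mem_centralizer_singleton_iff.2 hc.symm.eq⟩
    rwa [hM, Subgroup.mem_bot] at this
  refine fpf_bot (E := uzSub σ SR) ?_ (uzSub_exp σ SR) (hcardS SR hR) ?_
  · rintro _ ⟨t, ⟨p', q⟩, ⟨hp', hq⟩, rfl⟩ m ⟨hm1, hm2⟩
    obtain rfl : p' = 0 := hp'
    refine ⟨h.conj _ (uz_mem_twI h3 t (map_zero σ) (hF₀.1 hq)) m hm1, ?_⟩
    have hcm : Commute m (uz σ 0 p 0) := Subgroup.mem_centralizer_singleton_iff.1 hm2
    have hcu : Commute (uz σ t 0 q) (uz σ 0 p 0) := by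
      rw [commute_iff_eq, uz_mul, uz_mul]
      congr 1 <;> ring
    exact Subgroup.mem_centralizer_singleton_iff.2 ((hcu.mul_left hcm).mul_left hcu.inv_left).eq
  rintro _ ⟨t, ⟨p', q⟩, ⟨hp', hq⟩, rfl⟩ hne' m ⟨hm1, hm2⟩ hcm
  obtain rfl : p' = 0 := hp'
  by_cases ht : t = 0
  · subst ht
    have hq0 : q ≠ 0 := fun e => hne' (by subst e; exact uz_zero σ)
    obtain ⟨κ, hκ⟩ := stab_of_comm_two hp0 hq0
      (Subgroup.mem_centralizer_singleton_iff.1 hm2 : Commute m (uz σ 0 p 0)) hcm.symm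
    exact htriv m hm1 κ hκ
  · obtain ⟨κ, hκ⟩ := stab_of_comm_uz (fun v hv => lay_two_twI h3 hv) (h.le hm1) ht hcm.symm
    exact htriv m hm1 κ hκ

theorem uz_mem_twM (t : F) : uz 1 t 0 0 ∈ (twM F).fix := by
  have : zEl (0 : F) 0 = 1 := mul_eq_left.1 (by rw [zEl_add, add_zero] : zEl (0 : F) 0 * zEl 0 0 = zEl 0 0)
  rw [uz, this, mul_one]
  exact uEl_mem_twM t

theorem app_vMu (a t a₀ a₁ a₂ a₃ b₀ b₁ b₂ b₃ : F) :
    app (vM a 0 * uEl 1 t) (Sum.elim ![a₀, a₁, a₂, a₃] ![b₀, b₁, b₂, b₃]) =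
      Sum.elim ![a₀ - 3 * a * a₁ - t * a₃ + (-27 * a ^ 4 - t ^ 2 - 9 * a ^ 2 * t) * b₀ - 9 * a ^ 3 * b₁ +
          (3 * a * t + 9 * a ^ 3) * b₂ + (-t - 9 * a ^ 2) * b₃,
        a₁ - 3 * a * a₃ + 9 * a ^ 3 * b₀ + 9 * a ^ 2 * b₁ - t * b₂ + 3 * a * b₃,
        a₂ + (18 * a ^ 3 + 3 * a * t) * b₀ + (t + 9 * a ^ 2) * b₁ + 3 * a * b₃,
        a₃ + t * b₀ - 3 * a * b₁ - 3 * a * b₂]
        ![b₀, b₁ + 3 * a * b₀, b₂, b₃ + (9 * a ^ 2 + t) * b₀ + 3 * a * b₁] := by
  simp only [vM, uEl, app_mul, RingAut.one_apply, appE0, appE2, appE1, appE20, appE21, appE3, appE14, appE15,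
    appE5, appE4, appE12]
  apply vec_ext <;> ring

/-- An isometry commuting with a regular unipotent element stabilises the base line. -/
theorem stab_of_comm_vM (h2 : (2 : F) ≠ 0) (h30 : (3 : F) ≠ 0) {a t : F} (ha : a ≠ 0) {f : O (plusQ 4 F)}
    (hc : Commute f (vM a 0 * uEl 1 t)) : ∃ κ : F, app f (e0 F) = κ • e0 F := by
  set g := vM a 0 * uEl 1 t with hg
  have key : ∀ v : I → F, app g (app g (app g (app g v - v) - (app g v - v)) -
      (app g (app g v - v) - (app g v - v))) -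
      (app g (app g (app g v - v) - (app g v - v)) - (app g (app g v - v) - (app g v - v))) =
      (-162 * a ^ 4 * v (.inr 0)) • e0 F := by
    intro v
    rw [vec_eq v, e0_vec]
    set a₀ := v (.inl 0); set a₁ := v (.inl 1); set a₂ := v (.inl 2); set a₃ := v (.inl 3)
    set b₀ := v (.inr 0); set b₁ := v (.inr 1); set b₂ := v (.inr 2); set b₃ := v (.inr 3)
    have hsub : ∀ x₀ x₁ x₂ x₃ y₀ y₁ y₂ y₃ c₀ c₁ c₂ c₃ d₀ d₁ d₂ d₃ : F,
        (Sum.elim ![x₀, x₁, x₂, x₃] ![y₀, y₁, y₂, y₃] - Sum.elim ![c₀, c₁, c₂, c₃] ![d₀, d₁, d₂, d₃] : I → F) =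
          Sum.elim ![x₀ - c₀, x₁ - c₁, x₂ - c₂, x₃ - c₃] ![y₀ - d₀, y₁ - d₁, y₂ - d₂, y₃ - d₃] := by
      intros
      funext j
      rcases j with i | i <;> fin_cases i <;> rfl
    simp only [hg, app_vMu, hsub]
    funext j
    rcases j with i | i <;> fin_cases i <;> simp <;> ring
  have hcomm : ∀ v, app f (app g v - v) = app g (app f v) - app f v := fun v => by
    rw [map_sub, ← app_mul, hc.eq, app_mul]
  have e := congrArg (app f) (key (f0 F))
  rw [hcomm, hcomm, hcomm, hcomm, key, map_smul] at e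
  have h162 : (-162 * a ^ 4 : F) ≠ 0 := by
    rw [show (-162 : F) = -(2 * (3 * 3 * (3 * 3))) by norm_num]
    exact mul_ne_zero (neg_ne_zero.2 (mul_ne_zero h2 (mul_ne_zero (mul_ne_zero h30 h30) (mul_ne_zero h30 h30))))
      (pow_ne_zero 4 ha)
  have hf0 : (f0 F) (Sum.inr 0) = 1 := Pi.single_eq_same _ _
  rw [hf0, mul_one] at e
  refine ⟨app f (f0 F) (.inr 0), ?_⟩
  have := congrArg ((-162 * a ^ 4 : F)⁻¹ • ·) e
  simp only [smul_smul, inv_mul_cancel₀ h162, one_smul] at this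
  rw [← this, ← mul_assoc, inv_mul_cancel₀ h162, one_mul]

/-- Unipotent invariant isometries have exponent the characteristic when it is at least five. -/
theorem LowerBy.pow_char_large {r : ℕ} [Fact r.Prime] [CharP F r] {f : O (plusQ 4 F)} (h : LowerBy (1 : F) f) (hr : 5 ≤ r) : f ^ r = 1 := by
  set N : Module.End F (I → F) := app f - 1 with hN
  have hstep : ∀ j k : ℕ, ∀ w ∈ lay F (j + k), (N ^ j) w ∈ lay F k := by
    intro j
    induction j with
    | zero => intro k w hw; simpa using hw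
    | succ j ih =>
      intro k w hw
      rw [pow_succ, Module.End.mul_apply]
      refine ih k _ ?_
      have := h (j + k) w (by rwa [show j + k + 1 = j + 1 + k by omega])
      simpa [hN] using this
  have h5 : N ^ 5 = 0 := LinearMap.ext fun w => lay_zero (hstep 5 0 w (lay_five w))
  have : CharP (Module.End F (I → F)) r :=
    charP_of_injective_algebraMap (algebraMap F (Module.End F (I → F))).injective r
  have e : (app f : Module.End F (I → F)) = N + 1 := by rw [hN, sub_add_cancel]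
  refine ext_app fun v => ?_
  rw [app_pow, e, add_pow_char_of_commute (p := r) (Commute.one_right N), pow_eq_zero_of_le hr h5, zero_add, one_pow,
    app_one]
  rfl

/-- The unipotent invariant isometries without a second first-layer coordinate. -/
noncomputable def radA (F : Type*) [Field F] [Fintype F] : Subgroup (O (plusQ 4 F)) where
  carrier := {g | g ∈ (twM F).rad ∧ app g (f0 F) (.inr 2) = 0}
  one_mem' := ⟨one_mem _, by simp⟩
  mul_mem' := fun {a b} ha hb => ⟨mul_mem ha.1 hb.1, by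
    rw [(twM F).coord_mul ha.1 hb.1 _ rfl, ha.2, hb.2, add_zero]⟩
  inv_mem' := fun {a} ha => ⟨inv_mem ha.1, by
    have := (twM F).coord_mul ha.1 (inv_mem ha.1) (.inr 2) rfl
    rw [mul_inv_cancel, ha.2, zero_add, app_one] at this
    rw [← this]; simp⟩

theorem radA_mem (a t : F) : vM a 0 * uEl 1 t ∈ radA F := by
  refine ⟨mul_mem (vM_rad a 0) (Subgroup.mem_inf.2 ⟨uEl_mem_twM t, uEl_mem_uni 1 t⟩), ?_⟩
  rw [f0_vec, app_vMu]
  simp

theorem exists_of_mem_radA (h30 : (3 : F) ≠ 0) {g : O (plusQ 4 F)} (hg : g ∈ radA F) :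
    ∃ a t : F, g = vM a 0 * uEl 1 t := by
  set a := app g (f0 F) (.inr 1) / 3 with ha
  have hm : (vM a 0)⁻¹ * g ∈ (twM F).rad := mul_mem (inv_mem (vM_rad _ _)) hg.1
  obtain ⟨t, e⟩ := rad_low_twM h30 hm
    (by
      have h1 := (twM F).coord_mul (vM_rad a 0) hm (.inr 1) rfl
      rw [mul_inv_cancel_left, (app_vM_f0 a 0).1, ha, mul_div_cancel₀ _ h30] at h1
      linear_combination -h1)
    (by
      have h1 := (twM F).coord_mul (vM_rad a 0) hm (.inr 2) rfl
      rw [mul_inv_cancel_left, (app_vM_f0 a 0).2, hg.2, mul_zero] at h1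
      linear_combination -h1)
  exact ⟨a, t, inv_mul_eq_iff_eq_mul.1 e⟩

/-- A vector spanning a line fixed by the twist in the sense of triality. -/
def IsPt (D : Twist F) (v : I → F) : Prop := prod v (semi D.φ.1 (semi D.φ.1 v)) = 0

theorem isPt_app (D : Twist F) {f : O (plusQ 4 F)} (hf : f ∈ D.fix) : IsPt D (app f (e0 F)) := by
  have e := rel_prod hf.2 (e0 F) (e0 F)
  have h0 : prod (e0 F) (e0 F) = 0 := by
    rw [prod_e0_left]; funext j; rcases j with i | i <;> fin_cases i <;> simp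
  rw [h0, map_zero] at e
  have hg : app (conjO (plusQ 4 F) D.φ⁻¹ f) (e0 F) = semi D.φ⁻¹.1 (app f (e0 F)) := by
    conv_lhs => rw [← semi_fix_of_order D D.semi_e0]
    exact semi_app_conj _ _ _
  rw [hg, D.inv_eq, Subgroup.coe_mul, semi_mul] at e
  exact e

/-- Over two elements, the invariant lines other than the base one are opposite to it. -/
theorem pt_low (h30 : (3 : F) ≠ 0) (h2 : ∀ x : F, x = 0 ∨ x = 1) {v : I → F} (hp : IsPt (twM F) v) (h0 : v (.inr 0) = 0)
    (hv : v ≠ 0) (hQ : plusQ 4 F v = 0) : v = e0 F := by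
  rw [IsPt, semi_twM, semi_twM, prod_eq] at hp
  rw [Q_eq] at hQ
  have k := fun j => congrFun hp j
  have c0 := k (.inl 0); have c1 := k (.inl 1); have c2 := k (.inl 2); have c3 := k (.inl 3)
  have d0 := k (.inr 0); have d1 := k (.inr 1); have d2 := k (.inr 2); have d3 := k (.inr 3)
  simp [h0] at c0 c1 c2 c3 d0 d1 d2 d3 hQ
  obtain rfl : v = Sum.elim ![1, 0, 0, 0] ![0, 0, 0, 0] := by
    have hv' := hv
    rw [vec_eq v] at hv' ⊢
    rcases h2 (v (.inl 0)) with a0 | a0 <;> rcases h2 (v (.inl 1)) with a1 | a1 <;>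
      rcases h2 (v (.inl 2)) with a2 | a2 <;> rcases h2 (v (.inl 3)) with a3 | a3 <;>
      rcases h2 (v (.inr 1)) with b1 | b1 <;> rcases h2 (v (.inr 2)) with b2 | b2 <;>
      rcases h2 (v (.inr 3)) with b3 | b3 <;>
      simp [a0, a1, a2, a3, b1, b2, b3, h0] at c0 c1 c2 c3 d0 d1 d2 d3 hQ ⊢
    all_goals
      first
        | exact absurd (by linear_combination -d0 : (3 : F) = 0) h30
        | (exfalso; apply hv'; funext j
           rcases j with i | i <;> fin_cases i <;> simp [a0, a1, a2, a3, b1, b2, b3, h0])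
  rw [e0_vec]

/-- The invariant lines opposite to the base one are the images of the opposite base line. -/
theorem pt_high (h30 : (3 : F) ≠ 0) {v : I → F} (hp : IsPt (twM F) v) (h0 : v (.inr 0) = 1) :
    ∃ g ∈ (twM F).rad, v = app g (f0 F) := by
  set a := v (.inr 1) / 3 with ha
  set b := v (.inr 2) / 3 with hb
  set k := (vM a b)⁻¹
  have hk : k ∈ (twM F).rad := inv_mem (vM_rad a b)
  set w := app k v with hw
  have hv4 : v - (1 : F) • f0 F ∈ lay F 4 := fun i hi => by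
    obtain rfl : i = .inr 0 := by revert hi; revert i; decide
    simp [h0]
  have h3 := hk.2 3 _ hv4
  rw [one_smul, one_smul, map_sub] at h3
  have hkc : ∀ j, wt j = 3 → app k (f0 F) j = -app (vM a b) (f0 F) j := fun j hj => by
    have := (twM F).coord_mul (vM_rad a b) hk j hj
    rw [mul_inv_cancel, app_one, show (f0 F) j = 0 from Pi.single_eq_of_ne (fun e => by rw [e] at hj; exact absurd hj (by decide)) 1] at this
    linear_combination -this
  have w1 : w (.inr 1) = 0 := by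
    have := h3 (.inr 1) le_rfl
    rw [Pi.sub_apply, Pi.sub_apply, Pi.sub_apply, hkc _ rfl, (app_vM_f0 a b).1, ha, mul_div_cancel₀ _ h30,
      show (f0 F) (.inr 1) = 0 from Pi.single_eq_of_ne (by decide) 1] at this
    rw [hw]; linear_combination this
  have w2 : w (.inr 2) = 0 := by
    have := h3 (.inr 2) le_rfl
    rw [Pi.sub_apply, Pi.sub_apply, Pi.sub_apply, hkc _ rfl, (app_vM_f0 a b).2, hb, mul_div_cancel₀ _ h30,
      show (f0 F) (.inr 2) = 0 from Pi.single_eq_of_ne (by decide) 1] at this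
    rw [hw]; linear_combination this
  have w0 : w (.inr 0) = 1 := by
    have := hk.2 4 v (lay_five _) (.inr 0) le_rfl
    rw [Pi.sub_apply, one_smul, sub_eq_zero] at this
    rw [hw, this, h0]
  have hpw : IsPt (twM F) w := by
    have e := rel_prod hk.1.2 v (semi (twM F).φ.1 (semi (twM F).φ.1 v))
    rw [show prod v (semi (twM F).φ.1 (semi (twM F).φ.1 v)) = 0 from hp, map_zero] at e
    have hu : semi (twM F).φ.1 (semi (twM F).φ.1 v) = semi (twM F).φ⁻¹.1 v := by
      rw [(twM F).inv_eq, Subgroup.coe_mul, semi_mul]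
    rw [hu, semi_app_conj, (twM F).inv_eq, Subgroup.coe_mul, semi_mul] at e
    exact e
  rw [IsPt, semi_twM, semi_twM, prod_eq] at hpw
  have e4 := congrFun hpw (.inr 0); have e5 := congrFun hpw (.inr 1)
  have e6 := congrFun hpw (.inr 2); have e7 := congrFun hpw (.inr 3)
  simp [w0, w1, w2] at e4 e5 e6 e7
  have q1 : w (.inl 1) = 0 := by
    have : (3 : F) * w (.inl 1) = 0 := by linear_combination e6 - e5
    exact (mul_eq_zero.1 this).resolve_left h30
  have q2 : w (.inl 2) = 0 := by linear_combination -e5 - q1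
  refine ⟨vM a b * uEl 1 (w (.inl 3)),
    mul_mem (vM_rad a b) (Subgroup.mem_inf.2 ⟨uEl_mem_twM _, uEl_mem_uni 1 _⟩), ?_⟩
  have hwe : w = app (uEl 1 (w (.inl 3))) (f0 F) := by
    rw [app_uEl_f0]
    conv_lhs => rw [vec_eq w]
    apply vec_ext <;> simp [w0, w1, w2, q1, q2]
    · linear_combination -e7
    · linear_combination e4
  rw [app_mul, ← hwe, hw, app_app_inv]

theorem card_rad_two (h2 : Nat.card F = 2) (h30 : (3 : F) ≠ 0) : Nat.card (twM F).rad = 8 := by
  have hu : ∀ t, uEl (1 : F ≃+* F) t ∈ (twM F).rad := fun t =>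
    Subgroup.mem_inf.2 ⟨uEl_mem_twM t, uEl_mem_uni 1 t⟩
  have hco : ∀ a b t : F, app (vM a b * uEl 1 t) (f0 F) (.inr 1) = 3 * a ∧
      app (vM a b * uEl 1 t) (f0 F) (.inr 2) = 3 * b := fun a b t => by
    constructor
    · rw [(twM F).coord_mul (vM_rad a b) (hu t) _ rfl, (app_vM_f0 a b).1, app_uEl_f0]; simp
    · rw [(twM F).coord_mul (vM_rad a b) (hu t) _ rfl, (app_vM_f0 a b).2, app_uEl_f0]; simp
  let φ : F × F × F → (twM F).rad := fun x => ⟨vM x.1 x.2.1 * uEl 1 x.2.2, mul_mem (vM_rad _ _) (hu _)⟩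
  have : Function.Bijective φ := by
    constructor
    · rintro ⟨a, b, t⟩ ⟨a', b', t'⟩ e
      have e' : vM a b * uEl 1 t = vM a' b' * uEl 1 t' := congrArg Subtype.val e
      have k1 := (hco a b t).1
      have k2 := (hco a b t).2
      rw [e', (hco a' b' t').1] at k1
      rw [e', (hco a' b' t').2] at k2
      obtain rfl := mul_left_cancel₀ h30 k1
      obtain rfl := mul_left_cancel₀ h30 k2
      have e2 : app (uEl 1 t) (f0 F) = app (uEl 1 t') (f0 F) :=
        congrArg (fun g => app g (f0 F)) (mul_left_cancel e')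
      rw [app_uEl_f0, app_uEl_f0] at e2
      have : t = t' := by simpa using congrFun e2 (.inl 3)
      rw [this]
    · rintro ⟨g, hg⟩
      set a := app g (f0 F) (.inr 1) / 3 with ha
      set b := app g (f0 F) (.inr 2) / 3 with hb
      have hm : (vM a b)⁻¹ * g ∈ (twM F).rad := mul_mem (inv_mem (vM_rad _ _)) hg
      obtain ⟨t, e⟩ := rad_low_twM h30 hm
        (by
          have h1 := (twM F).coord_mul (vM_rad a b) hm (.inr 1) rfl
          rw [mul_inv_cancel_left, (app_vM_f0 a b).1, ha, mul_div_cancel₀ _ h30] at h1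
          linear_combination -h1)
        (by
          have h1 := (twM F).coord_mul (vM_rad a b) hm (.inr 2) rfl
          rw [mul_inv_cancel_left, (app_vM_f0 a b).2, hb, mul_div_cancel₀ _ h30] at h1
          linear_combination -h1)
      exact ⟨(a, b, t), Subtype.ext (inv_mul_eq_iff_eq_mul.1 e).symm⟩
  rw [← Nat.card_congr (Equiv.ofBijective φ this), Nat.card_prod, Nat.card_prod, h2]

/-- The twist of the middle plane over two elements. -/
theorem Small.eq_bot_two {r : ℕ} [Fact r.Prime] [CharP F r] (h : Small (twM F) N) (h30 : (3 : F) ≠ 0) (h2 : Nat.card F = 2) : N = ⊥ := by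
  have htriv : ∀ n ∈ N, ∀ κ₀ : F, app n (e0 F) = κ₀ • e0 F → n = 1 := fun n hn κ₀ he =>
    h.stab_trivial (std_twM h30) (r := r) (fun g hg hr => h.rad_trivial_twM h30 hg hr) hn he
  have h01 : ∀ x : F, x = 0 ∨ x = 1 := fun x => by
    by_contra hx
    push Not at hx
    have := Nat.card_le_card_of_injective ![(0 : F), 1, x] (by
      intro i j e
      fin_cases i <;> fin_cases j <;> simp [hx.1, hx.2, Ne.symm hx.1, Ne.symm hx.2] at e ⊢)
    rw [h2, Nat.card_eq_fintype_card, Fintype.card_fin] at this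
    omega
  have hne0 : ∀ f : O (plusQ 4 F), app f (e0 F) ≠ 0 := fun f e => by
    have := congrFun (app_injective f (e.trans (map_zero _).symm)) (.inl 0)
    simp at this
  have hQ : ∀ f : O (plusQ 4 F), plusQ 4 F (app f (e0 F)) = 0 := fun f => by
    rw [CfsgLib.Orth.Q_app, Q_eq]; simp
  have hcase : ∀ n ∈ N, n ≠ 1 → ∃ g ∈ (twM F).rad, app n (e0 F) = app g (f0 F) := fun n hn hn1 => by
    rcases h01 (app n (e0 F) (.inr 0)) with h0 | h0
    · exact absurd (htriv n hn 1 (by rw [one_smul]; exact pt_low h30 h01 (isPt_app _ (h.le hn)) h0 (hne0 n) (hQ n))) hn1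
    · exact pt_high h30 (isPt_app _ (h.le hn)) h0
  rw [Subgroup.eq_bot_iff_forall]
  by_contra hN
  push Not at hN
  obtain ⟨n, hn, hn1⟩ := hN
  obtain ⟨g, hg, hgn⟩ := hcase n hn hn1
  set n₀ := g⁻¹ * n * g
  have hn₀ : n₀ ∈ N := by simpa using h.conj g⁻¹ (inv_mem hg.1) n hn
  have he : ∀ g ∈ (twM F).rad, app (g * n₀ * g⁻¹) (e0 F) = app g (f0 F) := fun g' hg' => by
    rw [app_mul, app_mul, (twM F).rad_e0 (inv_mem hg')]
    show app g' (app (g⁻¹ * n * g) (e0 F)) = _
    rw [app_mul, app_mul, (twM F).rad_e0 hg, hgn, app_inv_app]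
  have huniq : ∀ m ∈ N, ∀ m' ∈ N, app m (e0 F) = app m' (e0 F) → m = m' := fun m hm m' hm' e =>
    (inv_mul_eq_one.1 (htriv _ (mul_mem (inv_mem hm') hm) 1 (by
      rw [app_mul, e, app_inv_app, one_smul]))).symm
  let ψ : Option (twM F).rad → N := fun o => match o with
    | none => 1
    | some g => ⟨g.1 * n₀ * g.1⁻¹, h.conj _ g.2.1 _ hn₀⟩
  have hb : Function.Bijective ψ := by
    have hnone : ∀ g ∈ (twM F).rad, g * n₀ * g⁻¹ ≠ 1 := fun g hg e => by
      have := he g hg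
      rw [e, app_one] at this
      have := congrFun this (.inr 0)
      rw [app_f0_top hg.2] at this
      simp at this
    constructor
    · rintro (_ | a) (_ | b) e
      · rfl
      · exact absurd (congrArg Subtype.val e).symm (hnone b.1 b.2)
      · exact absurd (congrArg Subtype.val e) (hnone a.1 a.2)
      · have e' := congrArg (fun x => app x (e0 F)) (congrArg Subtype.val e)
        change app (a.1 * n₀ * a.1⁻¹) (e0 F) = app (b.1 * n₀ * b.1⁻¹) (e0 F) at e'
        rw [he _ a.2, he _ b.2] at e'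
        rw [Subtype.ext ((twM F).rad_ext a.2 b.2 e')]
    · rintro ⟨m, hm⟩
      by_cases hm1 : m = 1
      · exact ⟨none, Subtype.ext hm1.symm⟩
      · obtain ⟨g', hg', e'⟩ := hcase m hm hm1
        exact ⟨some ⟨g', hg'⟩, Subtype.ext (huniq _ (h.conj _ hg'.1 _ hn₀) _ hm (by rw [he _ hg', e']))⟩
  have hc : Nat.card N = 9 := by
    rw [← Nat.card_congr (Equiv.ofBijective ψ hb), Finite.card_option, card_rad_two h2 h30]
  have := h.cop
  rw [hc] at this
  exact absurd this (by norm_num)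

/-- The twist of the middle plane has trivial `3'`-core among its invariant isometries. -/
theorem Small.eq_bot_twM {r : ℕ} [Fact r.Prime] [CharP F r] (h : Small (twM F) N) (h30 : (3 : F) ≠ 0) : N = ⊥ := by
  have htriv : ∀ n ∈ N, ∀ κ₀ : F, app n (e0 F) = κ₀ • e0 F → n = 1 := fun n hn κ₀ he =>
    h.stab_trivial (std_twM h30) (r := r) (fun g hg hr => h.rad_trivial_twM h30 hg hr) hn he
  obtain ⟨k, hrp, hk⟩ := FiniteField.card F r
  rw [← Nat.card_eq_fintype_card] at hk
  by_cases hk1 : (k : ℕ) = 1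
  swap
  · have hlt : r < Nat.card (uzSub (1 : F ≃+* F) (⊥ : AddSubgroup (F × F))) := by
      rw [card_uzSub, AddSubgroup.card_bot, mul_one, hk]
      calc r = r ^ 1 := (pow_one r).symm
        _ < r ^ (k : ℕ) := Nat.pow_lt_pow_right hrp.one_lt (by have := k.pos; omega)
    refine fpf_bot (E := uzSub (1 : F ≃+* F) ⊥) ?_ (uzSub_exp _ _) hlt ?_
    · rintro _ ⟨t, pq, hpq, rfl⟩ n hn
      obtain rfl : pq = 0 := hpq
      exact h.conj _ (uz_mem_twM t) n hn
    · rintro _ ⟨t, pq, hpq, rfl⟩ hne n hn hc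
      obtain rfl : pq = 0 := hpq
      have ht : t ≠ 0 := fun e => hne (by subst e; exact uz_zero _)
      obtain ⟨κ, hκ⟩ := stab_of_comm_uz (fun v hv => lay_two_twM hv) (h.le hn) ht hc.symm
      exact htriv n hn κ hκ
  rw [hk1, pow_one] at hk
  have hr3 : r ≠ 3 := fun e => h30 (by subst e; exact_mod_cast CharP.cast_eq_zero F 3)
  by_cases hr2 : r = 2
  · exact h.eq_bot_two (r := r) h30 (hk.trans hr2)
  have hr5 : 5 ≤ r := by
    have h' := hrp.two_le
    have : r ≠ 4 := fun e => by rw [e] at hrp; exact absurd hrp (by norm_num)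
    omega
  have h20 : (2 : F) ≠ 0 := fun e => hr2 (by
    have : ((2 : ℕ) : F) = 0 := by exact_mod_cast e
    exact ((Nat.prime_dvd_prime_iff_eq hrp Nat.prime_two).1 ((CharP.cast_eq_zero_iff F r 2).1 this)))
  have hexp : ∀ e ∈ radA F, e ^ r = 1 := fun e he => LowerBy.pow_char_large he.1.2 hr5
  have hcard : r < Nat.card (radA F) := by
    set u := vM (1 : F) 0 * uEl 1 0 with hu
    have hum : u ∈ radA F := radA_mem 1 0
    have hu1 : u ≠ 1 := fun e => by
      have := congrArg (fun g => app g (f0 F) (.inr 1)) e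
      simp only [hu, f0_vec, app_vMu, app_one] at this
      simp at this
      exact h30 this
    have ho : orderOf u = r := orderOf_eq_prime (hexp u hum) hu1
    rw [← ho, ← Nat.card_zpowers]
    refine lt_of_le_of_ne (Nat.card_le_card_of_injective (Subgroup.inclusion ((Subgroup.zpowers_le).2 hum))
      (Subgroup.inclusion_injective _)) fun e => ?_
    have heq : Subgroup.zpowers u = radA F := Subgroup.eq_of_le_of_card_ge ((Subgroup.zpowers_le).2 hum) e.ge
    have hv : vM (0 : F) 0 * uEl 1 1 ∈ Subgroup.zpowers u := heq ▸ radA_mem 0 1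
    obtain ⟨n, hn⟩ := (mem_powers_iff_mem_zpowers).2 hv
    have hn' : u ^ n = vM (0 : F) 0 * uEl 1 1 := hn
    have hpow : ∀ i : ℕ, app (u ^ i) (f0 F) (.inr 1) = i * 3 := fun i => by
      induction i with
      | zero => simp
      | succ i ih =>
        rw [pow_succ, (twM F).coord_mul (pow_mem hum.1 i) hum.1 _ rfl, ih, hu, f0_vec, app_vMu]
        simp; ring
    have h1 := hpow n
    rw [hn', f0_vec, app_vMu] at h1
    simp at h1
    have hn0 : r ∣ n := (CharP.cast_eq_zero_iff F r n).1 (by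
      rcases h1 with h | h
      · exact h
      · exact absurd h h30)
    obtain ⟨j, rfl⟩ := hn0
    rw [pow_mul, hexp u hum, one_pow] at hn'
    have := congrArg (fun g => app g (f0 F) (.inl 3)) hn'
    simp only [app_one, f0_vec, app_vMu] at this
    simp at this
  refine fpf_bot (E := radA F) (fun e he n hn => h.conj e he.1.1 n hn) hexp hcard fun e he hne n hn hc => ?_
  obtain ⟨a, t, rfl⟩ := exists_of_mem_radA h30 he
  by_cases ha : a = 0
  · subst ha
    have h0 : vM (0 : F) 0 = 1 := (mul_eq_left (a := vM (0 : F) 0)).1 (by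
      have := vM_vM (0 : F) 0 0 0
      refine ext_app fun v => ?_
      rw [vec_eq v]
      simp only [vM, app_mul, appE0, appE2, appE1, appE20, appE21, appE3, appE14, appE15, appE5]
      apply vec_ext <;> simp)
    rw [h0, one_mul] at hne hc
    have ht : t ≠ 0 := fun e => hne (by
      subst e
      exact mul_eq_left.1 (by rw [uEl_add, add_zero] : uEl (1 : F ≃+* F) (0 : F) * uEl 1 0 = uEl 1 0))
    have hu : uz (1 : F ≃+* F) t 0 0 = uEl 1 t := by
      have : zEl (0 : F) 0 = 1 := mul_eq_left.1 (by rw [zEl_add, add_zero] : zEl (0 : F) 0 * zEl 0 0 = zEl 0 0)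
      rw [uz, this, mul_one]
    obtain ⟨κ, hκ⟩ := stab_of_comm_uz (fun v hv => lay_two_twM hv) (h.le hn) ht (hu ▸ hc.symm)
    exact htriv n hn κ hκ
  · obtain ⟨κ, hκ⟩ := stab_of_comm_vM h20 h30 ha hc.symm
    exact htriv n hn κ hκ

set_option maxHeartbeats 1600000 in
/-- The fixed points of a twist without such normal subgroups have trivial core. -/
theorem Twist.core_fixed (D : Twist F) (h : ∀ N : Subgroup (O (plusQ 4 F)), Small D N → N = ⊥) :
    Cfsg.pPrimeCore 3 (fixedPts D.x) = ⊥ := by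
  have : Fact (Nat.Prime 3) := ⟨Nat.prime_three⟩
  refine CfsgLib.PCore.pPrimeCore_eq_bot_of_equiv D.fixEquiv ?_
  set M := Cfsg.pPrimeCore 3 D.fix
  have hMn : M.Normal := Cfsg.pPrimeCore_normal 3 _
  have hbot : M.map D.fix.subtype = ⊥ := h _
    { le := fun g hg => by obtain ⟨x, -, rfl⟩ := hg; exact x.2
      conj := by
        rintro f hf _ ⟨x, hx, rfl⟩
        exact ⟨⟨f, hf⟩ * x * ⟨f, hf⟩⁻¹, hMn.conj_mem x hx _, rfl⟩
      cop := (CfsgLib.PCore.pPrimeCore_coprime (p := 3) (G := D.fix)).symm.coprime_dvd_right (Subgroup.card_map_dvd M D.fix.subtype) }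
  rw [Subgroup.eq_bot_iff_forall] at hbot ⊢
  exact fun x hx => Subtype.ext (hbot _ ⟨x, hx, rfl⟩)

end CfsgLib.TriNorm
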