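import Cfsg.Agent.Lib.POmegaBalPlus.TriFlag
import Cfsg.Agent.Lib.POmegaBalPlus.TriTop
import Cfsg.Agent.Lib.POmegaBalPlus.TriCent
import Cfsg.Agent.Lib.AutPOmega.FormTransport

/-!
How triality permutes the two kinds of semisimilarities, and the automorphisms outside their image.
-/

set_option autoImplicit false
set_option linter.unusedSectionVars false

namespace CfsgLib.POmegaBalPlus

open Matrix QuadraticMap CfsgLib.Orth CfsgLib.FieldPOmega CfsgLib.AutBalance Cfsg.Agent.GammaO57
  Cfsg.Agent.PlusField57 Cfsg.Agent.OutPlus57 Cfsg.Agent.Levi57 Cfsg.Agent.Triality57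

set_option maxHeartbeats 1600000

variable {F : Type*} [Field F] [Fintype F]

/-- The standard improper isometry. -/
noncomputable def swapI (F : Type*) [Field F] [Fintype F] : ↥(semiGroup (plusQ 4 F)) :=
  oIn (plusQ 4 F) (refl (plusQ 4 F) (pv (lastI (le_refl 4)) (-1)))

theorem psgn_swapI : psgn 4 F (swapI F) = -1 := psgn_refl (pv_ne (neg_ne_zero.2 one_ne_zero))

theorem triality_swapI : triality F * gAut _ (swapI F) = gAut _ (swapI F) * (triality F * triality F) :=
  triality_inverting (P := swapI F) (c := -1) (σ := 1) fun x y z => by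
    rw [swapI, Cfsg.Agent.OutEight57.semi_oIn, Cfsg.Agent.OutEight57.semi_oIn,
      Cfsg.Agent.OutEight57.semi_oIn, Cfsg.Agent.OutEight57.app_rA, Cfsg.Agent.OutEight57.app_rA,
      Cfsg.Agent.OutEight57.app_rA, tri_eq, tri_eq, RingAut.one_apply]
    simp
    ring

theorem pow_swapI (j : ℕ) :
    triality F ^ j * gAut _ (swapI F) = gAut _ (swapI F) * triality F ^ (2 * j) := by
  induction j with
  | zero => simp
  | succ j ih =>
    rw [pow_succ', mul_assoc, ih, ← mul_assoc, triality_swapI, mul_assoc, ← pow_two, ← pow_add]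
    congr 2
    ring

theorem split_neg {y : ↥(semiGroup (plusQ 4 F))} (hy : psgn 4 F y = -1) :
    ∃ y₀, psgn 4 F y₀ = 1 ∧ y = y₀ * swapI F :=
  ⟨y * (swapI F)⁻¹, by rw [map_mul, map_inv, hy, psgn_swapI, mul_inv_cancel], (inv_mul_cancel_right _ _).symm⟩

theorem mem_range_of_pow {j : ℕ} (h : triality F ^ j ∈ (gAut (plusQ 4 F)).range) : j % 3 = 0 := by
  have hm : triality F ^ (j % 3) ∈ (gAut (plusQ 4 F)).range := by
    rwa [← Nat.mod_add_div j 3, pow_add, pow_mul, triality_pow_three, one_pow, mul_one] at h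
  rcases (show j % 3 = 0 ∨ j % 3 = 1 ∨ j % 3 = 2 by omega) with e | e | e
  · exact e
  · rw [e, pow_one] at hm; exact absurd hm triality_not_mem
  · rw [e] at hm
    have h2 := mul_mem hm hm
    rw [← pow_add, show 2 + 2 = 3 + 1 from rfl, pow_add, triality_pow_three, one_mul, pow_one] at h2
    exact absurd h2 triality_not_mem

/-- Triality normalises the image of the class-preserving semisimilarities. -/
theorem conj_triality {X : ↥(semiGroup (plusQ 4 F))} (hX : psgn 4 F X = 1) :
    ∃ X', psgn 4 F X' = 1 ∧ triality F * gAut _ X = gAut _ X' * triality F := by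
  obtain ⟨P, hP, rfl⟩ := CfsgLib.TriNorm.exists_trip hX
  refine ⟨P.2.1, (Int.units_eq_one_or _).resolve_right fun hs => ?_, CfsgLib.TriNorm.intertwine hP⟩
  obtain ⟨Q₀, hQ₀, e⟩ := split_neg hs
  obtain ⟨R₀, hR₀, e'⟩ : ∃ R₀, R₀ ∈ CfsgLib.TriNorm.tripSub F ∧ R₀.1 = Q₀ := CfsgLib.TriNorm.exists_trip hQ₀
  have h1 := CfsgLib.TriNorm.intertwine (CfsgLib.TriNorm.shift_mem hP)
  change triality F * gAut _ P.2.1 = gAut _ P.2.2 * triality F at h1
  rw [e, map_mul, ← mul_assoc, ← e', CfsgLib.TriNorm.intertwine hR₀, mul_assoc, triality_swapI, ← mul_assoc,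
    ← mul_assoc, ← map_mul] at h1
  have h2 := mul_right_cancel h1
  exact triality_not_mem ⟨(R₀.2.1 * swapI F)⁻¹ * P.2.2, by rw [map_mul, map_inv, ← h2, inv_mul_cancel_left]⟩

theorem conj_pow_triality (j : ℕ) {X : ↥(semiGroup (plusQ 4 F))} (hX : psgn 4 F X = 1) :
    ∃ X', psgn 4 F X' = 1 ∧ triality F ^ j * gAut _ X = gAut _ X' * triality F ^ j := by
  induction j with
  | zero => exact ⟨X, hX, by simp⟩
  | succ j ih =>
    obtain ⟨X', hX', e⟩ := ih
    obtain ⟨X'', hX'', e'⟩ := conj_triality hX'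
    exact ⟨X'', hX'', by rw [pow_succ', mul_assoc, e, ← mul_assoc, e', mul_assoc]⟩

/-- An automorphism commuting with an element interchanging the classes is induced by a semisimilarity. -/
theorem comm_mem_range {y : ↥(semiGroup (plusQ 4 F))} (hy : psgn 4 F y = -1) {u : MulAut (PG4 F)}
    (h : u * gAut _ y = gAut _ y * u) : u ∈ (gAut (plusQ 4 F)).range := by
  obtain ⟨z, i, rfl⟩ := exists_gAut_mul_pow u
  obtain ⟨y₀, hy₀, rfl⟩ := split_neg hy
  generalize hj : (i : ℕ) = j at h ⊢
  obtain ⟨y₁, -, e⟩ := conj_pow_triality j hy₀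
  have h' : gAut _ (z * y₁ * swapI F) * triality F ^ (2 * j) =
      gAut _ (y₀ * swapI F * z) * triality F ^ j := by
    rw [map_mul _ (y₀ * swapI F) z, mul_assoc _ (gAut _ z), ← h, map_mul _ y₀ (swapI F), mul_assoc (gAut _ z),
      ← mul_assoc (triality F ^ j), e, mul_assoc (gAut _ y₁) (triality F ^ j), pow_swapI, map_mul, map_mul]
    simp only [mul_assoc]
  rw [two_mul, pow_add, ← mul_assoc] at h'
  have h'' := mul_right_cancel h'
  have h3 : j % 3 = 0 := mem_range_of_pow ⟨(z * y₁ * swapI F)⁻¹ * (y₀ * swapI F * z), by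
    rw [map_mul, map_inv, ← h'', inv_mul_cancel_left]⟩
  rw [show j = 0 by omega, pow_zero, mul_one]
  exact ⟨z, rfl⟩

/-- The automorphisms induced by class-preserving semisimilarities. -/
noncomputable def posSub (m : ℕ) (F : Type*) [Field F] [Fintype F] :
    Subgroup (MulAut (Cfsg.POmega F ⇑(plusQ m F))) :=
  (psgn m F).ker.map (gAut (plusQ m F))

theorem posSub_normal {m : ℕ} (hm : 4 ≤ m) : (posSub m F).Normal := by
  rcases Nat.lt_or_ge m 5 with hm5 | hm5
  swap
  · have hg : Cfsg.gammaPOmega F ⇑(plusQ m F) = ⊤ := by rw [plusQ_coe]; exact Cfsg.Agent.S2695.result hm5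
    exact (psgn m F).normal_ker.map (gAut (plusQ m F)) (gAut_surjective hg)
  obtain rfl : m = 4 := by omega
  refine ⟨fun γ hγ β => ?_⟩
  obtain ⟨X, hX, rfl⟩ := hγ
  obtain ⟨x, j, rfl⟩ := exists_gAut_mul_pow β
  obtain ⟨X', hX', e⟩ := conj_pow_triality (j : ℕ) (X := X) hX
  refine ⟨x * X' * x⁻¹, (psgn 4 F).normal_ker.conj_mem _ hX' x, ?_⟩
  rw [map_mul, map_mul, map_inv, mul_assoc (gAut _ x) (triality F ^ (j : ℕ)), e]
  group

/-- A field automorphism comes from a semisimilarity preserving the classes. -/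
theorem mem_posSub_of_field {m : ℕ} (hm : 4 ≤ m) {x : MulAut (Cfsg.POmega F ⇑(plusQ m F))}
    (h : Cfsg.IsFieldAutClassPOmega (⇑(plusQ m F)) x) : x ∈ posSub m F := by
  obtain ⟨α, σ, -, e⟩ := field_normal h
  have hm' : α * x * α⁻¹ ∈ posSub m F := ⟨_, psgn_fEl σ, e.symm⟩
  have := (posSub_normal hm).conj_mem _ hm' α⁻¹
  rwa [inv_inv, mul_assoc α, inv_mul_cancel_left, inv_mul_cancel_right] at this

section Transfer

variable {K : Type*} [Group K]

theorem inn_map_conj (A : Subgroup (MulAut K)) (hinn : ∀ k, MulAut.conj k ∈ A) (β : MulAut K) (k : K) :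
    MulAut.conj k ∈ A.map (MulAut.conj β).toMonoidHom :=
  ⟨_, hinn (β⁻¹ k), (conj_map β _).trans (by rw [MulAut.apply_inv_self])⟩

variable [Finite K] {p : ℕ} [Fact p.Prime]

theorem core_conj_iff (A : Subgroup (MulAut K)) (x β : MulAut K) :
    Cfsg.pPrimeCore p ↥(A.map (MulAut.conj β).toMonoidHom ⊓ Subgroup.centralizer {β * x * β⁻¹}) = ⊥ ↔
      Cfsg.pPrimeCore p ↥(A ⊓ Subgroup.centralizer {x}) = ⊥ := by
  obtain ⟨e⟩ := nonempty_centralizer_iso (MulAut.conj β) (H := A) x
  exact ⟨fun h => CfsgLib.PCore.pPrimeCore_eq_bot_of_equiv e.symm h,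
    fun h => CfsgLib.PCore.pPrimeCore_eq_bot_of_equiv e h⟩

theorem centralizer_inv (x : MulAut K) :
    Subgroup.centralizer ({x⁻¹} : Set (MulAut K)) = Subgroup.centralizer {x} := by
  ext y
  rw [Subgroup.mem_centralizer_singleton_iff, Subgroup.mem_centralizer_singleton_iff]
  exact ⟨fun h => by simpa using (show Commute y x⁻¹ from h).inv_right.eq,
    fun h => (show Commute y x from h).inv_right.eq⟩

end Transfer

/-- A triality automorphism of order three never makes local balance fail. -/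
theorem tri_core {r : ℕ} [Fact r.Prime] [CharP F r] (h3r : r ≠ 3)
    (hinj : Function.Injective (MulAut.conj : PG4 F →* MulAut (PG4 F)))
    (A : Subgroup (MulAut (PG4 F))) (hinn : ∀ k, MulAut.conj k ∈ A) {X : ↥(semiGroup (plusQ 4 F))}
    (hX : psgn 4 F X = 1) (hx : (gAut _ X * triality F) ^ 3 = 1) :
    Cfsg.pPrimeCore 3 ↥(A ⊓ Subgroup.centralizer {gAut _ X * triality F}) = ⊥ := by
  have : Fact (Nat.Prime 3) := ⟨Nat.prime_three⟩
  have h30 : (3 : F) ≠ 0 := fun h => h3r ((Nat.prime_dvd_prime_iff_eq Fact.out Nat.prime_three).1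
    ((CharP.cast_eq_zero_iff F r 3).1 (by exact_mod_cast h)))
  have key : ∀ D : CfsgLib.TriNorm.Twist F, IsConj (gAut _ X * triality F) D.x →
      (∀ N, CfsgLib.TriNorm.Small D N → N = ⊥) →
      (∀ u, u * D.x = D.x * u → (∀ k ∈ fixedPts D.x, u k = k) → u ∈ Subgroup.zpowers D.x) →
      Cfsg.pPrimeCore 3 ↥(A ⊓ Subgroup.centralizer {gAut _ X * triality F}) = ⊥ := by
    intro D hD hN hC
    obtain ⟨β, hβ⟩ := isConj_iff.1 hD
    rw [← core_conj_iff A _ β, hβ]
    exact core_eq_bot hinj _ (inn_map_conj A hinn β) _ D.x_pow (D.core_fixed hN) hC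
  rcases CfsgLib.TriNorm.classify h3r hX hx with ⟨σ, h3, h⟩ | h
  · exact key _ h (fun N hN => CfsgLib.TriNorm.Small.eq_bot_twI (r := r) hN h30) fun u hu hfix =>
      CfsgLib.TriNorm.Twist.cent_zpowers _ (CfsgLib.TriNorm.good_twI h3) (CfsgLib.TriNorm.std_twI h3) (r := r)
        u hu hfix
  · exact key _ h (fun N hN => CfsgLib.TriNorm.Small.eq_bot_twM (r := r) hN h30) fun u hu hfix =>
      CfsgLib.TriNorm.Twist.cent_zpowers _ CfsgLib.TriNorm.good_twM (CfsgLib.TriNorm.std_twM h30) (r := r)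
        u hu hfix

set_option maxHeartbeats 6400000 in
/-- Up to conjugation an automorphism of prime order is induced by a semisimilarity, or it is a triality
automorphism, which is neither a field automorphism nor a failure of local balance. -/
theorem eight_cases {r : ℕ} [Fact r.Prime] [CharP F r]
    (hinj : Function.Injective (MulAut.conj : PG4 F →* MulAut (PG4 F)))
    (A : Subgroup (MulAut (PG4 F))) (hinn : ∀ k, MulAut.conj k ∈ A) {p : ℕ} [hp : Fact p.Prime] (hpr : p ≠ r)
    {x : MulAut (PG4 F)} (hxp : x ^ p = 1) :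
    (∃ β y, β * x * β⁻¹ = gAut (plusQ 4 F) y) ∨
      (Cfsg.pPrimeCore p ↥(A ⊓ Subgroup.centralizer {x}) = ⊥ ∧
        ¬ Cfsg.IsFieldAutClassPOmega (⇑(plusQ 4 F)) x) := by
  obtain ⟨y, i, rfl⟩ := exists_gAut_mul_pow x
  generalize hj : (i : ℕ) = j at hxp ⊢
  by_cases hj0 : j = 0
  · exact Or.inl ⟨1, y, by rw [hj0]; simp⟩
  rcases Int.units_eq_one_or (psgn 4 F y) with hy | hy
  swap
  · obtain ⟨y₀, hy₀, rfl⟩ := split_neg hy
    obtain ⟨y₁, -, e⟩ := conj_pow_triality (3 - j) hy₀
    have e3 : triality F ^ (3 - j) * triality F ^ j = 1 := by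
      rw [← pow_add, show 3 - j + j = 3 by omega, triality_pow_three]
    refine Or.inl ⟨(triality F ^ j)⁻¹ * 1, y₁ * swapI F, ?_⟩
    have ei : (triality F ^ j)⁻¹ = triality F ^ (3 - j) := inv_eq_of_mul_eq_one_left e3
    have hR := pow_swapI (F := F) (3 - j)
    have e6 : triality F ^ (2 * (3 - j)) * triality F ^ (j + j) = 1 := by
      rw [← pow_add, show 2 * (3 - j) + (j + j) = 3 * 2 by omega, pow_mul, triality_pow_three, one_pow]
    calc _ = triality F ^ (3 - j) * gAut _ (y₀ * swapI F) * (triality F ^ (j + j)) := by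
          rw [mul_one, inv_inv, ei, pow_add]; simp only [mul_assoc]
      _ = _ := by
          rw [map_mul, ← mul_assoc, e, mul_assoc (gAut _ y₁), hR, mul_assoc, mul_assoc, e6, mul_one, map_mul]
  · refine Or.inr ⟨?_, fun hf => ?_⟩
    swap
    · obtain ⟨z, -, hz⟩ := mem_posSub_of_field (le_refl 4) hf
      have := mem_range_of_pow (F := F) (j := j) ⟨y⁻¹ * z, by rw [map_mul, map_inv, hz, inv_mul_cancel_left]⟩
      omega
    have h3 : (gAut _ y * triality F ^ j) ^ 3 ∈ (gAut (plusQ 4 F)).range := by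
      obtain ⟨y', -, e⟩ := conj_pow_triality j hy
      obtain ⟨y'', -, e'⟩ := conj_pow_triality (j + j) hy
      refine ⟨y * y' * y'', ?_⟩
      calc gAut _ (y * y' * y'') = gAut _ y * gAut _ y' * gAut _ y'' * triality F ^ (j + j + j) := by
            rw [show j + j + j = 3 * j by ring, pow_mul, triality_pow_three, one_pow, mul_one, map_mul, map_mul]
        _ = gAut _ y * gAut _ y' * (gAut _ y'' * triality F ^ (j + j)) * triality F ^ j := by
            rw [pow_add _ (j + j)]; simp only [mul_assoc]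
        _ = gAut _ y * (gAut _ y' * triality F ^ j) * (triality F ^ j * gAut _ y) * triality F ^ j := by
            rw [← e', pow_add]; simp only [mul_assoc]
        _ = _ := by rw [← e, pow_three]; simp only [mul_assoc]
    obtain rfl : p = 3 := by
      by_contra hp3
      have hcop : Nat.Coprime p 3 := (Nat.coprime_primes hp.out Nat.prime_three).2 hp3
      have hmem : gAut _ y * triality F ^ j ∈ (gAut (plusQ 4 F)).range := by
        obtain ⟨n, hn⟩ := exists_pow_eq_self_of_coprime (n := 3)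
          (x := gAut _ y * triality F ^ j) (Nat.Coprime.coprime_dvd_right (orderOf_dvd_of_pow_eq_one hxp) hcop.symm)
        rw [← hn]
        exact pow_mem h3 n
      obtain ⟨z, hz⟩ := hmem
      have := mem_range_of_pow (F := F) (j := j) ⟨y⁻¹ * z, by rw [map_mul, map_inv, hz, inv_mul_cancel_left]⟩
      omega
    have hjlt : j < 3 := hj ▸ i.2
    rcases (show j = 1 ∨ j = 2 by omega) with rfl | rfl
    · rw [pow_one] at hxp ⊢
      exact tri_core (Ne.symm hpr) hinj A hinn hy hxp
    · obtain ⟨y', hy', e⟩ := conj_triality (X := y⁻¹) (by rw [map_inv, hy, inv_one])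
      have hinv : (gAut _ y * triality F ^ 2)⁻¹ = gAut _ y' * triality F := by
        rw [_root_.mul_inv_rev, ← map_inv, ← e, inv_eq_of_mul_eq_one_left
          (show triality F * triality F ^ 2 = 1 by rw [← pow_succ', triality_pow_three])]
      rw [← centralizer_inv, hinv]
      exact tri_core (Ne.symm hpr) hinj A hinn hy' (by rw [← hinv, inv_pow, hxp, inv_one])

end CfsgLib.POmegaBalPlus
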