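import Cfsg.Agent.Lib.AutPOmega.FormTransport
import Cfsg.Agent.Lib.AutPSL.BalanceCore

/-!
Transport of semisimilarity automorphisms along a linear isometry between forms on different index types.
-/

set_option autoImplicit false
set_option linter.unusedSectionVars false

namespace CfsgLib.POmegaBalPlus

open Matrix QuadraticMap CfsgLib.Orth CfsgLib.FieldPOmega CfsgLib.AutBalance Cfsg.Agent.GammaO57

variable {F : Type*} [Field F] {ι κ : Type} [Fintype ι] [DecidableEq ι] [Fintype κ] [DecidableEq κ]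
  {Q : QuadraticForm F (ι → F)} {Q' : QuadraticForm F (κ → F)}
  (T : (ι → F) ≃ₗ[F] (κ → F)) (hT : ∀ v, Q' (T v) = Q v)

/-- The isometry groups of isometric forms. -/
noncomputable def isoT : O Q ≃* O Q' where
  toFun g := mkO (T.toLinearMap ∘ₗ app g ∘ₗ T.symm.toLinearMap) (T.toLinearMap ∘ₗ app g⁻¹ ∘ₗ T.symm.toLinearMap)
    (LinearMap.ext fun x => by simp [app_app_inv]) (LinearMap.ext fun x => by simp [app_inv_app])
    (fun x => by simp [hT, ← hT (T.symm x)])
  invFun g := mkO (T.symm.toLinearMap ∘ₗ app g ∘ₗ T.toLinearMap) (T.symm.toLinearMap ∘ₗ app g⁻¹ ∘ₗ T.toLinearMap)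
    (LinearMap.ext fun x => by simp [app_app_inv]) (LinearMap.ext fun x => by simp [app_inv_app])
    (fun x => by simp [← hT])
  left_inv g := ext_app fun x => by simp [app_mkO]
  right_inv g := ext_app fun x => by simp [app_mkO]
  map_mul' g h := ext_app fun x => by simp [app_mkO]

theorem app_isoT (g : O Q) (v : ι → F) : app (isoT T hT g) (T v) = T (app g v) := by
  simp [isoT, app_mkO]

include hT in
theorem nondeg_of_iso (hQ : Q'.polarBilin.Nondegenerate) : Q.polarBilin.Nondegenerate := by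
  have hp : ∀ x y, polar Q x y = polar Q' (T x) (T y) := fun x y => by
    simp only [QuadraticMap.polar, ← hT, map_add]
  have key : ∀ x, (∀ y, polar Q x y = 0) → x = 0 := fun x hx => by
    refine T.injective ((hQ.1 (T x) fun v => ?_).trans T.map_zero.symm)
    have h := hx (T.symm v)
    rwa [hp, T.apply_symm_apply] at h
  exact ⟨key, fun y hy => key y fun x => by rw [polar_comm]; exact hy x⟩

/-- The groups `PΩ` of isometric forms. -/
noncomputable def isoP : Cfsg.POmega F ⇑Q ≃* Cfsg.POmega F ⇑Q' :=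
  QuotientGroup.congr _ _ (commEquiv (isoT T hT)) (map_center_top _)

theorem isoP_mk (s : ↥(Cfsg.Omega F ⇑Q)) :
    isoP T hT (QuotientGroup.mk s) = QuotientGroup.mk (commEquiv (isoT T hT) s) := rfl

/-- Intertwined semisimilarities induce transported automorphisms. -/
theorem congr_gAut_of_semi (x : ↥(semiGroup Q)) (y : ↥(semiGroup Q'))
    (h : ∀ v, semi y.1 (T v) = T (semi x.1 v)) : MulAut.congr (isoP T hT) (gAut Q x) = gAut Q' y := by
  apply MulEquiv.ext
  intro k
  obtain ⟨k', rfl⟩ := (isoP T hT).surjective k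
  induction k' using QuotientGroup.induction_on with
  | _ s =>
    show isoP T hT (gAut Q x ((isoP T hT).symm (isoP T hT (QuotientGroup.mk s)))) = _
    rw [MulEquiv.symm_apply_apply, gAut_mk, isoP_mk, isoP_mk, gAut_mk]
    refine congrArg _ (Subtype.ext (ext_app fun z => ?_))
    obtain ⟨z', rfl⟩ := T.surjective z
    obtain ⟨w, rfl⟩ : ∃ w, semi x.1 w = z' := ⟨_, semi_semi_inv _ z'⟩
    show app (isoT T hT (conjO Q x (s : O Q))) _ = app (conjO Q' y (isoT T hT (s : O Q))) _
    rw [app_isoT, semi_app_conj, ← h w, semi_app_conj, app_isoT, h]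

include hT in
/-- A semisimilarity pulled back along the isometry. -/
theorem exists_pullback (y : ↥(semiGroup Q')) :
    ∃ x : ↥(semiGroup Q), ∀ v, semi y.1 (T v) = T (semi x.1 v) := by
  set τ := y.1.right
  let L : (ι → F) ≃ₗ[F] (ι → F) :=
    { toFun := fun z => T.symm (semi y.1 (T (⇑τ.symm ∘ z)))
      invFun := fun z => ⇑τ ∘ T.symm (semi y.1⁻¹ (T z))
      map_add' := fun z w => by
        rw [show ⇑τ.symm ∘ (z + w) = ⇑τ.symm ∘ z + ⇑τ.symm ∘ w from funext fun i => map_add _ _ _, map_add,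
          semi_add, map_add]
      map_smul' := fun t z => by
        rw [show ⇑τ.symm ∘ (t • z) = τ.symm t • (⇑τ.symm ∘ z) from funext fun i => map_mul _ _ _, map_smul,
          Cfsg.Agent.GammaO57.semi_smul, show y.1.right (τ.symm t) = t from τ.apply_symm_apply t, map_smul]
        rfl
      left_inv := fun z => by
        dsimp only
        rw [LinearEquiv.apply_symm_apply, semi_inv_semi, LinearEquiv.symm_apply_apply]
        exact funext fun i => τ.apply_symm_apply _
      right_inv := fun z => by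
        dsimp only
        rw [show ⇑τ.symm ∘ (⇑τ ∘ T.symm (semi y.1⁻¹ (T z))) = T.symm (semi y.1⁻¹ (T z)) from
            funext fun i => τ.symm_apply_apply _,
          LinearEquiv.apply_symm_apply, semi_semi_inv, LinearEquiv.symm_apply_apply] }
  let A : GL ι F := Matrix.GeneralLinearGroup.toLin.symm (LinearMap.GeneralLinearGroup.ofLinearEquiv L)
  have hA : ∀ w, (A : Matrix ι ι F) *ᵥ w = L w := fun w => LinearMap.toMatrix'_mulVec _ w
  have key : ∀ v, semi (⟨A, τ⟩ : GLS ι F) v = T.symm (semi y.1 (T v)) := fun v => by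
    show (A : Matrix ι ι F) *ᵥ (⇑τ ∘ v) = _
    rw [hA]
    show T.symm (semi y.1 (T (⇑τ.symm ∘ (⇑τ ∘ v)))) = _
    rw [show ⇑τ.symm ∘ (⇑τ ∘ v) = v from funext fun i => τ.symm_apply_apply _]
  obtain ⟨c, hc⟩ := y.2
  refine ⟨⟨⟨A, τ⟩, c, fun v => ?_⟩, fun v => by rw [key, LinearEquiv.apply_symm_apply]⟩
  rw [key, ← hT, LinearEquiv.apply_symm_apply, hc, hT]

/-- The fixed points correspond under an isomorphism. -/
def fixCongr {X Y : Type*} [Group X] [Group Y] (ψ : X ≃* Y) (x : MulAut X) :
    fixedPts x ≃* fixedPts (MulAut.congr ψ x) where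
  toFun z := ⟨ψ z.1, by
    show ψ (x (ψ.symm (ψ z.1))) = ψ z.1
    rw [MulEquiv.symm_apply_apply, show x z.1 = z.1 from z.2]⟩
  invFun z := ⟨ψ.symm z.1, by
    show x (ψ.symm z.1) = ψ.symm z.1
    apply ψ.injective
    rw [MulEquiv.apply_symm_apply]
    exact z.2⟩
  left_inv z := Subtype.ext (ψ.symm_apply_apply _)
  right_inv z := Subtype.ext (ψ.apply_symm_apply _)
  map_mul' z w := Subtype.ext (map_mul ψ z.1 w.1)

end CfsgLib.POmegaBalPlus
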