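import Cfsg.Agent.Helper57PlusFieldAut

/-!
The product attached to the trilinear form of triality, and the group of triples of semisimilarities
that scale the form.
-/

set_option autoImplicit false
set_option linter.unusedSectionVars false

namespace CfsgLib.TriNorm

open Matrix QuadraticMap CfsgLib.Orth CfsgLib.FieldPOmega Cfsg.Agent.GammaO57 Cfsg.Agent.Triality57
  Cfsg.Agent.OutPlus57 Cfsg.Agent.PlusField57 Cfsg.Agent.Levi57 Cfsg.Agent.PlusSplit57

variable {F : Type*} [Field F]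

/-- The product of two vectors: the vector representing the trilinear form with two slots filled. -/
def prod (a b : I → F) : I → F := fun k => tri a b (Pi.single k.swap 1)

theorem prod_eq (a b : I → F) : prod a b = Sum.elim
    ![a (.inl 0) * b (.inr 3) - a (.inl 1) * b (.inl 2) + a (.inl 2) * b (.inl 1) - a (.inl 3) * b (.inl 0),
      -(a (.inl 0) * b (.inr 2)) - a (.inl 1) * b (.inl 3) + a (.inr 2) * b (.inl 0) + a (.inr 3) * b (.inl 1),
      a (.inl 0) * b (.inr 1) - a (.inr 1) * b (.inl 0) - a (.inl 2) * b (.inl 3) + a (.inr 3) * b (.inl 2),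
      a (.inr 0) * b (.inl 0) + a (.inl 1) * b (.inr 1) + a (.inl 2) * b (.inr 2) + a (.inr 3) * b (.inr 3)]
    ![-(a (.inr 0) * b (.inl 3)) + a (.inr 1) * b (.inr 2) - a (.inr 2) * b (.inr 1) + a (.inr 3) * b (.inr 0),
      a (.inr 0) * b (.inl 2) + a (.inr 1) * b (.inr 3) - a (.inl 2) * b (.inr 0) - a (.inl 3) * b (.inr 1),
      -(a (.inr 0) * b (.inl 1)) + a (.inl 1) * b (.inr 0) + a (.inr 2) * b (.inr 3) - a (.inl 3) * b (.inr 2),
      -(a (.inl 0) * b (.inr 0)) - a (.inr 1) * b (.inl 1) - a (.inr 2) * b (.inl 2) - a (.inl 3) * b (.inl 3)] := by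
  funext k
  rcases k with i | i <;> fin_cases i <;> simp [prod, tri_eq] <;> ring_nf

theorem polar_prod (a b z : I → F) : polar (plusQ 4 F) (prod a b) z = tri a b z := by
  rw [polar_plusQ, prod_eq, tri_eq]
  simp [Fin.sum_univ_four]
  ring

theorem prod_eq_zero_iff {a b : I → F} : prod a b = 0 ↔ ∀ z, tri a b z = 0 := by
  refine ⟨fun h z => by rw [← polar_prod, h, polar_zero_left], fun h => funext fun k => ?_⟩
  exact h _

theorem prod_smul_left (t : F) (a b : I → F) : prod (t • a) b = t • prod a b := by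
  funext k; simp [prod, tri_eq]; ring

theorem prod_smul_right (t : F) (a b : I → F) : prod a (t • b) = t • prod a b := by
  funext k; simp [prod, tri_eq]; ring

theorem tri_smul (r s t : F) (a b c : I → F) : tri (r • a) (s • b) (t • c) = r * s * t * tri a b c := by
  simp [tri_eq]; ring

theorem Q_eq (v : I → F) : plusQ 4 F v = v (.inl 0) * v (.inr 0) + v (.inl 1) * v (.inr 1) +
    v (.inl 2) * v (.inr 2) + v (.inl 3) * v (.inr 3) := by
  rw [plusQ_coe]; simp [Cfsg.quadFormPlus, Fin.sum_univ_four]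

theorem Q_prod (a b : I → F) : plusQ 4 F (prod a b) = -(plusQ 4 F a * plusQ 4 F b) := by
  rw [Q_eq, Q_eq, Q_eq, prod_eq]
  simp
  ring

set_option maxHeartbeats 4000000 in
theorem prod_prod (a b c : I → F) :
    prod (prod b c) (prod c a) = -tri a b c • c + plusQ 4 F c • prod a b := by
  rw [Q_eq, tri_eq, prod_eq (prod b c) (prod c a), prod_eq a b, prod_eq b c, prod_eq c a]
  funext k
  rcases k with i | i <;> fin_cases i <;> simp <;> ring

variable [Fintype F]

/-- Three semisimilarities. -/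
abbrev SS (F : Type*) [Field F] :=
  ↥(semiGroup (plusQ 4 F)) × ↥(semiGroup (plusQ 4 F)) × ↥(semiGroup (plusQ 4 F))

/-- Three semisimilarities over one field automorphism that scale the trilinear form. -/
def IsTrip (P : SS F) : Prop :=
  P.2.1.1.right = P.1.1.right ∧ P.2.2.1.right = P.1.1.right ∧
    ∃ c : Fˣ, ∀ x y z, tri (semi P.1.1 x) (semi P.2.1.1 y) (semi P.2.2.1 z) = c * P.1.1.right (tri x y z)

/-- The group of such triples. -/
def tripSub (F : Type*) [Field F] [Fintype F] : Subgroup (SS F) where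
  carrier := {P | IsTrip P}
  one_mem' := ⟨rfl, rfl, 1, fun x y z => by
    rw [Units.val_one, one_mul]
    show tri (semi 1 x) (semi 1 y) (semi 1 z) = tri x y z
    rw [semi_one, semi_one, semi_one]⟩
  mul_mem' := by
    rintro P R ⟨h1, h2, c, hc⟩ ⟨k1, k2, d, hd⟩
    refine ⟨?_, ?_, c * Units.map P.1.1.right.toMonoidHom d, fun x y z => ?_⟩
    · show P.2.1.1.right * R.2.1.1.right = P.1.1.right * R.1.1.right
      rw [h1, k1]
    · show P.2.2.1.right * R.2.2.1.right = P.1.1.right * R.1.1.right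
      rw [h2, k2]
    · show tri (semi (P.1.1 * R.1.1) x) (semi (P.2.1.1 * R.2.1.1) y) (semi (P.2.2.1 * R.2.2.1) z) = _
      rw [semi_mul, semi_mul, semi_mul, hc, hd, map_mul, Units.val_mul, ← mul_assoc]
      rfl
  inv_mem' := by
    rintro P ⟨h1, h2, c, hc⟩
    refine ⟨?_, ?_, Units.map P.1.1.right.symm.toMonoidHom c⁻¹, fun x y z => ?_⟩
    · show P.2.1.1.right⁻¹ = P.1.1.right⁻¹
      rw [h1]
    · show P.2.2.1.right⁻¹ = P.1.1.right⁻¹
      rw [h2]
    · have h := congrArg P.1.1.right.symm (hc (semi P.1.1⁻¹ x) (semi P.2.1.1⁻¹ y) (semi P.2.2.1⁻¹ z))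
      rw [semi_semi_inv, semi_semi_inv, semi_semi_inv, map_mul, RingEquiv.symm_apply_apply] at h
      show tri (semi P.1.1⁻¹ x) (semi P.2.1.1⁻¹ y) (semi P.2.2.1⁻¹ z) =
        P.1.1.right.symm ((c⁻¹ : Fˣ) : F) * P.1.1.right.symm (tri x y z)
      rw [h, ← mul_assoc, ← map_mul, Units.inv_mul, map_one, one_mul]

theorem mem_tripSub {P : SS F} : P ∈ tripSub F ↔ IsTrip P := Iff.rfl

/-- Cyclic shift of a triple. -/
def shift (P : SS F) : SS F := (P.2.1, P.2.2, P.1)

@[simp] theorem shift_mul (P R : SS F) : shift (P * R) = shift P * shift R := rfl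

@[simp] theorem shift_inv (P : SS F) : shift P⁻¹ = (shift P)⁻¹ := rfl

theorem shift_mem {P : SS F} (h : P ∈ tripSub F) : shift P ∈ tripSub F := by
  obtain ⟨h1, h2, c, hc⟩ := h
  refine ⟨h2.trans h1.symm, h1.symm, c, fun y z x => ?_⟩
  show tri (semi P.2.1.1 y) (semi P.2.2.1 z) (semi P.1.1 x) = c * P.2.1.1.right _
  rw [tri_cycle, hc, h1, tri_cycle x y z]

theorem intertwine {P : SS F} (h : P ∈ tripSub F) :
    triality F * gAut (plusQ 4 F) P.1 = gAut (plusQ 4 F) P.2.1 * triality F := by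
  obtain ⟨-, -, c, hc⟩ := h
  exact triality_intertwine hc

theorem semi_smul_zero (x : GLS I F) : semi x (0 : I → F) = 0 := by
  simpa using Cfsg.Agent.GammaO57.semi_smul x 0 (0 : I → F)

/-- The product is equivariant under triples, up to scalars. -/
theorem prod_equivariant {P : SS F} (h : P ∈ tripSub F) : ∃ k : Fˣ, ∀ a b : I → F,
    prod (semi P.1.1 a) (semi P.2.1.1 b) = (k : F) • semi P.2.2.1 (prod a b) := by
  obtain ⟨-, h2, c, hc⟩ := h
  obtain ⟨μ, hμ⟩ := P.2.2.2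
  have hp : ∀ v w, polar (plusQ 4 F) (semi P.2.2.1 v) (semi P.2.2.1 w) =
      (μ : F) * P.2.2.1.right (polar (plusQ 4 F) v w) := fun v w => by
    rw [QuadraticMap.polar, ← semi_add, hμ, hμ, hμ, QuadraticMap.polar, map_sub, map_sub]
    ring
  refine ⟨c * μ⁻¹, fun a b => sub_eq_zero.1 ((plusQ_nondegenerate 4).1 _ fun z => ?_)⟩
  obtain ⟨w, rfl⟩ : ∃ w, semi P.2.2.1 w = z := ⟨_, semi_semi_inv _ z⟩
  show polar (plusQ 4 F) _ _ = 0
  rw [polar_sub_left, polar_prod, hc, polar_smul_left, hp, h2, polar_prod, smul_eq_mul, Units.val_mul]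
  linear_combination (c : F) * P.1.1.right (tri a b w) * (Units.inv_mul μ).symm

theorem trip_prod_zero {P : SS F} (h : P ∈ tripSub F) {a b : I → F} (hab : prod a b = 0) :
    prod (semi P.1.1 a) (semi P.2.1.1 b) = 0 := by
  obtain ⟨k, hk⟩ := prod_equivariant h
  rw [hk, hab, semi_smul_zero, smul_zero]

/-! ### Every class-preserving semisimilarity is the first member of a triple -/

/-- The first members of triples. -/
noncomputable def fstSub (F : Type*) [Field F] [Fintype F] : Subgroup ↥(semiGroup (plusQ 4 F)) :=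
  (tripSub F).map (MonoidHom.fst _ _)

theorem mem_fstSub {y : ↥(semiGroup (plusQ 4 F))} : y ∈ fstSub F ↔ ∃ P ∈ tripSub F, P.1 = y := Iff.rfl

theorem scalar_mem_fstSub {x : ↥(semiGroup (plusQ 4 F))} (h1 : x.1.right = 1) {c : Fˣ}
    (hc : x.1.left = GeneralLinearGroup.scalar I c) : x ∈ fstSub F := by
  refine ⟨(x, 1, 1), ⟨h1.symm, h1.symm, c, fun u v w => ?_⟩, rfl⟩
  show tri (semi x.1 u) (semi 1 v) (semi 1 w) = c * x.1.right _
  rw [semi_one, semi_one, Cfsg.Agent.GammaO57.semi, hc, h1, CfsgLib.FieldPOmega.scalar_mulVec]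
  simpa using tri_smul (c : F) 1 1 u v w

theorem omega_mem_fstSub (s : ↥(Cfsg.Omega F ⇑(plusQ 4 F))) : omegaIn (plusQ 4 F) s ∈ fstSub F := by
  obtain ⟨-, g, h, hg, hh, e⟩ := omega_le_partners s.2
  refine ⟨(omegaIn _ s, omegaIn _ ⟨g, hg⟩, omegaIn _ ⟨h, hh⟩), ⟨rfl, rfl, 1, fun x y z => ?_⟩, rfl⟩
  show tri (semi (SemidirectProduct.inl _) x) (semi (SemidirectProduct.inl _) y)
    (semi (SemidirectProduct.inl _) z) = _
  rw [app_semi, app_semi, app_semi, Units.val_one, one_mul]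
  exact e x y z

/-- The standard field automorphism in all three places. -/
theorem fEl_trip (σ : F ≃+* F) :
    ((fEl (plusQ_fixes σ), fEl (plusQ_fixes σ), fEl (plusQ_fixes σ)) : SS F) ∈ tripSub F := by
  refine ⟨rfl, rfl, 1, fun x y z => ?_⟩
  have hs : ∀ u : I → F, semi (fEl (plusQ_fixes (m := 4) σ)).1 u = σ ∘ u := fun u => by
    show (1 : Matrix I I F) *ᵥ (σ ∘ u) = _
    rw [one_mulVec]
  show tri (semi _ x) (semi _ y) (semi _ z) = _
  rw [hs, hs, hs, Units.val_one, one_mul, tri_eq, tri_eq]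
  show _ = σ _
  simp

theorem levi_trip (d : Fˣ) : ∃ P ∈ tripSub F, P.1 = oIn (plusQ 4 F) (levi 4 F (diagT 0 d)) ∧
    P.2.1 = blkS 4 F d := by
  set rA := oIn (plusQ 4 F) (refl (plusQ 4 F) (pv (lastI (le_refl 4)) (-1))) with hrA
  refine ⟨(oIn (plusQ 4 F) (levi 4 F (diagT 0 d)), blkS 4 F d, rA * blkS 4 F d * rA),
    ⟨rfl, rfl, d, fun x y z => ?_⟩, rfl, rfl⟩
  show tri (semi (oIn (plusQ 4 F) (levi 4 F (diagT 0 d))).1 x) (semi (blkS 4 F d).1 y)
    (semi (rA.1 * (blkS 4 F d).1 * rA.1) z) = (d : F) * (1 : F ≃+* F) _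
  rw [semi_mul, semi_mul, hrA, Cfsg.Agent.OutEight57.semi_oIn, Cfsg.Agent.OutEight57.semi_oIn, Cfsg.Agent.OutEight57.semi_oIn,
    Cfsg.Agent.OutEight57.semi_blk, Cfsg.Agent.OutEight57.semi_blk, Cfsg.Agent.OutEight57.app_levi0, Cfsg.Agent.OutEight57.app_rA, Cfsg.Agent.OutEight57.app_rA,
    tri_eq, tri_eq, RingAut.one_apply]
  simp
  field_simp

theorem fst_of_gAut_eq {x y : ↥(semiGroup (plusQ 4 F))} (hy : y ∈ fstSub F)
    (h : gAut (plusQ 4 F) x = gAut (plusQ 4 F) y) : x ∈ fstSub F := by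
  have h1 : gAut (plusQ 4 F) (x * y⁻¹) = 1 := by rw [map_mul, map_inv, h, mul_inv_cancel]
  obtain ⟨hr, c, hc⟩ := gAut_eq_one (plusQ_nondegenerate 4) (card_PI le_rfl) (plusData (by omega)) h1
  simpa using mul_mem (scalar_mem_fstSub hr hc) hy

/-- A semisimilarity preserving the two classes is the first member of a triple. -/
theorem exists_trip {x : ↥(semiGroup (plusQ 4 F))} (hx : psgn 4 F x = 1) :
    ∃ P ∈ tripSub F, P.1 = x := by
  classical
  obtain ⟨y, hy, e⟩ := split_field x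
  have hF : fieldIn (Q := plusQ 4 F) plusQ_prime x.1.right ∈ fstSub F := by
    refine ⟨_, fEl_trip x.1.right, Subtype.ext ?_⟩
    rfl
  suffices h : y ∈ fstSub F by
    rw [e]; exact mul_mem h hF
  have hys : psgn 4 F y = 1 := by
    rw [e, map_mul, show fieldIn (Q := plusQ 4 F) plusQ_prime x.1.right = fEl (plusQ_fixes x.1.right) from
      Subtype.ext rfl, psgn_fEl, mul_one] at hx
    exact hx
  by_cases h2 : (2 : F) = 0
  · have : CharP F 2 := CharTwo.of_one_ne_zero_of_two_eq_zero one_ne_zero h2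
    have hm : gAut (plusQ 4 F) y ∈ indAut 4 F := mem_indAut.2 ⟨y, hys, hy, rfl⟩
    rw [indAut_eq_inn le_rfl] at hm
    obtain ⟨k, hk⟩ := hm
    obtain ⟨s, rfl⟩ := QuotientGroup.mk_surjective k
    exact fst_of_gAut_eq (omega_mem_fstSub s) (by rw [gAut_omegaIn, hk])
  obtain ⟨d₀, hd₀⟩ := CfsgLib.OrthOmega.exists_not_square h2
  set d := Units.mk0 d₀ (fun h => hd₀ (h ▸ IsSquare.zero))
  have hd : ¬ IsSquare (d : F) := hd₀
  obtain ⟨P, hP, hP1, hP2⟩ := levi_trip (F := F) d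
  have hle : clsSub (le_refl 4) d ≤ (fstSub F).map (outMap (plusQ 4 F)) := by
    refine (Subgroup.closure_le _).2 ?_
    rintro w (rfl | rfl)
    · exact ⟨_, ⟨P, hP, hP1⟩, rfl⟩
    · exact ⟨_, ⟨shift P, shift_mem hP, hP2⟩, rfl⟩
  obtain ⟨w, hw, hwy⟩ := hle (outMap_mem_clsSub h2 (le_refl 4) hd hys hy)
  have h1 : outMap (plusQ 4 F) (w⁻¹ * y) = 1 := by rw [map_mul, map_inv, hwy, inv_mul_cancel]
  rw [outMap_inn] at h1
  obtain ⟨k, hk⟩ := h1
  obtain ⟨s, rfl⟩ := QuotientGroup.mk_surjective k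
  have h3 : w⁻¹ * y ∈ fstSub F := fst_of_gAut_eq (omega_mem_fstSub s) (by rw [gAut_omegaIn, hk])
  simpa using mul_mem hw h3

end CfsgLib.TriNorm
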