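import Cfsg.Agent.Lib.POmegaBalPlus.TriLayer

/-!
A normal subgroup of order prime to three among the invariant isometries of a twist of triality meets the
stabiliser of the base line trivially.
-/

set_option autoImplicit false
set_option linter.unusedSectionVars false

namespace CfsgLib.TriNorm

open Matrix QuadraticMap CfsgLib.Orth CfsgLib.FieldPOmega Cfsg.Agent.GammaO57 Cfsg.Agent.Triality57
  Cfsg.Agent.OutPlus57

variable {F : Type*} [Field F] [Fintype F]

/-- A normal subgroup of order prime to three of the invariant isometries. -/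
structure Small (D : Twist F) (N : Subgroup (O (plusQ 4 F))) : Prop where
  le : N ≤ D.fix
  conj : ∀ f ∈ D.fix, ∀ n ∈ N, f * n * f⁻¹ ∈ N
  cop : Nat.Coprime 3 (Nat.card N)

variable {D : Twist F} {N : Subgroup (O (plusQ 4 F))}

theorem Small.comm_mem (h : Small D N) {f n : O (plusQ 4 F)} (hf : f ∈ D.fix) (hn : n ∈ N) :
    n * f * n⁻¹ * f⁻¹ ∈ N := by
  have e : n * f * n⁻¹ * f⁻¹ = n * (f * n⁻¹ * f⁻¹) := by group
  rw [e]
  exact mul_mem hn (h.conj f hf _ (inv_mem hn))

/-- Two elements in the braid relation generate an element of order three. -/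
theorem Small.kill (h : Small D N) {u v : O (plusQ 4 F)} (hu : u ∈ N) (hv : v ∈ D.fix)
    (hb : u * v * u = v * u * v) (h6 : (u * v) ^ 6 = 1) (h2 : (u * v) ^ 2 ≠ 1) : False := by
  have hp : u * v ∈ D.fix := mul_mem (h.le hu) hv
  have e : u * v * u * (u * v)⁻¹ = v := by
    rw [hb, mul_assoc v u v, mul_inv_cancel_right]
  have hvN : v ∈ N := by rw [← e]; exact h.conj _ hp u hu
  have hq : (u * v) ^ 2 ∈ N := pow_mem (mul_mem hu hvN) 2
  have ho : orderOf ((u * v) ^ 2) = 3 :=
    orderOf_eq_prime (hp := ⟨Nat.prime_three⟩) (by rw [← pow_mul]; exact h6) h2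
  have hd : 3 ∣ Nat.card N := ho ▸ Subgroup.orderOf_dvd_natCard N hq
  exact absurd (Nat.eq_one_of_dvd_coprimes h.cop dvd_rfl hd) (by norm_num)

/-- The elements common to the two twists. -/
structure Std (D : Twist F) (σ : F ≃+* F) : Prop where
  hu : ∀ t, uEl σ t ∈ D.fix
  hum : ∀ t, uElM σ t ∈ D.fix
  hg₁ : ∃ g ∈ D.rad, app g (f0 F) (.inr 1) ≠ 0 ∧ app g (f0 F) (.inr 2) = 0
  hg₂ : ∃ g ∈ D.rad, app g (f0 F) (.inr 2) ≠ 0 ∧ app g (f0 F) (.inr 1) = 0

theorem Std.u_rad {σ : F ≃+* F} (S : Std D σ) (t : F) : uEl σ t ∈ D.rad :=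
  Subgroup.mem_inf.2 ⟨S.hu t, uEl_mem_uni σ t⟩

theorem app_uEl_f0 (σ : F ≃+* F) (t : F) : app (uEl σ t) (f0 F) =
    Sum.elim ![-(t * σ (σ t)), 0, 0, t] ![1, 0, 0, σ (σ t)] := by
  rw [f0_vec]
  simp only [uEl, app_mul, appE4, appE5, appE12]
  apply vec_ext <;> simp <;> ring

theorem uEl_lay (σ : F ≃+* F) (t : F) {v : I → F} (hv : v ∈ lay F 4) :
    app (uEl σ t) v - v ∈ lay F 2 := by
  have h0 : v (.inr 0) = 0 := hv _ le_rfl
  intro i hi
  rw [Pi.sub_apply, sub_eq_zero]
  conv_lhs => rw [vec_eq v]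
  simp only [uEl, app_mul, appE4, appE5, appE12]
  rcases i with i | i <;> fin_cases i <;> simp [wt, h0] at hi ⊢

theorem lay_three_split {v : I → F} (hv : v ∈ lay F 3) :
    v - v (.inl 3) • Pi.single (.inl 3) 1 - v (.inr 3) • Pi.single (.inr 3) 1 ∈ lay F 2 := by
  intro i hi
  rcases i with i | i <;> fin_cases i <;> simp [wt] at hi ⊢ <;> exact hv _ (by decide)

theorem lay_four_split {v : I → F} (hv : v ∈ lay F 4) :
    v - v (.inr 1) • Pi.single (.inr 1) 1 - v (.inr 2) • Pi.single (.inr 2) 1 ∈ lay F 3 := by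
  intro i hi
  rcases i with i | i <;> fin_cases i <;> simp [wt] at hi ⊢
  exact hv _ (by decide)

/-- An element of the stabiliser commuting with the first two layers is a scalar on every layer. -/
theorem Std.graded_scalar {σ : F ≃+* F} (S : Std D σ) {f : O (plusQ 4 F)} (hf : f ∈ D.fix) {κ₀ : F}
    (h : app f (e0 F) = κ₀ • e0 F) (hcomm : ∀ g ∈ D.rad, f * g = g * f) :
    ∃ κ : F, κ * κ = 1 ∧ LowerBy κ f := by
  have hst : ∀ {k : ℕ} {v : I → F}, v ∈ lay F k → app f v ∈ lay F k := fun hv => D.lay_stable hf h hv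
  have K := D.keeps hf h
  have hκ0 : κ₀ ≠ 0 := fun e => by
    have := congrFun (app_injective f (h.trans (by rw [e, zero_smul, map_zero]))) (.inl 0)
    simp at this
  set κ := κ₀⁻¹
  have h5 : ∀ v, app f v (.inr 0) = κ * v (.inr 0) := fun v => by
    have h1 := polar_app f v (e0 F)
    rw [h, polar_smul_right, polar_e0, polar_e0, smul_eq_mul] at h1
    rw [← h1, inv_mul_cancel_left₀ hκ0]
  set a := app f (f0 F)
  have ha : a - κ • f0 F ∈ lay F 4 := fun i hi => by
    obtain rfl : i = .inr 0 := by revert hi; revert i; decide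
    show app f (f0 F) (.inr 0) - κ * f0 F (.inr 0) = 0
    rw [h5, sub_self]
  have hd : ∀ g ∈ D.rad, app f (app g (f0 F) - f0 F) - κ • (app g (f0 F) - f0 F) =
      app g (a - κ • f0 F) - (a - κ • f0 F) := fun g hg => by
    have e := congrArg (fun m => app m (f0 F)) (hcomm g hg)
    simp only [app_mul] at e
    rw [map_sub, map_sub, map_smul, e]
    module
  -- the third layer
  have hbasis : ∀ (j : I), wt j = 3 → ∀ g ∈ D.rad, app g (f0 F) j ≠ 0 →
      (∀ j', wt j' = 3 → j' ≠ j → app g (f0 F) j' = 0) →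
      app f (Pi.single j 1) - κ • Pi.single j 1 ∈ lay F 3 := by
    intro j hj g hg hk hk'
    set d := app g (f0 F) - f0 F
    set k := app g (f0 F) j
    have hd4 : d ∈ lay F 4 := by simpa [d] using hg.2 4 (f0 F) (lay_five _)
    have h1 : app f d - κ • d ∈ lay F 3 := by
      rw [hd g hg]
      simpa using hg.2 3 _ ha
    have hr : d - k • Pi.single j 1 ∈ lay F 3 := by
      intro i hi
      have hi' : wt i = 3 ∨ wt i = 4 := by have := wt_lt i; omega
      rcases hi' with e | e
      · have h0 : (f0 F) i = 0 := Pi.single_eq_of_ne (fun e' => by rw [e'] at e; exact absurd e (by decide)) 1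
        by_cases hij : i = j
        · subst hij; simp [d, k, h0]
        · simp [d, h0, hk' i e hij, hij]
      · rw [Pi.sub_apply, hd4 i e.ge, Pi.smul_apply, Pi.single_eq_of_ne (fun e' => by rw [e'] at e; omega) 1,
          smul_zero, sub_zero]
    have e2 : k • (app f (Pi.single j 1) - κ • Pi.single j 1) = (app f d - κ • d) -
        (app f (d - k • Pi.single j 1) - κ • (d - k • Pi.single j 1)) := by
      rw [map_sub (app f) d (k • Pi.single j 1), map_smul]; module
    have h2 : k • (app f (Pi.single j 1) - κ • Pi.single j 1) ∈ lay F 3 := by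
      rw [e2]
      exact Submodule.sub_mem _ h1 (Submodule.sub_mem _ (hst hr) (Submodule.smul_mem _ _ hr))
    simpa [smul_smul, inv_mul_cancel₀ hk] using Submodule.smul_mem (lay F 3) k⁻¹ h2
  obtain ⟨g₁, hg₁, hk₁, hz₁⟩ := S.hg₁
  obtain ⟨g₂, hg₂, hk₂, hz₂⟩ := S.hg₂
  have hb1 := hbasis (.inr 1) rfl g₁ hg₁ hk₁ (fun j' e e' => by
    rcases j' with i | i <;> fin_cases i <;> simp [wt] at e e' ⊢; exact hz₁)
  have hb2 := hbasis (.inr 2) rfl g₂ hg₂ hk₂ (fun j' e e' => by
    rcases j' with i | i <;> fin_cases i <;> simp [wt] at e e' ⊢; exact hz₂)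
  have h4 : ∀ v ∈ lay F 4, app f v - κ • v ∈ lay F 3 := by
    intro v hv
    have hs := lay_four_split hv
    have e : app f v - κ • v = v (.inr 1) • (app f (Pi.single (.inr 1) 1) - κ • Pi.single (.inr 1) 1) +
        v (.inr 2) • (app f (Pi.single (.inr 2) 1) - κ • Pi.single (.inr 2) 1) +
        (app f (v - v (.inr 1) • Pi.single (.inr 1) 1 - v (.inr 2) • Pi.single (.inr 2) 1) -
          κ • (v - v (.inr 1) • Pi.single (.inr 1) 1 - v (.inr 2) • Pi.single (.inr 2) 1)) := by
      simp only [map_sub, map_smul]; module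
    rw [e]
    exact Submodule.add_mem _ (Submodule.add_mem _ (Submodule.smul_mem _ _ hb1) (Submodule.smul_mem _ _ hb2))
      (Submodule.sub_mem _ (hst hs) (Submodule.smul_mem _ _ hs))
  -- the second layer
  set d := app (uEl σ 1) (f0 F) - f0 F with hdd
  have h1 : app f d - κ • d ∈ lay F 2 := by
    rw [hdd, hd _ (S.u_rad 1)]
    exact uEl_lay σ 1 ha
  obtain ⟨x1, x2, x3, x4⟩ := K.W' (Pi.single (.inr 3) 1) (by simp) (by simp) (by simp) (by simp)
  have hW := K.W (Pi.single (.inl 3) 1) (fun i => by simp)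
  set E := app f (Pi.single (.inl 3) 1) with hE
  set G := app f (Pi.single (.inr 3) 1) with hG
  have hEG : E (.inl 3) = κ ∧ G (.inr 3) = κ := by
    have hdv : d = -e0 F + Pi.single (.inl 3) 1 + Pi.single (.inr 3) 1 := by
      rw [hdd, app_uEl_f0, f0_vec, e0_vec]
      funext j; rcases j with i | i <;> fin_cases i <;> simp
    rw [hdv, map_add, map_add, map_neg, h, ← hE, ← hG] at h1
    have a1 := h1 (.inl 3) le_rfl
    have a2 := h1 (.inr 3) le_rfl
    simp [x1, hW 3] at a1 a2
    exact ⟨by linear_combination a1, by linear_combination a2⟩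
  have hκ : κ * κ = 1 := by
    have h1 := polar_app f (Pi.single (.inl 3) 1) (Pi.single (.inr 3) 1)
    rw [← hE, ← hG, polar_plusQ, polar_plusQ] at h1
    simp [Fin.sum_univ_four, x1, x2, x3, x4, hW 0, hW 1, hW 2, hW 3, hEG.1, hEG.2] at h1
    exact h1
  have h3 : ∀ v ∈ lay F 3, app f v - κ • v ∈ lay F 2 := by
    intro v hv
    have hs := lay_three_split hv
    have hE2 : E - κ • Pi.single (.inl 3) 1 ∈ lay F 2 := fun i hi => by
      rcases i with i | i
      · fin_cases i <;> simp [wt] at hi ⊢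
        linear_combination hEG.1
      · simp [hW i]
    have hG2 : G - κ • Pi.single (.inr 3) 1 ∈ lay F 2 := fun i hi => by
      rcases i with i | i <;> fin_cases i <;> simp [wt, x1, x2, x3, x4] at hi ⊢
      linear_combination hEG.2
    have e : app f v - κ • v = v (.inl 3) • (E - κ • Pi.single (.inl 3) 1) +
        v (.inr 3) • (G - κ • Pi.single (.inr 3) 1) +
        (app f (v - v (.inl 3) • Pi.single (.inl 3) 1 - v (.inr 3) • Pi.single (.inr 3) 1) -
          κ • (v - v (.inl 3) • Pi.single (.inl 3) 1 - v (.inr 3) • Pi.single (.inr 3) 1)) := by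
      rw [hE, hG]; simp only [map_sub, map_smul]; module
    rw [e]
    exact Submodule.add_mem _ (Submodule.add_mem _ (Submodule.smul_mem _ _ hE2) (Submodule.smul_mem _ _ hG2))
      (Submodule.sub_mem _ (hst hs) (Submodule.smul_mem _ _ hs))
  -- the first layer, by polarity
  have h2 : ∀ v ∈ lay F 2, app f v - κ • v ∈ lay F 1 := by
    intro v hv
    have hcoord : ∀ j : Fin 4, (j = 1 ∨ j = 2) → app f v (.inl j) = κ * v (.inl j) := by
      intro j hj
      have hlay : (Pi.single (.inr j) 1 : I → F) ∈ lay F 4 := by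
        intro i hi
        refine Pi.single_eq_of_ne (fun e => ?_) 1
        rw [e] at hi; rcases hj with rfl | rfl <;> exact absurd hi (by decide)
      have hr := h4 _ hlay
      set w := app f (Pi.single (.inr j) 1) - κ • (Pi.single (.inr j) 1 : I → F) with hw
      have hpz : polar (plusQ 4 F) (app f v) w = 0 := by
        have hv' := hst hv
        rw [polar_plusQ]
        simp [Fin.sum_univ_four, hv' (.inl 3) le_rfl, hv' (.inr 3) le_rfl, hv' (.inr 0) (by decide),
          hv' (.inr 1) (by decide), hv' (.inr 2) (by decide), hr (.inr 0) (by decide), hr (.inr 1) (by decide),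
          hr (.inr 2) (by decide)]
      have hp : ∀ u : I → F, polar (plusQ 4 F) u (Pi.single (.inr j) 1) = u (.inl j) := fun u => by
        rw [polar_plusQ]; rcases hj with rfl | rfl <;> simp [Pi.single_apply, Fin.sum_univ_four]
      have e := polar_app f v (Pi.single (.inr j) 1)
      rw [hp, show app f (Pi.single (.inr j) 1) = w + κ • (Pi.single (.inr j) 1 : I → F) by rw [hw]; abel,
        polar_add_right, polar_smul_right, hpz, hp, zero_add, smul_eq_mul] at e
      rw [← e, ← mul_assoc, hκ, one_mul]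
    have hv' := hst hv
    intro i hi
    rcases i with i | i <;> fin_cases i <;> simp [wt] at hi ⊢
    · rw [hcoord 1 (Or.inl rfl), sub_self]
    · rw [hcoord 2 (Or.inr rfl), sub_self]
    all_goals simp [hv (.inl 3) (by decide), hv' (.inl 3) (by decide), hv (.inr 3) (by decide), hv' (.inr 3) (by decide), hv (.inr 0) (by decide), hv' (.inr 0) (by decide), hv (.inr 1) (by decide), hv' (.inr 1) (by decide), hv (.inr 2) (by decide), hv' (.inr 2) (by decide)]
  refine ⟨κ, hκ, fun k v hv => ?_⟩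
  rcases Nat.lt_or_ge k 5 with hk | hk
  swap
  · exact lay_mono hk (lay_five _)
  interval_cases k
  · rw [lay_one hv, map_smul, h]
    have : κ₀ = κ := by rw [← inv_inv κ₀]; exact inv_eq_of_mul_eq_one_right hκ
    rw [this]
    intro i _
    simp
    ring
  · exact h2 v hv
  · exact h3 v hv
  · exact h4 v hv
  · intro i hi
    obtain rfl : i = .inr 0 := by revert hi; revert i; decide
    rw [Pi.sub_apply, Pi.smul_apply, h5, smul_eq_mul, sub_self]

/-- A normal subgroup of order prime to three meeting the unipotent radical trivially meets the stabiliser of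
the base line trivially. -/
theorem Small.stab_trivial {σ : F ≃+* F} (S : Std D σ) (h : Small D N) {r : ℕ} [Fact r.Prime] [CharP F r]
    (hrad : ∀ g ∈ N, g ∈ D.rad → g = 1) {n : O (plusQ 4 F)} (hn : n ∈ N) {κ₀ : F}
    (he : app n (e0 F) = κ₀ • e0 F) : n = 1 := by
  have hcomm : ∀ g ∈ D.rad, n * g = g * n := by
    intro g hg
    have h1 : n * g * n⁻¹ * g⁻¹ = 1 :=
      hrad _ (h.comm_mem hg.1 hn) (mul_mem (D.rad_conj (h.le hn) he hg) (inv_mem hg))
    rwa [mul_inv_eq_one, mul_inv_eq_iff_eq_mul] at h1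
  obtain ⟨κ, hκ, hlow⟩ := S.graded_scalar (h.le hn) he hcomm
  have hpow := fun v => hlow.pow_char (r := r) v
  rcases mul_self_eq_one_iff.1 hκ with rfl | rfl
  · exact hrad n hn (Subgroup.mem_inf.2 ⟨h.le hn, hlow⟩)
  by_cases hc : (-1 : F) = 1
  · exact hrad n hn (Subgroup.mem_inf.2 ⟨h.le hn, by rwa [hc] at hlow⟩)
  have hr2 : r ≠ 2 := fun e => hc (by
    subst e
    exact CharTwo.neg_eq 1)
  have hodd : Odd (r ^ 3) := ((Fact.out : r.Prime).odd_of_ne_two hr2).pow
  have e1 : n ^ r ^ 3 = 1 := D.scalar_eq_one (pow_mem (h.le hn) _) (l := -1) (by simp) fun v => by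
    rw [hpow, hodd.neg_one_pow]
  have h2 := hpow (f0 F)
  rw [e1, app_one, hodd.neg_one_pow] at h2
  exact absurd (by simpa using (congrFun h2 (.inr 0)).symm) hc

/-! ### The radical -/

theorem Twist.inv_eq (D : Twist F) : D.φ⁻¹ = D.φ * D.φ :=
  inv_eq_of_mul_eq_one_right (by rw [← mul_assoc, D.three])

/-- The equation satisfied by the image of the opposite base point. -/
theorem Twist.f0_equation {f : O (plusQ 4 F)} (hf : f ∈ D.fix) :
    prod (app f (f0 F)) (semi D.φ.1 (semi D.φ.1 (app f (f0 F)))) = 0 := by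
  have e := rel_prod hf.2 (f0 F) (f0 F)
  have h0 : prod (f0 F) (f0 F) = 0 := by
    rw [prod_f0_left]; funext j; rcases j with i | i <;> fin_cases i <;> simp
  rw [h0, map_zero] at e
  have hg : app (conjO (plusQ 4 F) D.φ⁻¹ f) (f0 F) = semi D.φ⁻¹.1 (app f (f0 F)) := by
    conv_lhs => rw [← semi_fix_of_order D D.semi_f0]
    exact semi_app_conj _ _ _
  rw [hg, D.inv_eq, Subgroup.coe_mul, semi_mul] at e
  exact e

theorem app_vI_f0 (σ : F ≃+* F) (s t : F) : app (vI σ s t) (f0 F) (.inr 1) = s ∧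
    app (vI σ s t) (f0 F) (.inr 2) = t := by
  rw [f0_vec]
  simp only [vI, app_mul, appE1, appE20, appE21, appE3, appE14, appE15]
  constructor <;> simp

theorem app_vM_f0 (a b : F) : app (vM a b) (f0 F) (.inr 1) = 3 * a ∧
    app (vM a b) (f0 F) (.inr 2) = 3 * b := by
  rw [f0_vec]
  simp only [vM, app_mul, appE0, appE2, appE1, appE20, appE21, appE3, appE14, appE15, appE5]
  constructor <;> simp

theorem vI_rad {σ : F ≃+* F} (h3 : σ * σ * σ = 1) (s t : F) : vI σ s t ∈ (twI σ h3).rad :=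
  Subgroup.mem_inf.2 ⟨vI_mem h3 s t, vI_mem_uni σ s t⟩

theorem vM_rad (a b : F) : vM a b ∈ (twM F).rad := Subgroup.mem_inf.2 ⟨vM_mem a b, vM_mem_uni a b⟩

theorem std_twI {σ : F ≃+* F} (h3 : σ * σ * σ = 1) : Std (twI σ h3) σ :=
  ⟨uEl_mem_twI h3, uElM_mem_twI h3,
    ⟨_, vI_rad h3 1 0, by rw [(app_vI_f0 σ 1 0).1]; exact one_ne_zero, (app_vI_f0 σ 1 0).2⟩,
    ⟨_, vI_rad h3 0 1, by rw [(app_vI_f0 σ 0 1).2]; exact one_ne_zero, (app_vI_f0 σ 0 1).1⟩⟩

theorem std_twM (h3 : (3 : F) ≠ 0) : Std (twM F) 1 :=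
  ⟨uEl_mem_twM, uElM_mem_twM,
    ⟨_, vM_rad 1 0, by rw [(app_vM_f0 1 0).1]; simpa using h3, by rw [(app_vM_f0 1 0).2, mul_zero]⟩,
    ⟨_, vM_rad 0 1, by rw [(app_vM_f0 0 1).2]; simpa using h3, by rw [(app_vM_f0 0 1).1, mul_zero]⟩⟩

/-- An element of the radical without first-layer part, for a field twist. -/
theorem rad_low_twI {σ : F ≃+* F} (h3 : σ * σ * σ = 1) {m : O (plusQ 4 F)} (hm : m ∈ (twI σ h3).rad)
    (h1 : app m (f0 F) (.inr 1) = 0) (h2 : app m (f0 F) (.inr 2) = 0) :
    ∃ t p q : F, σ p = p ∧ σ q = q ∧ m = uEl σ t * zEl p q := by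
  have he := (twI σ h3).f0_equation hm.1
  have h0 := app_f0_top hm.2
  set a := app m (f0 F) with ha
  rw [semi_twI, semi_twI, prod_eq] at he
  have e4 := congrFun he (.inr 0)
  have e5 := congrFun he (.inr 1)
  have e6 := congrFun he (.inr 2)
  have e7 := congrFun he (.inr 3)
  simp [h0, h1, h2] at e4 e5 e6 e7
  have hq : σ (a (.inl 2)) = a (.inl 2) := by
    have : σ (σ (a (.inl 2))) = a (.inl 2) := by linear_combination e5
    conv_lhs => rw [← this, twI_cube h3]
  have hp : σ (a (.inl 1)) = a (.inl 1) := by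
    have : σ (σ (a (.inl 1))) = a (.inl 1) := by linear_combination -e6
    conv_lhs => rw [← this, twI_cube h3]
  refine ⟨a (.inl 3), _, _, hp, hq, (twI σ h3).rad_ext hm (mul_mem ((std_twI h3).u_rad _)
    (Subgroup.mem_inf.2 ⟨zEl_mem_twI h3 hp hq, zEl_mem_uni _ _⟩)) ?_⟩
  rw [← ha]
  conv_lhs => rw [vec_eq a]
  rw [f0_vec]
  simp only [uEl, zEl, app_mul, appE0, appE2, appE4, appE5, appE12]
  apply vec_ext <;> simp [h0, h1, h2]
  · linear_combination -e7 - (σ (σ (a (.inl 3)))) * (0 : F)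
  · linear_combination e4

/-- An element of the radical without first-layer part, for the twist of the middle plane. -/
theorem rad_low_twM (h3 : (3 : F) ≠ 0) {m : O (plusQ 4 F)} (hm : m ∈ (twM F).rad)
    (h1 : app m (f0 F) (.inr 1) = 0) (h2 : app m (f0 F) (.inr 2) = 0) :
    ∃ t : F, m = uEl 1 t := by
  have he := (twM F).f0_equation hm.1
  have h0 := app_f0_top hm.2
  set a := app m (f0 F) with ha
  rw [semi_twM, semi_twM, prod_eq] at he
  have e4 := congrFun he (.inr 0)
  have e5 := congrFun he (.inr 1)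
  have e6 := congrFun he (.inr 2)
  have e7 := congrFun he (.inr 3)
  simp [h0, h1, h2] at e4 e5 e6 e7
  have hp : a (.inl 1) = 0 := by
    have : (3 : F) * a (.inl 1) = 0 := by linear_combination e6 - e5
    exact (mul_eq_zero.1 this).resolve_left h3
  have hq : a (.inl 2) = 0 := by linear_combination -e5 - hp
  refine ⟨a (.inl 3), (twM F).rad_ext hm ((std_twM h3).u_rad _) ?_⟩
  rw [← ha]
  conv_lhs => rw [vec_eq a]
  rw [f0_vec]
  simp only [uEl, app_mul, RingAut.one_apply, appE4, appE5, appE12]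
  apply vec_ext <;> simp [h0, h1, h2, hp, hq]
  · linear_combination -e7
  · linear_combination e4

theorem uu_braid {σ : F ≃+* F} {t : F} (ht : t ≠ 0) :
    uEl σ t * uElM σ t⁻¹ * uEl σ t = uElM σ t⁻¹ * uEl σ t * uElM σ t⁻¹ := by
  have h1 : σ t ≠ 0 := (map_ne_zero σ).2 ht
  have h2 : σ (σ t) ≠ 0 := (map_ne_zero σ).2 h1
  refine ext_app fun v => ?_
  rw [vec_eq v]
  simp only [uEl, uElM, app_mul, appE4, appE5, appE12, appE10, appE11, appE17]
  apply vec_ext <;> simp <;> field_simp <;> ring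

theorem zz_braid {t : F} (ht : t ≠ 0) : rt 0 t * rt 7 t⁻¹ * rt 0 t = rt 7 t⁻¹ * rt 0 t * rt 7 t⁻¹ := by
  refine ext_app fun v => ?_
  rw [vec_eq v]
  simp only [app_mul, appE0, appE7]
  apply vec_ext <;> field_simp <;> ring

theorem Small.uEl_trivial {σ : F ≃+* F} (S : Std D σ) (h : Small D N) {t : F} (hu : uEl σ t ∈ N) : t = 0 := by
  by_contra ht
  exact h.kill hu (S.hum t⁻¹) (uu_braid ht) (uu_six ht).1 (uu_six ht).2

theorem zEl_left (p : F) : zEl p 0 = rt 0 p := by
  refine ext_app fun v => ?_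
  rw [vec_eq v]
  simp only [zEl, app_mul, appE0, appE2]
  apply vec_ext <;> ring

theorem rt13_zEl (p q : F) : rt 13 1 * zEl p q = zEl (p - q) q * rt 13 1 := by
  refine ext_app fun v => ?_
  rw [vec_eq v]
  simp only [zEl, app_mul, appE0, appE2, appE13]
  apply vec_ext <;> ring

/-- For a field twist, the radical meets the subgroup trivially. -/
theorem Small.rad_trivial_twI {σ : F ≃+* F} {h3 : σ * σ * σ = 1} {N : Subgroup (O (plusQ 4 F))}
    (h : Small (twI σ h3) N) (h30 : (3 : F) ≠ 0) {g : O (plusQ 4 F)} (hg : g ∈ N) (hr : g ∈ (twI σ h3).rad) :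
    g = 1 := by
  set D := twI σ h3
  have hroot : ∀ p : F, σ p = p → rt 0 p ∈ N → p = 0 := by
    intro p hp hN
    by_contra hp0
    exact h.kill hN (rt7_mem_twI h3 (by rw [map_inv₀, hp])) (zz_braid hp0) (zz_six hp0).1 (zz_six hp0).2
  have hZ : ∀ p q : F, σ p = p → σ q = q → zEl p q ∈ N → p = 0 ∧ q = 0 := by
    intro p q hp hq hN
    have hc := h.comm_mem (f := rt 13 1) (rt13_mem_twI h3 (map_one σ)) hN
    have e : zEl p q * rt 13 1 * (zEl p q)⁻¹ * (rt 13 1)⁻¹ = zEl q 0 := by
      rw [mul_inv_eq_iff_eq_mul, mul_inv_eq_iff_eq_mul, mul_assoc (zEl q 0), rt13_zEl, ← mul_assoc, zEl_add,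
        zero_add, add_sub_cancel]
    rw [e, zEl_left] at hc
    obtain rfl := hroot q hq hc
    rw [zEl_left] at hN
    exact ⟨hroot p hp hN, rfl⟩
  have hK : ∀ c d s : F, σ (d * σ s + σ d * σ (σ s) + σ (σ d) * s) = d * σ s + σ d * σ (σ s) + σ (σ d) * s ∧
      σ (-(c * σ s + σ c * σ (σ s) + σ (σ c) * s)) = -(c * σ s + σ c * σ (σ s) + σ (σ c) * s) := fun c d s => by
    simp only [map_add, map_mul, map_neg, twI_cube h3]
    exact ⟨by ring, by ring⟩
  have hv' := mul_mem (inv_mem (vI_rad h3 (app g (f0 F) (.inr 1)) (app g (f0 F) (.inr 2)))) hr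
  obtain ⟨t, p, q, hp, hq, e⟩ := rad_low_twI h3 hv'
    (by
      have h1 := (twI σ h3).coord_mul (vI_rad h3 (app g (f0 F) (.inr 1)) (app g (f0 F) (.inr 2)))
        hv' (.inr 1) rfl
      rw [mul_inv_cancel_left, (app_vI_f0 σ _ _).1] at h1
      linear_combination -h1)
    (by
      have h1 := (twI σ h3).coord_mul (vI_rad h3 (app g (f0 F) (.inr 1)) (app g (f0 F) (.inr 2)))
        hv' (.inr 2) rfl
      rw [mul_inv_cancel_left, (app_vI_f0 σ _ _).2] at h1
      linear_combination -h1)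
  clear hv'
  generalize app g (f0 F) (.inr 1) = c, app g (f0 F) (.inr 2) = d at e
  rw [inv_mul_eq_iff_eq_mul, ← mul_assoc] at e
  have hcd : ∀ s : F, -(c * σ s + σ c * σ (σ s) + σ (σ c) * s) = 0 ∧
      d * σ s + σ d * σ (σ s) + σ (σ d) * s = 0 := by
    intro s
    have hc := h.comm_mem (f := uEl σ s) (uEl_mem_twI h3 s) hg
    have e2 : g * uEl σ s * g⁻¹ * (uEl σ s)⁻¹ = zEl (d * σ s + σ d * σ (σ s) + σ (σ d) * s)
        (-(c * σ s + σ c * σ (σ s) + σ (σ c) * s)) := by
      rw [mul_inv_eq_iff_eq_mul, mul_inv_eq_iff_eq_mul, e]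
      calc vI σ c d * uEl σ t * zEl p q * uEl σ s = vI σ c d * (uEl σ t * (zEl p q * uEl σ s)) := by
            simp only [mul_assoc]
        _ = vI σ c d * uEl σ s * (uEl σ t * zEl p q) := by
            rw [zEl_uEl, ← mul_assoc (uEl σ t), uEl_add, add_comm t s, ← uEl_add]
            simp only [mul_assoc]
        _ = _ := by rw [vI_uEl]; simp only [mul_assoc]
    rw [e2] at hc
    exact ⟨(hZ _ _ (hK c d s).1 (hK c d s).2 hc).2, (hZ _ _ (hK c d s).1 (hK c d s).2 hc).1⟩
  have hc0 : c = 0 ∧ d = 0 := by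
    constructor <;> by_contra hne
    · have := (hcd (σ (σ c⁻¹))).1
      rw [twI_cube h3] at this
      simp only [map_inv₀] at this
      field_simp [(map_ne_zero σ).2 hne, (map_ne_zero σ).2 ((map_ne_zero σ).2 hne)] at this
      exact h30 (by linear_combination -this)
    · have := (hcd (σ (σ d⁻¹))).2
      rw [twI_cube h3] at this
      simp only [map_inv₀] at this
      field_simp [(map_ne_zero σ).2 hne, (map_ne_zero σ).2 ((map_ne_zero σ).2 hne)] at this
      exact h30 (by linear_combination this)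
  obtain ⟨rfl, rfl⟩ := hc0
  have e0' : vI σ 0 0 = 1 := by
    refine ext_app fun v => ?_
    rw [vec_eq v]
    simp only [vI, app_mul, app_one, appE1, appE20, appE21, appE3, appE14, appE15]
    apply vec_ext <;> simp
  rw [e0', one_mul] at e
  subst e
  have ht : t = 0 := by
    by_contra ht
    set d := (σ t)⁻¹ with hd
    have hc := h.comm_mem (f := vI σ 0 d) (vI_mem h3 0 d) hg
    set k := d * σ t + σ d * σ (σ t) + σ (σ d) * t with hk
    have e2 : uEl σ t * zEl p q * vI σ 0 d * (uEl σ t * zEl p q)⁻¹ * (vI σ 0 d)⁻¹ = zEl (-k) 0 := by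
      rw [mul_inv_eq_iff_eq_mul, mul_inv_eq_iff_eq_mul]
      have hv := vI_uEl σ 0 d t
      rw [← hk] at hv
      simp at hv
      calc uEl σ t * zEl p q * vI σ 0 d = uEl σ t * vI σ 0 d * zEl p q := by
            rw [mul_assoc, zEl_vI, ← mul_assoc]
        _ = zEl (-k) 0 * (vI σ 0 d * uEl σ t) * zEl p q := by
            rw [hv, ← mul_assoc (zEl (-k) 0), zEl_add, neg_add_cancel, add_zero]
            have : zEl (0 : F) 0 = 1 := ext_app fun v => by
              rw [vec_eq v]
              simp only [zEl, app_mul, app_one, appE0, appE2]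
              apply vec_ext <;> ring
            rw [this, one_mul]
        _ = _ := by simp only [mul_assoc]
    rw [e2] at hc
    have := (hZ _ 0 (by rw [map_neg, hk, (hK 0 d t).1]) (map_zero σ) hc).1
    rw [hk, hd] at this
    simp only [map_inv₀, twI_cube h3] at this
    field_simp [(map_ne_zero σ).2 ht, (map_ne_zero σ).2 ((map_ne_zero σ).2 ht)] at this
    exact h30 (by linear_combination -this)
  subst ht
  have e1 : uEl σ (0 : F) = 1 := mul_eq_left.1 (by rw [uEl_add, add_zero] : uEl σ 0 * uEl σ 0 = uEl σ (0 : F))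
  rw [e1, one_mul] at hg ⊢
  obtain ⟨rfl, rfl⟩ := hZ p q hp hq hg
  exact mul_eq_left.1 (by rw [zEl_add, add_zero] : zEl 0 0 * zEl 0 0 = zEl (0 : F) 0)

/-- For the twist of the middle plane, the radical meets the subgroup trivially. -/
theorem Small.rad_trivial_twM {N : Subgroup (O (plusQ 4 F))}
    (h : Small (twM F) N) (h30 : (3 : F) ≠ 0) {g : O (plusQ 4 F)} (hg : g ∈ N) (hr : g ∈ (twM F).rad) :
    g = 1 := by
  set a := app g (f0 F) (.inr 1) / 3 with ha
  set b := app g (f0 F) (.inr 2) / 3 with hb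
  have hm : (vM a b)⁻¹ * g ∈ (twM F).rad := mul_mem (inv_mem (vM_rad _ _)) hr
  obtain ⟨t, e⟩ := rad_low_twM h30 hm
    (by
      have h1 := (twM F).coord_mul (vM_rad a b) hm (.inr 1) rfl
      rw [mul_inv_cancel_left, (app_vM_f0 a b).1, ha, mul_div_cancel₀ _ h30] at h1
      linear_combination -h1)
    (by
      have h1 := (twM F).coord_mul (vM_rad a b) hm (.inr 2) rfl
      rw [mul_inv_cancel_left, (app_vM_f0 a b).2, hb, mul_div_cancel₀ _ h30] at h1
      linear_combination -h1)
  clear_value a b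
  rw [inv_mul_eq_iff_eq_mul] at e
  have hab : ∀ c d : F, -9 * (a * d - b * c) = 0 := by
    intro c d
    have hc := h.comm_mem (f := vM c d) (vM_mem c d) hg
    have e2 : g * vM c d * g⁻¹ * (vM c d)⁻¹ = uEl 1 (-9 * (a * d - b * c)) := by
      rw [mul_inv_eq_iff_eq_mul, mul_inv_eq_iff_eq_mul, e, mul_assoc (vM a b), ← vM_uEl, ← mul_assoc, vM_vM]
      simp only [mul_assoc]
    rw [e2] at hc
    exact h.uEl_trivial (std_twM h30) hc
  have h9 : (-9 : F) ≠ 0 := by
    rw [show (-9 : F) = -(3 * 3) by norm_num]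
    exact neg_ne_zero.2 (mul_ne_zero h30 h30)
  have hb0 : b = 0 := by
    have h1 := (mul_eq_zero.1 (hab 1 0)).resolve_left h9
    linear_combination -h1
  have ha0 : a = 0 := by
    have h1 := (mul_eq_zero.1 (hab 0 1)).resolve_left h9
    linear_combination h1
  subst ha0 hb0
  have e0' : vM (0 : F) 0 = 1 := by
    refine ext_app fun v => ?_
    rw [vec_eq v]
    simp only [vM, app_mul, app_one, appE1, appE20, appE21, appE3, appE14, appE15, appE5, appE0, appE2]
    apply vec_ext <;> simp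
  rw [e0', one_mul] at e
  subst e
  obtain rfl := h.uEl_trivial (std_twM h30) hg
  exact mul_eq_left.1 (by rw [uEl_add, add_zero] : uEl 1 0 * uEl 1 0 = uEl (1 : F ≃+* F) (0 : F))

end CfsgLib.TriNorm
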