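import Cfsg.Agent.Lib.POmegaBalPlus.TriFix

/-!
The two twists of triality and explicit invariant isometries.
-/

set_option autoImplicit false
set_option linter.unusedSectionVars false

namespace CfsgLib.TriNorm

open Matrix QuadraticMap CfsgLib.Orth CfsgLib.FieldPOmega Cfsg.Agent.GammaO57 Cfsg.Agent.Triality57
  Cfsg.Agent.OutPlus57 Cfsg.Agent.PlusField57 Cfsg.Agent.Levi57 CfsgLib.AutBalance

variable {F : Type*} [Field F] [Fintype F]

theorem rel_rt20 (t : F) : Rel (rt 20 t) (rt 21 t) (rt 1 t) := by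
  simpa using (rel_rt1 t).cycle

theorem rel_rt21 (t : F) : Rel (rt 21 t) (rt 1 t) (rt 20 t) := by
  simpa using (rel_rt1 t).cycle.cycle

theorem rel_rt12 (t : F) : Rel (rt 12 t) (rt 5 t) (rt 4 t) := by
  simpa using (rel_rt4 t).cycle

theorem rel_rt5 (t : F) : Rel (rt 5 t) (rt 4 t) (rt 12 t) := by
  simpa using (rel_rt4 t).cycle.cycle

theorem rel_rt17 (t : F) : Rel (rt 17 t) (rt 10 t) (rt 11 t) := by
  simpa using (rel_rt11 t).cycle

theorem rel_rt10 (t : F) : Rel (rt 10 t) (rt 11 t) (rt 17 t) := by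
  simpa using (rel_rt11 t).cycle.cycle

theorem rel_rt14 (t : F) : Rel (rt 14 t) (rt 15 t) (rt 3 (-t)) := by
  simpa using (rel_rt3 (-t)).cycle

theorem rel_rt15 (t : F) : Rel (rt 15 t) (rt 3 (-t)) (rt 14 t) := by
  simpa using (rel_rt3 (-t)).cycle.cycle

/-- The base vectors. -/
abbrev e0 (F : Type*) [Field F] : I → F := Pi.single (.inl 0) 1

/-- The opposite base vector. -/
abbrev f0 (F : Type*) [Field F] : I → F := Pi.single (.inr 0) 1

/-- A field automorphism of order dividing three as a twist. -/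
noncomputable def twI (σ : F ≃+* F) (h3 : σ * σ * σ = 1) : Twist F where
  φ := fEl (plusQ_fixes σ)
  trip := fEl_trip σ
  three := Subtype.ext (by
    show (SemidirectProduct.inr σ : GLS I F) * SemidirectProduct.inr σ * SemidirectProduct.inr σ = 1
    rw [← map_mul, ← map_mul, h3, map_one])
  fix0 := by
    show (1 : Matrix I I F) *ᵥ (σ ∘ (Pi.single (.inl 0) 1 : I → F)) = _
    rw [one_mulVec]; funext j; simp [Pi.single_apply, apply_ite σ]
  fix4 := by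
    show (1 : Matrix I I F) *ᵥ (σ ∘ (Pi.single (.inr 0) 1 : I → F)) = _
    rw [one_mulVec]; funext j; simp [Pi.single_apply, apply_ite σ]

theorem semi_twI (σ : F ≃+* F) (h3 : σ * σ * σ = 1) (v : I → F) : semi (twI σ h3).φ.1 v = σ ∘ v := by
  show (1 : Matrix I I F) *ᵥ (σ ∘ v) = _
  rw [one_mulVec]

/-- An element of order three of `GL_4`, acting on the middle plane. -/
def TM (F : Type*) [Field F] : GL (Fin 4) F :=
  ⟨!![1, 0, 0, 0; 0, 0, -1, 0; 0, 1, -1, 0; 0, 0, 0, 1], !![1, 0, 0, 0; 0, -1, 1, 0; 0, -1, 0, 0; 0, 0, 0, 1],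
    by ext i j; fin_cases i <;> fin_cases j <;> simp [Matrix.mul_apply, Fin.sum_univ_four],
    by ext i j; fin_cases i <;> fin_cases j <;> simp [Matrix.mul_apply, Fin.sum_univ_four]⟩

/-- The similarity attached to `TM`. -/
noncomputable def phiM (F : Type*) [Field F] [Fintype F] : ↥(semiGroup (plusQ 4 F)) := oIn (plusQ 4 F) (levi 4 F (TM F))

theorem semi_phiM (v : I → F) : semi (phiM F).1 v = Sum.elim
    ![v (.inl 0), -v (.inl 2), v (.inl 1) - v (.inl 2), v (.inl 3)]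
    ![v (.inr 0), -v (.inr 1) - v (.inr 2), v (.inr 1), v (.inr 3)] := by
  rw [phiM, Cfsg.Agent.OutEight57.semi_oIn, app_apply]
  show fromBlocks (TM F : Matrix (Fin 4) (Fin 4) F) 0 0 (((TM F)⁻¹ : GL (Fin 4) F) : Matrix (Fin 4) (Fin 4) F)ᵀ *ᵥ v
    = _
  rw [fromBlocks_mulVec]
  funext j
  rcases j with i | i <;> fin_cases i <;>
    simp [TM, Matrix.mulVec, dotProduct, Fin.sum_univ_four, ← sub_eq_add_neg] <;> ring

/-- The element of order three of the middle plane as a twist. -/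
noncomputable def twM (F : Type*) [Field F] [Fintype F] : Twist F where
  φ := phiM F
  trip := ⟨rfl, rfl, 1, fun x y z => by
    show tri (semi (phiM F).1 x) (semi (phiM F).1 y) (semi (phiM F).1 z) = ((1 : Fˣ) : F) * (1 : F ≃+* F) _
    rw [semi_phiM, semi_phiM, semi_phiM, Units.val_one, one_mul, RingAut.one_apply, tri_eq, tri_eq]
    simp
    ring⟩
  three := Subtype.ext (Cfsg.Agent.PlusTwist57.left_ext rfl fun v => by
    show semi ((phiM F).1 * (phiM F).1 * (phiM F).1) v = semi 1 v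
    rw [semi_mul, semi_mul, semi_phiM, semi_phiM, semi_phiM, semi_one]
    funext j
    rcases j with i | i <;> fin_cases i <;> simp <;> ring)
  fix0 := by rw [semi_phiM]; funext j; rcases j with i | i <;> fin_cases i <;> simp
  fix4 := by rw [semi_phiM]; funext j; rcases j with i | i <;> fin_cases i <;> simp

theorem semi_twM (v : I → F) : semi (twM F).φ.1 v = Sum.elim
    ![v (.inl 0), -v (.inl 2), v (.inl 1) - v (.inl 2), v (.inl 3)]
    ![v (.inr 0), -v (.inr 1) - v (.inr 2), v (.inr 1), v (.inr 3)] := semi_phiM v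

theorem appE0 (t a₀ a₁ a₂ a₃ b₀ b₁ b₂ b₃ : F) :
    app (rt 0 t) (Sum.elim ![a₀, a₁, a₂, a₃] ![b₀, b₁, b₂, b₃]) =
      Sum.elim ![a₀ - t * b₁, a₁ + t * b₀, a₂, a₃] ![b₀, b₁, b₂, b₃] := by
  rw [app_rt0]
  rfl

theorem appE1 (t a₀ a₁ a₂ a₃ b₀ b₁ b₂ b₃ : F) :
    app (rt 1 t) (Sum.elim ![a₀, a₁, a₂, a₃] ![b₀, b₁, b₂, b₃]) =
      Sum.elim ![a₀ - t * a₁, a₁, a₂, a₃] ![b₀, b₁ + t * b₀, b₂, b₃] := by
  rw [app_rt1]
  rfl

theorem appE2 (t a₀ a₁ a₂ a₃ b₀ b₁ b₂ b₃ : F) :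
    app (rt 2 t) (Sum.elim ![a₀, a₁, a₂, a₃] ![b₀, b₁, b₂, b₃]) =
      Sum.elim ![a₀ - t * b₂, a₁, a₂ + t * b₀, a₃] ![b₀, b₁, b₂, b₃] := by
  rw [app_rt2]
  rfl

theorem appE3 (t a₀ a₁ a₂ a₃ b₀ b₁ b₂ b₃ : F) :
    app (rt 3 t) (Sum.elim ![a₀, a₁, a₂, a₃] ![b₀, b₁, b₂, b₃]) =
      Sum.elim ![a₀ - t * a₂, a₁, a₂, a₃] ![b₀, b₁, b₂ + t * b₀, b₃] := by
  rw [app_rt3]
  rfl

theorem appE4 (t a₀ a₁ a₂ a₃ b₀ b₁ b₂ b₃ : F) :
    app (rt 4 t) (Sum.elim ![a₀, a₁, a₂, a₃] ![b₀, b₁, b₂, b₃]) =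
      Sum.elim ![a₀ - t * b₃, a₁, a₂, a₃ + t * b₀] ![b₀, b₁, b₂, b₃] := by
  rw [app_rt4]
  rfl

theorem appE5 (t a₀ a₁ a₂ a₃ b₀ b₁ b₂ b₃ : F) :
    app (rt 5 t) (Sum.elim ![a₀, a₁, a₂, a₃] ![b₀, b₁, b₂, b₃]) =
      Sum.elim ![a₀ - t * a₃, a₁, a₂, a₃] ![b₀, b₁, b₂, b₃ + t * b₀] := by
  rw [app_rt5]
  rfl

theorem appE7 (t a₀ a₁ a₂ a₃ b₀ b₁ b₂ b₃ : F) :
    app (rt 7 t) (Sum.elim ![a₀, a₁, a₂, a₃] ![b₀, b₁, b₂, b₃]) =
      Sum.elim ![a₀, a₁, a₂, a₃] ![b₀ - t * a₁, b₁ + t * a₀, b₂, b₃] := by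
  rw [app_rt7]
  rfl

theorem appE10 (t a₀ a₁ a₂ a₃ b₀ b₁ b₂ b₃ : F) :
    app (rt 10 t) (Sum.elim ![a₀, a₁, a₂, a₃] ![b₀, b₁, b₂, b₃]) =
      Sum.elim ![a₀, a₁, a₂, a₃ + t * a₀] ![b₀ - t * b₃, b₁, b₂, b₃] := by
  rw [app_rt10]
  rfl

theorem appE11 (t a₀ a₁ a₂ a₃ b₀ b₁ b₂ b₃ : F) :
    app (rt 11 t) (Sum.elim ![a₀, a₁, a₂, a₃] ![b₀, b₁, b₂, b₃]) =
      Sum.elim ![a₀, a₁, a₂, a₃] ![b₀ - t * a₃, b₁, b₂, b₃ + t * a₀] := by
  rw [app_rt11]
  rfl

theorem appE12 (t a₀ a₁ a₂ a₃ b₀ b₁ b₂ b₃ : F) :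
    app (rt 12 t) (Sum.elim ![a₀, a₁, a₂, a₃] ![b₀, b₁, b₂, b₃]) =
      Sum.elim ![a₀, a₁ - t * b₂, a₂ + t * b₁, a₃] ![b₀, b₁, b₂, b₃] := by
  rw [app_rt12]
  rfl

theorem appE13 (t a₀ a₁ a₂ a₃ b₀ b₁ b₂ b₃ : F) :
    app (rt 13 t) (Sum.elim ![a₀, a₁, a₂, a₃] ![b₀, b₁, b₂, b₃]) =
      Sum.elim ![a₀, a₁ - t * a₂, a₂, a₃] ![b₀, b₁, b₂ + t * b₁, b₃] := by
  rw [app_rt13]
  rfl

theorem appE14 (t a₀ a₁ a₂ a₃ b₀ b₁ b₂ b₃ : F) :
    app (rt 14 t) (Sum.elim ![a₀, a₁, a₂, a₃] ![b₀, b₁, b₂, b₃]) =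
      Sum.elim ![a₀, a₁ - t * b₃, a₂, a₃ + t * b₁] ![b₀, b₁, b₂, b₃] := by
  rw [app_rt14]
  rfl

theorem appE15 (t a₀ a₁ a₂ a₃ b₀ b₁ b₂ b₃ : F) :
    app (rt 15 t) (Sum.elim ![a₀, a₁, a₂, a₃] ![b₀, b₁, b₂, b₃]) =
      Sum.elim ![a₀, a₁ - t * a₃, a₂, a₃] ![b₀, b₁, b₂, b₃ + t * b₁] := by
  rw [app_rt15]
  rfl

theorem appE16 (t a₀ a₁ a₂ a₃ b₀ b₁ b₂ b₃ : F) :
    app (rt 16 t) (Sum.elim ![a₀, a₁, a₂, a₃] ![b₀, b₁, b₂, b₃]) =
      Sum.elim ![a₀, a₁, a₂ + t * a₁, a₃] ![b₀, b₁ - t * b₂, b₂, b₃] := by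
  rw [app_rt16]
  rfl

theorem appE17 (t a₀ a₁ a₂ a₃ b₀ b₁ b₂ b₃ : F) :
    app (rt 17 t) (Sum.elim ![a₀, a₁, a₂, a₃] ![b₀, b₁, b₂, b₃]) =
      Sum.elim ![a₀, a₁, a₂, a₃] ![b₀, b₁ - t * a₂, b₂ + t * a₁, b₃] := by
  rw [app_rt17]
  rfl

theorem appE20 (t a₀ a₁ a₂ a₃ b₀ b₁ b₂ b₃ : F) :
    app (rt 20 t) (Sum.elim ![a₀, a₁, a₂, a₃] ![b₀, b₁, b₂, b₃]) =
      Sum.elim ![a₀, a₁, a₂ - t * b₃, a₃ + t * b₂] ![b₀, b₁, b₂, b₃] := by
  rw [app_rt20]
  rfl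

theorem appE21 (t a₀ a₁ a₂ a₃ b₀ b₁ b₂ b₃ : F) :
    app (rt 21 t) (Sum.elim ![a₀, a₁, a₂, a₃] ![b₀, b₁, b₂, b₃]) =
      Sum.elim ![a₀, a₁, a₂ - t * a₃, a₃] ![b₀, b₁, b₂, b₃ + t * b₂] := by
  rw [app_rt21]
  rfl

theorem vec_eq (v : I → F) : v = Sum.elim ![v (.inl 0), v (.inl 1), v (.inl 2), v (.inl 3)]
    ![v (.inr 0), v (.inr 1), v (.inr 2), v (.inr 3)] := by
  funext j; rcases j with i | i <;> fin_cases i <;> rfl

theorem vec_ext {a₀ a₁ a₂ a₃ b₀ b₁ b₂ b₃ c₀ c₁ c₂ c₃ d₀ d₁ d₂ d₃ : F} (h₀ : a₀ = c₀) (h₁ : a₁ = c₁)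
    (h₂ : a₂ = c₂) (h₃ : a₃ = c₃) (k₀ : b₀ = d₀) (k₁ : b₁ = d₁) (k₂ : b₂ = d₂) (k₃ : b₃ = d₃) :
    (Sum.elim ![a₀, a₁, a₂, a₃] ![b₀, b₁, b₂, b₃] : I → F) = Sum.elim ![c₀, c₁, c₂, c₃] ![d₀, d₁, d₂, d₃] := by
  subst h₀ h₁ h₂ h₃ k₀ k₁ k₂ k₃; rfl

theorem semiI_vec (σ : F ≃+* F) (h3 : σ * σ * σ = 1) (a₀ a₁ a₂ a₃ b₀ b₁ b₂ b₃ : F) :
    semi (twI σ h3).φ.1 (Sum.elim ![a₀, a₁, a₂, a₃] ![b₀, b₁, b₂, b₃]) =
      Sum.elim ![σ a₀, σ a₁, σ a₂, σ a₃] ![σ b₀, σ b₁, σ b₂, σ b₃] := by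
  rw [semi_twI]; funext j; rcases j with i | i <;> fin_cases i <;> rfl

theorem semiM_vec (a₀ a₁ a₂ a₃ b₀ b₁ b₂ b₃ : F) :
    semi (twM F).φ.1 (Sum.elim ![a₀, a₁, a₂, a₃] ![b₀, b₁, b₂, b₃]) =
      Sum.elim ![a₀, -a₂, a₁ - a₂, a₃] ![b₀, -b₁ - b₂, b₁, b₃] := by
  rw [semi_twM]; rfl

theorem f0_vec : (f0 F) = Sum.elim ![0, 0, 0, 0] ![1, 0, 0, 0] := by
  funext j; rcases j with i | i <;> fin_cases i <;> simp

theorem e0_vec : (e0 F) = Sum.elim ![1, 0, 0, 0] ![0, 0, 0, 0] := by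
  funext j; rcases j with i | i <;> fin_cases i <;> simp

/-! ### The elements -/

/-- The element of the second layer. -/
noncomputable def uEl (σ : F ≃+* F) (t : F) : O (plusQ 4 F) := rt 4 t * rt 12 (σ t) * rt 5 (σ (σ t))

/-- The opposite of `uEl`. -/
noncomputable def uElM (σ : F ≃+* F) (t : F) : O (plusQ 4 F) := rt 11 t * rt 17 (σ t) * rt 10 (σ (σ t))

/-- The element of the third layer. -/
noncomputable def zEl (p q : F) : O (plusQ 4 F) := rt 0 p * rt 2 q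

/-- The element of the first layer for a field twist. -/
noncomputable def vI (σ : F ≃+* F) (s t : F) : O (plusQ 4 F) :=
  rt 1 s * rt 20 (σ s) * rt 21 (σ (σ s)) * rt 3 t * rt 14 (-σ t) * rt 15 (-σ (σ t))

/-- The element of the first layer for the twist of order three of the middle plane. -/
noncomputable def vM (a b : F) : O (plusQ 4 F) :=
  rt 1 (3 * a) * rt 3 (3 * b) * rt 14 (-(3 * a)) * rt 20 (-(3 * a) - 3 * b) * rt 15 (3 * a + 3 * b) *
    rt 21 (3 * b) * rt 5 (9 * (a * a + a * b + b * b)) *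
    rt 0 (-18 * a ^ 3 - 27 * a ^ 2 * b - 27 * a * b ^ 2 - 9 * b ^ 3) *
    rt 2 (-9 * a ^ 3 - 27 * a ^ 2 * b - 27 * a * b ^ 2 - 18 * b ^ 3)

theorem twI_cube {σ : F ≃+* F} (h3 : σ * σ * σ = 1) (t : F) : σ (σ (σ t)) = t := by
  have := DFunLike.congr_fun h3 t
  simpa using this

set_option maxHeartbeats 1600000 in
theorem uEl_mem_twI {σ : F ≃+* F} (h3 : σ * σ * σ = 1) (t : F) : uEl σ t ∈ (twI σ h3).fix := by
  refine (twI σ h3).mem_fix (mul_mem (mul_mem (rt_mem _ _) (rt_mem _ _)) (rt_mem _ _))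
    (((rel_rt4 t).mul (rel_rt12 (σ t))).mul (rel_rt5 (σ (σ t)))) ?_ ?_ ?_
  · rw [Twist.cj_eq_iff]
    intro v
    rw [vec_eq v]
    simp only [uEl, app_mul, semiI_vec, appE4, appE5, appE12]
    apply vec_ext <;> simp [twI_cube h3] <;> ring
  · show app _ (e0 F) = e0 F
    rw [e0_vec]
    simp only [app_mul, appE4, appE5, appE12]
    apply vec_ext <;> simp
  · show app _ (e0 F) = e0 F
    rw [e0_vec]
    simp only [app_mul, appE4, appE5, appE12]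
    apply vec_ext <;> simp

set_option maxHeartbeats 1600000 in
theorem zEl_mem_twI {σ : F ≃+* F} (h3 : σ * σ * σ = 1) {p q : F} (hp : σ p = p) (hq : σ q = q) :
    zEl p q ∈ (twI σ h3).fix := by
  refine (twI σ h3).mem_fix (mul_mem (rt_mem _ _) (rt_mem _ _)) ((rel_rt0 p).mul (rel_rt2 q)) ?_ ?_ ?_
  · rw [Twist.cj_eq_iff]
    intro v
    rw [vec_eq v]
    simp only [zEl, app_mul, semiI_vec, appE0, appE2]
    apply vec_ext <;> simp [hp, hq] <;> ring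
  · show app _ (e0 F) = e0 F
    rw [e0_vec]
    simp only [app_mul, appE0, appE2]
    apply vec_ext <;> simp
  · show app _ (e0 F) = e0 F
    rw [e0_vec]
    simp only [app_mul, appE0, appE2]
    apply vec_ext <;> simp

set_option maxHeartbeats 4000000 in
theorem vI_mem {σ : F ≃+* F} (h3 : σ * σ * σ = 1) (s t : F) : vI σ s t ∈ (twI σ h3).fix := by
  refine (twI σ h3).mem_fix
    (mul_mem (mul_mem (mul_mem (mul_mem (mul_mem (rt_mem _ _) (rt_mem _ _)) (rt_mem _ _)) (rt_mem _ _))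
      (rt_mem _ _)) (rt_mem _ _))
    ((((((rel_rt1 s).mul (rel_rt20 (σ s))).mul (rel_rt21 (σ (σ s)))).mul (rel_rt3 t)).mul
      (rel_rt14 (-σ t))).mul (rel_rt15 (-σ (σ t)))) ?_ ?_ ?_
  · rw [Twist.cj_eq_iff]
    intro v
    rw [vec_eq v]
    simp only [vI, app_mul, semiI_vec, appE1, appE20, appE21, appE3, appE14, appE15]
    apply vec_ext <;> simp [twI_cube h3] <;> ring
  · show app _ (e0 F) = e0 F
    rw [e0_vec]
    simp only [app_mul, appE1, appE20, appE21, appE3, appE14, appE15]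
    apply vec_ext <;> simp
  · show app _ (e0 F) = e0 F
    rw [e0_vec]
    simp only [app_mul, appE1, appE20, appE21, appE3, appE14, appE15]
    apply vec_ext <;> simp

set_option maxHeartbeats 1600000 in
theorem uEl_mem_twM (t : F) : uEl 1 t ∈ (twM F).fix := by
  refine (twM F).mem_fix (mul_mem (mul_mem (rt_mem _ _) (rt_mem _ _)) (rt_mem _ _))
    (((rel_rt4 t).mul (rel_rt12 t)).mul (rel_rt5 t)) ?_ ?_ ?_
  · rw [Twist.cj_eq_iff]
    intro v
    rw [vec_eq v]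
    simp only [uEl, app_mul, semiM_vec, RingAut.one_apply, appE4, appE5, appE12]
    apply vec_ext <;> ring
  · show app _ (e0 F) = e0 F
    rw [e0_vec]
    simp only [app_mul, appE4, appE5, appE12]
    apply vec_ext <;> simp
  · show app _ (e0 F) = e0 F
    rw [e0_vec]
    simp only [app_mul, appE4, appE5, appE12]
    apply vec_ext <;> simp

set_option maxHeartbeats 8000000 in
theorem vM_mem (a b : F) : vM a b ∈ (twM F).fix := by
  refine (twM F).mem_fix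
    (mul_mem (mul_mem (mul_mem (mul_mem (mul_mem (mul_mem (mul_mem (mul_mem (rt_mem _ _) (rt_mem _ _))
      (rt_mem _ _)) (rt_mem _ _)) (rt_mem _ _)) (rt_mem _ _)) (rt_mem _ _)) (rt_mem _ _)) (rt_mem _ _))
    (((((((((rel_rt1 (3 * a)).mul (rel_rt3 (3 * b))).mul (rel_rt14 (-(3 * a)))).mul
      (rel_rt20 (-(3 * a) - 3 * b))).mul (rel_rt15 (3 * a + 3 * b))).mul (rel_rt21 (3 * b))).mul
      (rel_rt5 (9 * (a * a + a * b + b * b)))).mul
      (rel_rt0 (-18 * a ^ 3 - 27 * a ^ 2 * b - 27 * a * b ^ 2 - 9 * b ^ 3))).mul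
      (rel_rt2 (-9 * a ^ 3 - 27 * a ^ 2 * b - 27 * a * b ^ 2 - 18 * b ^ 3))) ?_ ?_ ?_
  · rw [Twist.cj_eq_iff]
    intro v
    rw [vec_eq v]
    simp only [vM, app_mul, semiM_vec, appE0, appE1, appE2, appE3, appE4, appE5, appE14, appE15,
      appE20, appE21]
    apply vec_ext <;> simp <;> ring
  · show app _ (e0 F) = e0 F
    rw [e0_vec]
    simp only [app_mul, appE0, appE1, appE2, appE3, appE4, appE5, appE14, appE15, appE20,
      appE21]
    apply vec_ext <;> simp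
  · show app _ (e0 F) = e0 F
    rw [e0_vec]
    simp only [app_mul, appE0, appE1, appE2, appE3, appE4, appE12, appE14, appE15, appE20,
      appE21]
    apply vec_ext <;> simp

set_option maxHeartbeats 1600000 in
theorem uElM_mem_twI {σ : F ≃+* F} (h3 : σ * σ * σ = 1) (t : F) : uElM σ t ∈ (twI σ h3).fix := by
  refine (twI σ h3).mem_fix4 (mul_mem (mul_mem (rt_mem _ _) (rt_mem _ _)) (rt_mem _ _))
    (((rel_rt11 t).mul (rel_rt17 (σ t))).mul (rel_rt10 (σ (σ t)))) ?_ ?_ ?_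
  · rw [Twist.cj_eq_iff]
    intro v
    rw [vec_eq v]
    simp only [uElM, app_mul, semiI_vec, appE10, appE11, appE17]
    apply vec_ext <;> simp [twI_cube h3] <;> ring
  · show app _ (f0 F) = f0 F
    rw [f0_vec]
    simp only [app_mul, appE17, appE10, appE11]
    apply vec_ext <;> simp
  · show app _ (f0 F) = f0 F
    rw [f0_vec]
    simp only [app_mul, appE10, appE11, appE17]
    apply vec_ext <;> simp

set_option maxHeartbeats 1600000 in
theorem uElM_mem_twM (t : F) : uElM 1 t ∈ (twM F).fix := by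
  refine (twM F).mem_fix4 (mul_mem (mul_mem (rt_mem _ _) (rt_mem _ _)) (rt_mem _ _))
    (((rel_rt11 t).mul (rel_rt17 t)).mul (rel_rt10 t)) ?_ ?_ ?_
  · rw [Twist.cj_eq_iff]
    intro v
    rw [vec_eq v]
    simp only [uElM, RingAut.one_apply, app_mul, semiM_vec, appE10, appE11, appE17]
    apply vec_ext <;> ring
  · show app _ (f0 F) = f0 F
    rw [f0_vec]
    simp only [app_mul, appE17, appE10, appE11]
    apply vec_ext <;> simp
  · show app _ (f0 F) = f0 F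
    rw [f0_vec]
    simp only [app_mul, appE10, appE11, appE17]
    apply vec_ext <;> simp

set_option maxHeartbeats 1600000 in
theorem rt7_mem_twI {σ : F ≃+* F} (h3 : σ * σ * σ = 1) {s : F} (hs : σ s = s) : rt 7 s ∈ (twI σ h3).fix := by
  refine (twI σ h3).mem_fix4 (rt_mem _ _)
    (rel_rt7 s) ?_ ?_ ?_
  · rw [Twist.cj_eq_iff]
    intro v
    rw [vec_eq v]
    simp only [app_mul, semiI_vec, appE7]
    apply vec_ext <;> simp [hs] <;> ring
  · show app _ (f0 F) = f0 F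
    rw [f0_vec]
    simp only [app_mul, appE7]
    apply vec_ext <;> simp
  · show app _ (f0 F) = f0 F
    rw [f0_vec]
    simp only [app_mul, appE7]
    apply vec_ext <;> simp

set_option maxHeartbeats 1600000 in
theorem rt13_mem_twI {σ : F ≃+* F} (h3 : σ * σ * σ = 1) {s : F} (hs : σ s = s) : rt 13 s ∈ (twI σ h3).fix := by
  refine (twI σ h3).mem_fix (rt_mem _ _)
    (rel_rt13 s) ?_ ?_ ?_
  · rw [Twist.cj_eq_iff]
    intro v
    rw [vec_eq v]
    simp only [app_mul, semiI_vec, appE13]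
    apply vec_ext <;> simp [hs] <;> ring
  · show app _ (e0 F) = e0 F
    rw [e0_vec]
    simp only [app_mul, appE13]
    apply vec_ext <;> simp
  · show app _ (e0 F) = e0 F
    rw [e0_vec]
    simp only [app_mul, appE13]
    apply vec_ext <;> simp

set_option maxHeartbeats 1600000 in
theorem rt16_mem_twI {σ : F ≃+* F} (h3 : σ * σ * σ = 1) {s : F} (hs : σ s = s) : rt 16 s ∈ (twI σ h3).fix := by
  refine (twI σ h3).mem_fix (rt_mem _ _)
    (rel_rt16 s) ?_ ?_ ?_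
  · rw [Twist.cj_eq_iff]
    intro v
    rw [vec_eq v]
    simp only [app_mul, semiI_vec, appE16]
    apply vec_ext <;> simp [hs] <;> ring
  · show app _ (e0 F) = e0 F
    rw [e0_vec]
    simp only [app_mul, appE16]
    apply vec_ext <;> simp
  · show app _ (e0 F) = e0 F
    rw [e0_vec]
    simp only [app_mul, appE16]
    apply vec_ext <;> simp

/-- The product of opposite elements of the second layer. -/
theorem app_uu {σ : F ≃+* F} {t : F} (ht : t ≠ 0) (a₀ a₁ a₂ a₃ b₀ b₁ b₂ b₃ : F) :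
    app (uEl σ t * uElM σ t⁻¹) (Sum.elim ![a₀, a₁, a₂, a₃] ![b₀, b₁, b₂, b₃]) =
      Sum.elim ![-(t * σ (σ t)) * b₀, -σ t * b₂, σ t * b₁, t * b₀ - t / σ (σ t) * b₃]
        ![b₀ - a₀ / (t * σ (σ t)) - a₃ / t - b₃ / σ (σ t), b₁ - a₂ / σ t, b₂ + a₁ / σ t, σ (σ t) * b₀ - σ (σ t) / t * a₃] := by
  have h1 : σ t ≠ 0 := (map_ne_zero σ).2 ht
  have h2 : σ (σ t) ≠ 0 := (map_ne_zero σ).2 h1
  simp only [uEl, uElM, app_mul, appE4, appE5, appE12, appE10, appE11, appE17]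
  apply vec_ext <;> simp <;> field_simp <;> ring

/-- The product of opposite elements of the third layer. -/
theorem app_zz {t : F} (ht : t ≠ 0) (a₀ a₁ a₂ a₃ b₀ b₁ b₂ b₃ : F) :
    app (rt 0 t * rt 7 t⁻¹) (Sum.elim ![a₀, a₁, a₂, a₃] ![b₀, b₁, b₂, b₃]) =
      Sum.elim ![-t * b₁, t * b₀, a₂, a₃] ![b₀ - a₁ / t, b₁ + a₀ / t, b₂, b₃] := by
  simp only [app_mul, appE0, appE7]
  apply vec_ext <;> field_simp <;> ring

set_option maxHeartbeats 1600000 in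
theorem uu_six {σ : F ≃+* F} {t : F} (ht : t ≠ 0) :
    (uEl σ t * uElM σ t⁻¹) ^ 6 = 1 ∧ (uEl σ t * uElM σ t⁻¹) ^ 2 ≠ 1 := by
  have h1 : σ t ≠ 0 := (map_ne_zero σ).2 ht
  have h2 : σ (σ t) ≠ 0 := (map_ne_zero σ).2 h1
  constructor
  · refine ext_app fun v => ?_
    set p := uEl σ t * uElM σ t⁻¹ with hp
    simp only [pow_succ, pow_zero, one_mul, app_mul p, app_mul (_ * p), app_one]
    rw [vec_eq v, hp, app_uu ht, app_uu ht, app_uu ht, app_uu ht, app_uu ht, app_uu ht]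
    apply vec_ext <;> field_simp <;> ring
  · intro h
    have h3 := congrArg (fun g => app g (e0 F) (Sum.inl 3)) h
    simp [pow_two, app_mul (uEl σ t * uElM σ t⁻¹), e0_vec, app_uu ht, ht, h1, h2] at h3

theorem zz_six {t : F} (ht : t ≠ 0) : (rt 0 t * rt 7 t⁻¹) ^ 6 = 1 ∧ (rt 0 t * rt 7 t⁻¹) ^ 2 ≠ 1 := by
  constructor
  · refine ext_app fun v => ?_
    set p := rt 0 t * rt 7 t⁻¹ with hp
    simp only [pow_succ, pow_zero, one_mul, app_mul p, app_mul (_ * p), app_one]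
    rw [vec_eq v, hp, app_zz ht, app_zz ht, app_zz ht, app_zz ht, app_zz ht, app_zz ht]
    apply vec_ext <;> field_simp <;> ring
  · intro h
    have h1 := congrArg (fun g => app g (e0 F) (Sum.inr 1)) h
    simp [pow_two, app_mul, e0_vec, app_zz ht, ht] at h1

/-! ### Commutation -/

set_option maxHeartbeats 1600000 in
theorem uEl_add (σ : F ≃+* F) (s t : F) : uEl σ s * uEl σ t = uEl σ (s + t) := by
  refine ext_app fun v => ?_
  rw [vec_eq v]
  simp only [uEl, app_mul, appE4, appE5, appE12, map_add]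
  apply vec_ext <;> ring

theorem zEl_add (p q p' q' : F) : zEl p q * zEl p' q' = zEl (p + p') (q + q') := by
  refine ext_app fun v => ?_
  rw [vec_eq v]
  simp only [zEl, app_mul, appE0, appE2]
  apply vec_ext <;> ring

theorem zEl_uEl (σ : F ≃+* F) (p q t : F) : zEl p q * uEl σ t = uEl σ t * zEl p q := by
  refine ext_app fun v => ?_
  rw [vec_eq v]
  simp only [uEl, zEl, app_mul, appE0, appE2, appE4, appE5, appE12]
  apply vec_ext <;> ring

set_option maxHeartbeats 1600000 in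
theorem zEl_vI (σ : F ≃+* F) (p q s t : F) : zEl p q * vI σ s t = vI σ s t * zEl p q := by
  refine ext_app fun v => ?_
  rw [vec_eq v]
  simp only [vI, zEl, app_mul, appE0, appE2, appE1, appE20, appE21, appE3, appE14, appE15]
  apply vec_ext <;> simp <;> ring

set_option maxHeartbeats 4000000 in
theorem vI_uEl (σ : F ≃+* F) (c d s : F) : vI σ c d * uEl σ s =
    zEl (d * σ s + σ d * σ (σ s) + σ (σ d) * s) (-(c * σ s + σ c * σ (σ s) + σ (σ c) * s)) *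
      (uEl σ s * vI σ c d) := by
  refine ext_app fun v => ?_
  rw [vec_eq v]
  simp only [vI, uEl, zEl, app_mul, appE0, appE2, appE1, appE20, appE21, appE3, appE14, appE15, appE4, appE5,
    appE12]
  apply vec_ext <;> simp <;> ring

set_option maxHeartbeats 4000000 in
theorem vM_uEl (a b t : F) : vM a b * uEl 1 t = uEl 1 t * vM a b := by
  refine ext_app fun v => ?_
  rw [vec_eq v]
  simp only [vM, uEl, RingAut.one_apply, app_mul, appE0, appE2, appE1, appE20, appE21, appE3, appE14, appE15,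
    appE4, appE5, appE12]
  apply vec_ext <;> ring

set_option maxHeartbeats 16000000 in
theorem vM_vM (a b c d : F) : vM a b * vM c d = uEl 1 (-9 * (a * d - b * c)) * (vM c d * vM a b) := by
  refine ext_app fun v => ?_
  rw [vec_eq v]
  simp only [vM, uEl, RingAut.one_apply, app_mul, appE0, appE2, appE1, appE20, appE21, appE3, appE14, appE15,
    appE4, appE5, appE12]
  apply vec_ext <;> ring

end CfsgLib.TriNorm
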