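import Cfsg.Agent.Lib.POmegaBalPlus.TriAlg
import Cfsg.Agent.Lib.AutPSL.BalanceCore

/-!
The fixed points of triality composed with a semisimilarity which commutes with it, as isometries, and explicit
elements among them.
-/

set_option autoImplicit false
set_option linter.unusedSectionVars false

namespace CfsgLib.TriNorm

open Matrix QuadraticMap CfsgLib.Orth CfsgLib.FieldPOmega Cfsg.Agent.GammaO57 Cfsg.Agent.Triality57
  Cfsg.Agent.OutPlus57 Cfsg.Agent.PlusField57 Cfsg.Agent.Levi57 CfsgLib.AutBalance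

variable {F : Type*} [Field F] [Fintype F]

/-! ### Root elements -/

/-- A root element. -/
noncomputable def rt (n : Fin 24) (t : F) : O (plusQ 4 F) := rootE (root n).1 (root n).2 t

theorem app_rt0 (t : F) (x : I → F) : app (rt 0 t) x =
    Sum.elim ![x (.inl 0) - t * x (.inr 1), x (.inl 1) + t * x (.inr 0), x (.inl 2), x (.inl 3)]
      ![x (.inr 0), x (.inr 1), x (.inr 2), x (.inr 3)] := by
  rw [rt, show root 0 = (((0 : Fin 4), true), ((1 : Fin 4), true)) from rfl, app_rootE _ _ (by decide)]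
  funext j
  rcases j with i | i <;> fin_cases i <;> simp [ev, CfsgLib.AutPOmega.hypIdx, CfsgLib.AutPOmega.opp]

theorem app_rt1 (t : F) (x : I → F) : app (rt 1 t) x =
    Sum.elim ![x (.inl 0) - t * x (.inl 1), x (.inl 1), x (.inl 2), x (.inl 3)]
      ![x (.inr 0), x (.inr 1) + t * x (.inr 0), x (.inr 2), x (.inr 3)] := by
  rw [rt, show root 1 = (((0 : Fin 4), true), ((1 : Fin 4), false)) from rfl, app_rootE _ _ (by decide)]
  funext j
  rcases j with i | i <;> fin_cases i <;> simp [ev, CfsgLib.AutPOmega.hypIdx, CfsgLib.AutPOmega.opp]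

theorem app_rt2 (t : F) (x : I → F) : app (rt 2 t) x =
    Sum.elim ![x (.inl 0) - t * x (.inr 2), x (.inl 1), x (.inl 2) + t * x (.inr 0), x (.inl 3)]
      ![x (.inr 0), x (.inr 1), x (.inr 2), x (.inr 3)] := by
  rw [rt, show root 2 = (((0 : Fin 4), true), ((2 : Fin 4), true)) from rfl, app_rootE _ _ (by decide)]
  funext j
  rcases j with i | i <;> fin_cases i <;> simp [ev, CfsgLib.AutPOmega.hypIdx, CfsgLib.AutPOmega.opp]

theorem app_rt3 (t : F) (x : I → F) : app (rt 3 t) x =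
    Sum.elim ![x (.inl 0) - t * x (.inl 2), x (.inl 1), x (.inl 2), x (.inl 3)]
      ![x (.inr 0), x (.inr 1), x (.inr 2) + t * x (.inr 0), x (.inr 3)] := by
  rw [rt, show root 3 = (((0 : Fin 4), true), ((2 : Fin 4), false)) from rfl, app_rootE _ _ (by decide)]
  funext j
  rcases j with i | i <;> fin_cases i <;> simp [ev, CfsgLib.AutPOmega.hypIdx, CfsgLib.AutPOmega.opp]

theorem app_rt4 (t : F) (x : I → F) : app (rt 4 t) x =
    Sum.elim ![x (.inl 0) - t * x (.inr 3), x (.inl 1), x (.inl 2), x (.inl 3) + t * x (.inr 0)]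
      ![x (.inr 0), x (.inr 1), x (.inr 2), x (.inr 3)] := by
  rw [rt, show root 4 = (((0 : Fin 4), true), ((3 : Fin 4), true)) from rfl, app_rootE _ _ (by decide)]
  funext j
  rcases j with i | i <;> fin_cases i <;> simp [ev, CfsgLib.AutPOmega.hypIdx, CfsgLib.AutPOmega.opp]

theorem app_rt5 (t : F) (x : I → F) : app (rt 5 t) x =
    Sum.elim ![x (.inl 0) - t * x (.inl 3), x (.inl 1), x (.inl 2), x (.inl 3)]
      ![x (.inr 0), x (.inr 1), x (.inr 2), x (.inr 3) + t * x (.inr 0)] := by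
  rw [rt, show root 5 = (((0 : Fin 4), true), ((3 : Fin 4), false)) from rfl, app_rootE _ _ (by decide)]
  funext j
  rcases j with i | i <;> fin_cases i <;> simp [ev, CfsgLib.AutPOmega.hypIdx, CfsgLib.AutPOmega.opp]

theorem app_rt7 (t : F) (x : I → F) : app (rt 7 t) x =
    Sum.elim ![x (.inl 0), x (.inl 1), x (.inl 2), x (.inl 3)]
      ![x (.inr 0) - t * x (.inl 1), x (.inr 1) + t * x (.inl 0), x (.inr 2), x (.inr 3)] := by
  rw [rt, show root 7 = (((0 : Fin 4), false), ((1 : Fin 4), false)) from rfl, app_rootE _ _ (by decide)]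
  funext j
  rcases j with i | i <;> fin_cases i <;> simp [ev, CfsgLib.AutPOmega.hypIdx, CfsgLib.AutPOmega.opp]

theorem app_rt10 (t : F) (x : I → F) : app (rt 10 t) x =
    Sum.elim ![x (.inl 0), x (.inl 1), x (.inl 2), x (.inl 3) + t * x (.inl 0)]
      ![x (.inr 0) - t * x (.inr 3), x (.inr 1), x (.inr 2), x (.inr 3)] := by
  rw [rt, show root 10 = (((0 : Fin 4), false), ((3 : Fin 4), true)) from rfl, app_rootE _ _ (by decide)]
  funext j
  rcases j with i | i <;> fin_cases i <;> simp [ev, CfsgLib.AutPOmega.hypIdx, CfsgLib.AutPOmega.opp]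

theorem app_rt11 (t : F) (x : I → F) : app (rt 11 t) x =
    Sum.elim ![x (.inl 0), x (.inl 1), x (.inl 2), x (.inl 3)]
      ![x (.inr 0) - t * x (.inl 3), x (.inr 1), x (.inr 2), x (.inr 3) + t * x (.inl 0)] := by
  rw [rt, show root 11 = (((0 : Fin 4), false), ((3 : Fin 4), false)) from rfl, app_rootE _ _ (by decide)]
  funext j
  rcases j with i | i <;> fin_cases i <;> simp [ev, CfsgLib.AutPOmega.hypIdx, CfsgLib.AutPOmega.opp]

theorem app_rt12 (t : F) (x : I → F) : app (rt 12 t) x =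
    Sum.elim ![x (.inl 0), x (.inl 1) - t * x (.inr 2), x (.inl 2) + t * x (.inr 1), x (.inl 3)]
      ![x (.inr 0), x (.inr 1), x (.inr 2), x (.inr 3)] := by
  rw [rt, show root 12 = (((1 : Fin 4), true), ((2 : Fin 4), true)) from rfl, app_rootE _ _ (by decide)]
  funext j
  rcases j with i | i <;> fin_cases i <;> simp [ev, CfsgLib.AutPOmega.hypIdx, CfsgLib.AutPOmega.opp]

theorem app_rt13 (t : F) (x : I → F) : app (rt 13 t) x =
    Sum.elim ![x (.inl 0), x (.inl 1) - t * x (.inl 2), x (.inl 2), x (.inl 3)]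
      ![x (.inr 0), x (.inr 1), x (.inr 2) + t * x (.inr 1), x (.inr 3)] := by
  rw [rt, show root 13 = (((1 : Fin 4), true), ((2 : Fin 4), false)) from rfl, app_rootE _ _ (by decide)]
  funext j
  rcases j with i | i <;> fin_cases i <;> simp [ev, CfsgLib.AutPOmega.hypIdx, CfsgLib.AutPOmega.opp]

theorem app_rt14 (t : F) (x : I → F) : app (rt 14 t) x =
    Sum.elim ![x (.inl 0), x (.inl 1) - t * x (.inr 3), x (.inl 2), x (.inl 3) + t * x (.inr 1)]
      ![x (.inr 0), x (.inr 1), x (.inr 2), x (.inr 3)] := by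
  rw [rt, show root 14 = (((1 : Fin 4), true), ((3 : Fin 4), true)) from rfl, app_rootE _ _ (by decide)]
  funext j
  rcases j with i | i <;> fin_cases i <;> simp [ev, CfsgLib.AutPOmega.hypIdx, CfsgLib.AutPOmega.opp]

theorem app_rt15 (t : F) (x : I → F) : app (rt 15 t) x =
    Sum.elim ![x (.inl 0), x (.inl 1) - t * x (.inl 3), x (.inl 2), x (.inl 3)]
      ![x (.inr 0), x (.inr 1), x (.inr 2), x (.inr 3) + t * x (.inr 1)] := by
  rw [rt, show root 15 = (((1 : Fin 4), true), ((3 : Fin 4), false)) from rfl, app_rootE _ _ (by decide)]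
  funext j
  rcases j with i | i <;> fin_cases i <;> simp [ev, CfsgLib.AutPOmega.hypIdx, CfsgLib.AutPOmega.opp]

theorem app_rt16 (t : F) (x : I → F) : app (rt 16 t) x =
    Sum.elim ![x (.inl 0), x (.inl 1), x (.inl 2) + t * x (.inl 1), x (.inl 3)]
      ![x (.inr 0), x (.inr 1) - t * x (.inr 2), x (.inr 2), x (.inr 3)] := by
  rw [rt, show root 16 = (((1 : Fin 4), false), ((2 : Fin 4), true)) from rfl, app_rootE _ _ (by decide)]
  funext j
  rcases j with i | i <;> fin_cases i <;> simp [ev, CfsgLib.AutPOmega.hypIdx, CfsgLib.AutPOmega.opp]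

theorem app_rt17 (t : F) (x : I → F) : app (rt 17 t) x =
    Sum.elim ![x (.inl 0), x (.inl 1), x (.inl 2), x (.inl 3)]
      ![x (.inr 0), x (.inr 1) - t * x (.inl 2), x (.inr 2) + t * x (.inl 1), x (.inr 3)] := by
  rw [rt, show root 17 = (((1 : Fin 4), false), ((2 : Fin 4), false)) from rfl, app_rootE _ _ (by decide)]
  funext j
  rcases j with i | i <;> fin_cases i <;> simp [ev, CfsgLib.AutPOmega.hypIdx, CfsgLib.AutPOmega.opp]

theorem app_rt20 (t : F) (x : I → F) : app (rt 20 t) x =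
    Sum.elim ![x (.inl 0), x (.inl 1), x (.inl 2) - t * x (.inr 3), x (.inl 3) + t * x (.inr 2)]
      ![x (.inr 0), x (.inr 1), x (.inr 2), x (.inr 3)] := by
  rw [rt, show root 20 = (((2 : Fin 4), true), ((3 : Fin 4), true)) from rfl, app_rootE _ _ (by decide)]
  funext j
  rcases j with i | i <;> fin_cases i <;> simp [ev, CfsgLib.AutPOmega.hypIdx, CfsgLib.AutPOmega.opp]

theorem app_rt21 (t : F) (x : I → F) : app (rt 21 t) x =
    Sum.elim ![x (.inl 0), x (.inl 1), x (.inl 2) - t * x (.inl 3), x (.inl 3)]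
      ![x (.inr 0), x (.inr 1), x (.inr 2), x (.inr 3) + t * x (.inr 2)] := by
  rw [rt, show root 21 = (((2 : Fin 4), true), ((3 : Fin 4), false)) from rfl, app_rootE _ _ (by decide)]
  funext j
  rcases j with i | i <;> fin_cases i <;> simp [ev, CfsgLib.AutPOmega.hypIdx, CfsgLib.AutPOmega.opp]

theorem rt_mem (n : Fin 24) (t : F) : rt n t ∈ Cfsg.Omega F ⇑(plusQ 4 F) := rootE_mem _ _ _

theorem rel_rt0 (t : F) : Rel (rt 0 t) (rt 0 t) (rt 0 t) := fun x y z => by
  rw [app_rt0, app_rt0, app_rt0, tri_eq, tri_eq]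
  simp
  ring

theorem rel_rt1 (t : F) : Rel (rt 1 t) (rt 20 t) (rt 21 t) := fun x y z => by
  rw [app_rt1, app_rt20, app_rt21, tri_eq, tri_eq]
  simp
  ring

theorem rel_rt2 (t : F) : Rel (rt 2 t) (rt 2 t) (rt 2 t) := fun x y z => by
  rw [app_rt2, app_rt2, app_rt2, tri_eq, tri_eq]
  simp
  ring

theorem rel_rt3 (t : F) : Rel (rt 3 t) (rt 14 (-t)) (rt 15 (-t)) := fun x y z => by
  rw [app_rt3, app_rt14, app_rt15, tri_eq, tri_eq]
  simp
  ring

theorem rel_rt4 (t : F) : Rel (rt 4 t) (rt 12 t) (rt 5 t) := fun x y z => by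
  rw [app_rt4, app_rt12, app_rt5, tri_eq, tri_eq]
  simp
  ring

theorem rel_rt7 (t : F) : Rel (rt 7 t) (rt 7 t) (rt 7 t) := fun x y z => by
  rw [app_rt7, app_rt7, app_rt7, tri_eq, tri_eq]
  simp
  ring

theorem rel_rt11 (t : F) : Rel (rt 11 t) (rt 17 t) (rt 10 t) := fun x y z => by
  rw [app_rt11, app_rt17, app_rt10, tri_eq, tri_eq]
  simp
  ring

theorem rel_rt13 (t : F) : Rel (rt 13 t) (rt 13 t) (rt 13 t) := fun x y z => by
  rw [app_rt13, app_rt13, app_rt13, tri_eq, tri_eq]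
  simp
  ring

theorem rel_rt16 (t : F) : Rel (rt 16 t) (rt 16 t) (rt 16 t) := fun x y z => by
  rw [app_rt16, app_rt16, app_rt16, tri_eq, tri_eq]
  simp
  ring

/-! ### Automorphisms commuting with triality -/

/-- A semisimilarity of order dividing three which stabilises the trilinear form and fixes the two base points. -/
structure Twist (F : Type*) [Field F] [Fintype F] where
  φ : ↥(semiGroup (plusQ 4 F))
  trip : ((φ, φ, φ) : SS F) ∈ tripSub F
  three : φ * φ * φ = 1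
  fix0 : semi φ.1 (Pi.single (.inl 0) 1) = Pi.single (.inl 0) 1
  fix4 : semi φ.1 (Pi.single (.inr 0) 1) = Pi.single (.inr 0) 1

variable (D : Twist F)

/-- The automorphism. -/
noncomputable def Twist.x : MulAut (PG4 F) := gAut (plusQ 4 F) D.φ * triality F

theorem Twist.comm : triality F * gAut (plusQ 4 F) D.φ = gAut (plusQ 4 F) D.φ * triality F :=
  intertwine (P := ((D.φ, D.φ, D.φ) : SS F)) D.trip

theorem Twist.x_pow : D.x ^ 3 = 1 := by
  rw [Twist.x, (show Commute (gAut (plusQ 4 F) D.φ) (triality F) from D.comm.symm).mul_pow, ← map_pow,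
    triality_pow_three, pow_succ, pow_two, D.three, map_one, one_mul]

theorem semi_fix_of_order {v : I → F} (h : semi D.φ.1 v = v) : semi D.φ⁻¹.1 v = v := by
  conv_lhs => rw [← h]
  exact semi_inv_semi D.φ.1 v

/-- Conjugation by the semisimilarity. -/
noncomputable def Twist.cj (g : O (plusQ 4 F)) : O (plusQ 4 F) := conjO (plusQ 4 F) D.φ g

theorem Twist.cj_eq_iff {g f : O (plusQ 4 F)} :
    D.cj g = f ↔ ∀ v, semi D.φ.1 (app g v) = app f (semi D.φ.1 v) := by
  refine ⟨fun h v => by rw [← h, Twist.cj, semi_app_conj], fun h => ext_app fun w => ?_⟩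
  obtain ⟨v, rfl⟩ : ∃ v, semi D.φ.1 v = w := ⟨_, semi_semi_inv _ w⟩
  rw [Twist.cj, semi_app_conj, h]

/-- The isometries whose triple is invariant: the lifts of the fixed points. -/
def Twist.fix : Subgroup (O (plusQ 4 F)) where
  carrier := {f | f ∈ Cfsg.Omega F ⇑(plusQ 4 F) ∧
    Rel f (conjO (plusQ 4 F) D.φ⁻¹ f) (conjO (plusQ 4 F) (D.φ⁻¹ * D.φ⁻¹) f)}
  one_mem' := by
    refine ⟨one_mem _, ?_⟩
    rw [MulEquiv.map_one, MulEquiv.map_one]
    exact Rel.one
  mul_mem' := by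
    rintro a b ⟨ha, e⟩ ⟨hb, e'⟩
    refine ⟨mul_mem ha hb, ?_⟩
    rw [MulEquiv.map_mul, MulEquiv.map_mul]
    exact e.mul e'
  inv_mem' := by
    rintro a ⟨ha, e⟩
    refine ⟨inv_mem ha, ?_⟩
    rw [map_inv (conjO (plusQ 4 F) D.φ⁻¹), map_inv (conjO (plusQ 4 F) (D.φ⁻¹ * D.φ⁻¹))]
    exact e.inv

theorem Twist.conj_mem_omega {f : O (plusQ 4 F)} (hf : f ∈ Cfsg.Omega F ⇑(plusQ 4 F))
    (y : ↥(semiGroup (plusQ 4 F))) : conjO (plusQ 4 F) y f ∈ Cfsg.Omega F ⇑(plusQ 4 F) :=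
  (commAut (O (plusQ 4 F)) (conjO (plusQ 4 F) y) ⟨f, hf⟩).2

theorem Twist.cj_rel {f g h : O (plusQ 4 F)} (e : Rel f g h) : Rel (D.cj f) (D.cj g) (D.cj h) := by
  obtain ⟨-, -, c, hc⟩ := D.trip
  intro x y z
  obtain ⟨x, rfl⟩ : ∃ v, semi D.φ.1 v = x := ⟨_, semi_semi_inv _ x⟩
  obtain ⟨y, rfl⟩ : ∃ v, semi D.φ.1 v = y := ⟨_, semi_semi_inv _ y⟩
  obtain ⟨z, rfl⟩ : ∃ v, semi D.φ.1 v = z := ⟨_, semi_semi_inv _ z⟩
  have hx := semi_app_conj (Q := plusQ 4 F) D.φ
  rw [Twist.cj, Twist.cj, Twist.cj, hx, hx, hx]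
  exact (hc _ _ _).trans (by rw [e]; exact (hc _ _ _).symm)

theorem Twist.inv_inv_eq : D.φ⁻¹ * D.φ⁻¹ = D.φ := by
  rw [← _root_.mul_inv_rev, inv_eq_iff_mul_eq_one, D.three]

/-- Membership from a triple fixed by the twisted shift. -/
theorem Twist.mem_fix_of {f g h : O (plusQ 4 F)} (hf : f ∈ Cfsg.Omega F ⇑(plusQ 4 F)) (e : Rel f g h)
    (hg : D.cj g = f) {j : I} (hj : semi D.φ.1 (Pi.single j 1) = Pi.single j 1)
    (g0 : app g (Pi.single j 1) = Pi.single j 1)
    (h0 : app h (Pi.single j 1) = Pi.single j 1) : f ∈ D.fix := by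
  have e' : Rel f (D.cj h) (D.cj f) := by
    have := D.cj_rel e.cycle
    rwa [hg] at this
  have e1 := e.inv.mul e'
  rw [inv_mul_cancel] at e1
  obtain ⟨l, hl, hgl, -⟩ := rel_one_left e1
  have hh : D.cj h = g := by
    have h1 := hgl (Pi.single j 1)
    have h2 : app (D.cj h) (Pi.single j 1) = Pi.single j 1 := by
      conv_lhs => rw [← hj]
      rw [Twist.cj, semi_app_conj, h0, hj]
    have h3 : app g⁻¹ (Pi.single j 1) = (Pi.single j 1 : I → F) := by
      conv_lhs => rw [← g0]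
      exact app_inv_app g _
    rw [app_mul, h2, h3] at h1
    have hl1 : l = 1 := by simpa using (congrFun h1 j).symm
    have h4 : g⁻¹ * D.cj h = 1 := ext_app fun v => by rw [hgl, hl1, one_smul, app_one]
    exact (inv_mul_eq_one.1 h4).symm
  refine ⟨hf, ?_⟩
  have k1 : conjO (plusQ 4 F) D.φ⁻¹ f = g := by
    rw [← hg, Twist.cj, ← MulAut.mul_apply, ← map_mul, inv_mul_cancel, map_one, MulAut.one_apply]
  have k2 : conjO (plusQ 4 F) (D.φ⁻¹ * D.φ⁻¹) f = h := by
    rw [map_mul, MulAut.mul_apply, k1, ← hh, Twist.cj, ← MulAut.mul_apply, ← map_mul, inv_mul_cancel, map_one,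
      MulAut.one_apply]
  rw [k1, k2]
  exact e

theorem Twist.mem_fix {f g h : O (plusQ 4 F)} (hf : f ∈ Cfsg.Omega F ⇑(plusQ 4 F)) (e : Rel f g h)
    (hg : D.cj g = f) (g0 : app g (Pi.single (.inl 0) 1) = Pi.single (.inl 0) 1)
    (h0 : app h (Pi.single (.inl 0) 1) = Pi.single (.inl 0) 1) : f ∈ D.fix :=
  D.mem_fix_of hf e hg D.fix0 g0 h0

theorem Twist.mem_fix4 {f g h : O (plusQ 4 F)} (hf : f ∈ Cfsg.Omega F ⇑(plusQ 4 F)) (e : Rel f g h)
    (hg : D.cj g = f) (g0 : app g (Pi.single (.inr 0) 1) = Pi.single (.inr 0) 1)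
    (h0 : app h (Pi.single (.inr 0) 1) = Pi.single (.inr 0) 1) : f ∈ D.fix :=
  D.mem_fix_of hf e hg D.fix4 g0 h0

theorem Twist.fix_le : D.fix ≤ Cfsg.Omega F ⇑(plusQ 4 F) := fun _ hf => hf.1

theorem Twist.mk_fixed {f : O (plusQ 4 F)} (hf : f ∈ D.fix) :
    (QuotientGroup.mk' _ ⟨f, hf.1⟩ : PG4 F) ∈ fixedPts D.x := by
  let f' : ↥(Cfsg.Omega F ⇑(plusQ 4 F)) := ⟨f, hf.1⟩
  let g' : ↥(Cfsg.Omega F ⇑(plusQ 4 F)) :=
    ⟨conjO (plusQ 4 F) D.φ⁻¹ f, Twist.conj_mem_omega hf.1 D.φ⁻¹⟩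
  let h' : ↥(Cfsg.Omega F ⇑(plusQ 4 F)) :=
    ⟨conjO (plusQ 4 F) (D.φ⁻¹ * D.φ⁻¹) f, Twist.conj_mem_omega hf.1 (D.φ⁻¹ * D.φ⁻¹)⟩
  have e : Rel (f' : O (plusQ 4 F)) (g' : O (plusQ 4 F)) (h' : O (plusQ 4 F)) := hf.2
  have e1 : triality F (QuotientGroup.mk f') = QuotientGroup.mk g' := triality_spec e
  have e2 : gAut (plusQ 4 F) D.φ (QuotientGroup.mk g') = QuotientGroup.mk f' := by
    rw [gAut_mk]
    refine congrArg QuotientGroup.mk (Subtype.ext ?_)
    show conjO (plusQ 4 F) D.φ (conjO (plusQ 4 F) D.φ⁻¹ f) = f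
    rw [← MulAut.mul_apply, ← map_mul, mul_inv_cancel, map_one, MulAut.one_apply]
  have e3 : (gAut (plusQ 4 F) D.φ * triality F) (QuotientGroup.mk f') = QuotientGroup.mk f' := by
    rw [MulAut.mul_apply, e1, e2]
  exact e3

/-- The projection to the fixed points. -/
noncomputable def Twist.toFix : ↥D.fix →* fixedPts D.x :=
  MonoidHom.codRestrict ((QuotientGroup.mk' _).comp (Subgroup.inclusion D.fix_le)) _ fun f => D.mk_fixed f.2

theorem Twist.toFix_coe (f : ↥D.fix) :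
    ((D.toFix f : fixedPts D.x) : PG4 F) = QuotientGroup.mk ⟨f.1, f.2.1⟩ := rfl

theorem conjO_scalar (y : ↥(semiGroup (plusQ 4 F))) {f : O (plusQ 4 F)} {l : F} (hl : l * l = 1)
    (h : ∀ v, app f v = l • v) : conjO (plusQ 4 F) y f = f := ext_app fun w => by
  obtain ⟨v, rfl⟩ : ∃ v, semi y.1 v = w := ⟨_, semi_semi_inv _ w⟩
  rw [semi_app_conj, h, h, Cfsg.Agent.GammaO57.semi_smul]
  rcases mul_self_eq_one_iff.1 hl with rfl | rfl <;> simp

set_option maxHeartbeats 1600000 in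
theorem Twist.toFix_bijective : Function.Bijective D.toFix := by
  constructor
  · refine (injective_iff_map_eq_one _).2 fun f hf => ?_
    obtain ⟨l, hl, hfl'⟩ := sign_of_mk_eq_one (congrArg Subtype.val hf)
    have hfl : ∀ v, app f.1 v = l • v := hfl'
    have h2 := f.2.2 (Pi.single (.inl 0) 1) (Pi.single (.inr 0) 1) (Pi.single (.inl 3) 1)
    rw [conjO_scalar _ hl hfl, conjO_scalar _ hl hfl, hfl, hfl, hfl, tri_smul, tri_eq] at h2
    have hl1 : l = 1 := by
      simp [hl] at h2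
      exact h2
    exact Subtype.ext (ext_app fun v => by
      show app f.1 v = app 1 v
      rw [hfl, hl1, one_smul, app_one])
  · rintro ⟨k, hk⟩
    obtain ⟨f, g, h, e, rfl⟩ := exists_triple k
    set g0 := conjO (plusQ 4 F) D.φ⁻¹ (f : O (plusQ 4 F)) with hg0
    set h0 := conjO (plusQ 4 F) (D.φ⁻¹ * D.φ⁻¹) (f : O (plusQ 4 F)) with hh0
    have m1 : g0 ∈ Cfsg.Omega F ⇑(plusQ 4 F) := Twist.conj_mem_omega f.2 _
    have m2 : h0 ∈ Cfsg.Omega F ⇑(plusQ 4 F) := Twist.conj_mem_omega f.2 _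
    have hxk : gAut (plusQ 4 F) D.φ (triality F (QuotientGroup.mk f)) = QuotientGroup.mk f := hk
    have e1 : (QuotientGroup.mk g : PG4 F) = QuotientGroup.mk ⟨g0, m1⟩ := by
      have h1 := congrArg (gAut (plusQ 4 F) D.φ⁻¹) hxk
      rw [map_inv, MulAut.inv_apply_self, ← map_inv, triality_spec e, gAut_mk] at h1
      exact h1
    have e2 : (QuotientGroup.mk h : PG4 F) = QuotientGroup.mk ⟨h0, m2⟩ := by
      have hc : triality F * gAut (plusQ 4 F) D.φ⁻¹ = gAut (plusQ 4 F) D.φ⁻¹ * triality F := by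
        rw [map_inv]
        exact ((show Commute (triality F) (gAut (plusQ 4 F) D.φ) from D.comm).inv_right).eq
      have h1 := DFunLike.congr_fun hc (QuotientGroup.mk f)
      rw [MulAut.mul_apply, MulAut.mul_apply, gAut_mk, triality_spec e] at h1
      change triality F (QuotientGroup.mk (⟨g0, m1⟩ : ↥(Cfsg.Omega F ⇑(plusQ 4 F)))) = _ at h1
      rw [← e1, triality_spec e.cycle, e1, gAut_mk] at h1
      rw [h1]
      refine congrArg QuotientGroup.mk (Subtype.ext ?_)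
      show conjO (plusQ 4 F) D.φ⁻¹ g0 = h0
      rw [hg0, hh0, map_mul, MulAut.mul_apply]
    have s1 : (g : O (plusQ 4 F))⁻¹ * g0 ∈ Cfsg.Omega F ⇑(plusQ 4 F) := mul_mem (inv_mem g.2) m1
    have s2 : (h : O (plusQ 4 F))⁻¹ * h0 ∈ Cfsg.Omega F ⇑(plusQ 4 F) := mul_mem (inv_mem h.2) m2
    obtain ⟨a, ha, hga⟩ := sign_of_mk_eq_one (s := g⁻¹ * ⟨g0, m1⟩) (by
      rw [QuotientGroup.mk_mul, QuotientGroup.mk_inv, e1, inv_mul_cancel])
    obtain ⟨b, hb, hhb⟩ := sign_of_mk_eq_one (s := h⁻¹ * ⟨h0, m2⟩) (by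
      rw [QuotientGroup.mk_mul, QuotientGroup.mk_inv, e2, inv_mul_cancel])
    set z1 : O (plusQ 4 F) := (g : O (plusQ 4 F))⁻¹ * g0 with hz1
    set z2 : O (plusQ 4 F) := (h : O (plusQ 4 F))⁻¹ * h0 with hz2
    have hgv : ∀ v, app g0 v = a • app (g : O (plusQ 4 F)) v := fun v => by
      rw [← map_smul, ← hga v]
      show _ = app _ (app z1 v)
      rw [← app_mul, hz1, mul_inv_cancel_left]
    have hhv : ∀ v, app h0 v = b • app (h : O (plusQ 4 F)) v := fun v => by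
      rw [← map_smul, ← hhb v]
      show _ = app _ (app z2 v)
      rw [← app_mul, hz2, mul_inv_cancel_left]
    have hz1' : ∀ v, app z1 v = a • v := hga
    have hz2' : ∀ v, app z2 v = b • v := hhb
    have hm : (f : O (plusQ 4 F)) * z1 * z2 ∈ D.fix := by
      refine ⟨mul_mem (mul_mem f.2 s1) s2, fun x y z => ?_⟩
      simp only [map_mul (conjO (plusQ 4 F) D.φ⁻¹), map_mul (conjO (plusQ 4 F) (D.φ⁻¹ * D.φ⁻¹)),
        conjO_scalar _ ha hz1', conjO_scalar _ hb hz2', app_mul, hz1', hz2', map_smul, ← hg0, ← hh0, hgv, hhv,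
        smul_smul, tri_smul]
      rw [e]
      rcases mul_self_eq_one_iff.1 ha with rfl | rfl <;> rcases mul_self_eq_one_iff.1 hb with rfl | rfl <;> simp
    refine ⟨⟨_, hm⟩, Subtype.ext ?_⟩
    show (QuotientGroup.mk (f * ⟨z1, s1⟩ * ⟨z2, s2⟩) : PG4 F) = QuotientGroup.mk f
    rw [QuotientGroup.mk_mul, QuotientGroup.mk_mul, mk_eq_one_of_sign s1 ⟨a, ha, hz1'⟩,
      mk_eq_one_of_sign s2 ⟨b, hb, hz2'⟩, mul_one, mul_one]

/-- The fixed points are the invariant triples. -/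
noncomputable def Twist.fixEquiv : ↥D.fix ≃* fixedPts D.x := MulEquiv.ofBijective D.toFix D.toFix_bijective

end CfsgLib.TriNorm
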