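import Cfsg.Agent.Lib.POmegaBalPlus.TriCent
import Cfsg.Agent.Lib.AutPSL.FieldGalois

/-!
Elements of the triality coset of order three fixing two opposite base lines in all three places are conjugate
to one of the two twists.
-/

set_option autoImplicit false
set_option linter.unusedSectionVars false

namespace CfsgLib.TriNorm

open Matrix QuadraticMap CfsgLib.Orth CfsgLib.FieldPOmega Cfsg.Agent.GammaO57 Cfsg.Agent.Triality57
  Cfsg.Agent.OutPlus57 Cfsg.Agent.PlusField57 Cfsg.Agent.Levi57 Cfsg.Agent.PlusSplit57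

variable {F : Type*} [Field F] [Fintype F]

/-- The parameters of an element of the stabiliser of two opposite flags. -/
abbrev Prm (F : Type*) [Field F] := GL (Fin 2) F × Fˣ × Fˣ × Fˣ

/-- The determinant of the plane part. -/
def dt (R : Prm F) : F := (R.1 : Matrix (Fin 2) (Fin 2) F).det

theorem dt_ne (R : Prm F) : dt R ≠ 0 :=
  ((Matrix.isUnit_iff_isUnit_det _).1 R.1.isUnit).ne_zero

theorem dt_mul (R S : Prm F) : dt (R * S) = dt R * dt S := by
  rw [dt, dt, dt, ← det_mul]; rfl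

/-- Cyclic shift of the parameters. -/
def rot : Prm F →* Prm F where
  toFun R := (R.1, R.2.2.1, R.2.2.2, R.2.1)
  map_one' := rfl
  map_mul' _ _ := rfl

/-- A field automorphism on the parameters. -/
def pm (σ : F ≃+* F) : Prm F →* Prm F :=
  (GeneralLinearGroup.map σ.toRingHom).prodMap
    ((Units.map σ.toMonoidHom).prodMap ((Units.map σ.toMonoidHom).prodMap (Units.map σ.toMonoidHom)))

/-- Scalars among the parameters. -/
def scal (l : Fˣ) : Prm F := (GeneralLinearGroup.scalar (Fin 2) l, l, l, l)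

/-- The linear map attached to parameters. -/
def levF (R : Prm F) : (I → F) →ₗ[F] (I → F) where
  toFun x := Sum.elim
    ![dt R / R.2.2.2 * x (.inl 0), R.1.1 0 0 * x (.inl 1) + R.1.1 0 1 * x (.inl 2),
      R.1.1 1 0 * x (.inl 1) + R.1.1 1 1 * x (.inl 2), R.2.1 * x (.inl 3)]
    ![R.2.1 * R.2.2.1 * R.2.2.2 / dt R * x (.inr 0),
      R.2.1 * R.2.2.1 / dt R * (R.1.1 1 1 * x (.inr 1) - R.1.1 1 0 * x (.inr 2)),
      R.2.1 * R.2.2.1 / dt R * (R.1.1 0 0 * x (.inr 2) - R.1.1 0 1 * x (.inr 1)), R.2.2.1 * x (.inr 3)]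
  map_add' x y := by funext j; rcases j with i | i <;> fin_cases i <;> simp <;> ring
  map_smul' c x := by funext j; rcases j with i | i <;> fin_cases i <;> simp <;> ring

theorem levF_apply (R : Prm F) (x : I → F) : levF R x = Sum.elim
    ![dt R / R.2.2.2 * x (.inl 0), R.1.1 0 0 * x (.inl 1) + R.1.1 0 1 * x (.inl 2),
      R.1.1 1 0 * x (.inl 1) + R.1.1 1 1 * x (.inl 2), R.2.1 * x (.inl 3)]
    ![R.2.1 * R.2.2.1 * R.2.2.2 / dt R * x (.inr 0),
      R.2.1 * R.2.2.1 / dt R * (R.1.1 1 1 * x (.inr 1) - R.1.1 1 0 * x (.inr 2)),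
      R.2.1 * R.2.2.1 / dt R * (R.1.1 0 0 * x (.inr 2) - R.1.1 0 1 * x (.inr 1)), R.2.2.1 * x (.inr 3)] := rfl

theorem levF_mul (R S : Prm F) (x : I → F) : levF (R * S) x = levF R (levF S x) := by
  have h1 := dt_ne R
  have h2 := dt_ne S
  rw [levF_apply, levF_apply, levF_apply, dt_mul]
  apply vec_ext <;>
    simp [Matrix.mul_apply, Fin.sum_univ_two] <;> field_simp <;> ring

theorem levF_one (x : I → F) : levF (1 : Prm F) x = x := by
  rw [levF_apply]
  conv_rhs => rw [vec_eq x]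
  apply vec_ext <;> simp [dt]

theorem comp_levF (σ : F ≃+* F) (R : Prm F) (x : I → F) : ⇑σ ∘ levF R x = levF (pm σ R) (⇑σ ∘ x) := by
  have hd : dt (pm σ R) = σ (dt R) := by
    rw [dt, dt, RingEquiv.map_det]; rfl
  rw [levF_apply, levF_apply, hd]
  funext j
  rcases j with i | i <;> fin_cases i <;> simp [pm]

/-- The invertible matrix attached to parameters. -/
noncomputable def levGL (R : Prm F) : GL I F :=
  ⟨LinearMap.toMatrix' (levF R), LinearMap.toMatrix' (levF R⁻¹),
    by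
      rw [← LinearMap.toMatrix'_comp, ← LinearMap.toMatrix'_id]
      exact congrArg _ (LinearMap.ext fun x => by rw [LinearMap.comp_apply, ← levF_mul, mul_inv_cancel, levF_one]; rfl),
    by
      rw [← LinearMap.toMatrix'_comp, ← LinearMap.toMatrix'_id]
      exact congrArg _ (LinearMap.ext fun x => by rw [LinearMap.comp_apply, ← levF_mul, inv_mul_cancel, levF_one]; rfl)⟩

/-- The semisimilarity attached to parameters and a field automorphism. -/
noncomputable def levS (σ : F ≃+* F) (R : Prm F) : ↥(semiGroup (plusQ 4 F)) :=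
  ⟨⟨levGL R, σ⟩, R.2.1 * R.2.2.1, fun v => by
    show plusQ 4 F (LinearMap.toMatrix' (levF R) *ᵥ (σ ∘ v)) = _
    have hd := dt_ne R
    have hdd : R.1.1 0 0 * R.1.1 1 1 - R.1.1 0 1 * R.1.1 1 0 = dt R := (det_fin_two _).symm
    have h3 := R.2.2.2.ne_zero
    rw [LinearMap.toMatrix'_mulVec, levF_apply, Q_eq, Q_eq, map_add, map_add, map_add, map_mul, map_mul, map_mul,
      map_mul]
    simp
    field_simp
    linear_combination
      (σ (v (.inl 1)) * σ (v (.inr 1)) + σ (v (.inl 2)) * σ (v (.inr 2))) * hdd⟩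

theorem semi_levS (σ : F ≃+* F) (R : Prm F) (v : I → F) : semi (levS σ R).1 v = levF R (⇑σ ∘ v) :=
  LinearMap.toMatrix'_mulVec _ _

theorem levS_comp (σ τ : F ≃+* F) (R S : Prm F) (v : I → F) :
    semi (levS σ R).1 (semi (levS τ S).1 v) = semi (levS (σ * τ) (R * pm σ S)).1 v := by
  rw [semi_levS, semi_levS, semi_levS, comp_levF, ← levF_mul]
  rfl

/-- The triple of semisimilarities attached to parameters. -/
noncomputable def levT (σ : F ≃+* F) (R : Prm F) : SS F := (levS σ R, levS σ (rot R), levS σ (rot (rot R)))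

set_option maxHeartbeats 4000000 in
theorem levT_mem (σ : F ≃+* F) (R : Prm F) : levT σ R ∈ tripSub F := by
  refine ⟨rfl, rfl, R.2.1 * R.2.2.1 * R.2.2.2, fun x y z => ?_⟩
  show tri (semi (levS σ R).1 x) (semi (levS σ (rot R)).1 y) (semi (levS σ (rot (rot R))).1 z) = _ * σ _
  rw [semi_levS, semi_levS, semi_levS, tri_eq, tri_eq, levF_apply, levF_apply, levF_apply]
  have hd := dt_ne R
  have hdd : R.1.1 0 0 * R.1.1 1 1 - R.1.1 0 1 * R.1.1 1 0 = dt R := (det_fin_two _).symm
  have h1 := R.2.1.ne_zero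
  have h2 := R.2.2.1.ne_zero
  have h3 := R.2.2.2.ne_zero
  have e1 : dt (rot R) = dt R := rfl
  have e2 : dt (rot (rot R)) = dt R := rfl
  rw [e1, e2]
  simp [rot]
  field_simp
  rw [← hdd]
  ring

theorem levS_scal (σ : F ≃+* F) (l : Fˣ) (R : Prm F) (v : I → F) :
    semi (levS σ (scal l * R)).1 v = (l : F) • semi (levS σ R).1 v := by
  rw [semi_levS, semi_levS, levF_mul]
  set w := levF R (⇑σ ∘ v)
  have hd : dt (scal l : Prm F) = (l : F) * l := by
    rw [dt, det_fin_two]; simp [scal]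
  have := l.ne_zero
  rw [levF_apply, hd]
  conv_rhs => rw [vec_eq w]
  funext j
  rcases j with i | i <;> fin_cases i <;> simp [scal] <;> field_simp

/-- Parameters acting as a scalar. -/
theorem eq_scal {R : Prm F} {c : Fˣ} (h : ∀ x, levF R x = (c : F) • x) : R = scal c := by
  have k := fun j i => congrFun (h (Pi.single j 1)) i
  have a1 := k (.inl 3) (.inl 3)
  have a2 := k (.inr 3) (.inr 3)
  have a3 := k (.inr 0) (.inr 0)
  have m00 := k (.inl 1) (.inl 1); have m01 := k (.inl 2) (.inl 1)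
  have m10 := k (.inl 1) (.inl 2); have m11 := k (.inl 2) (.inl 2)
  simp [levF_apply] at a1 a2 a3 m00 m01 m10 m11
  have hd : dt R = (c : F) * c := by rw [dt, det_fin_two, m00, m01, m10, m11]; ring
  rw [hd, a1, a2] at a3
  refine Prod.ext (Units.ext (Matrix.ext fun i j => ?_)) (Prod.ext (Units.ext a1) (Prod.ext (Units.ext a2) (Units.ext ?_)))
  · fin_cases i <;> fin_cases j <;> simp [scal, m00, m01, m10, m11]
  · have := c.ne_zero
    field_simp at a3
    exact a3

/-- Semisimilarities proportional on vectors induce the same automorphism. -/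
theorem gAut_eq_of_semi {y z : ↥(semiGroup (plusQ 4 F))} {k : F} (hk : k ≠ 0)
    (h : ∀ v, semi y.1 v = k • semi z.1 v) : gAut (plusQ 4 F) y = gAut (plusQ 4 F) z := by
  have h1 : gAut (plusQ 4 F) (y * z⁻¹) = 1 := gAut_eq_one_of_scalar hk fun v => by
    rw [Subgroup.coe_mul, InvMemClass.coe_inv, semi_mul, h, semi_semi_inv]
  rwa [map_mul, map_inv, mul_inv_eq_one] at h1

/-- The element of the triality coset attached to parameters. -/
noncomputable def lx (σ : F ≃+* F) (R : Prm F) : MulAut (PG4 F) := gAut (plusQ 4 F) (levS σ R) * triality F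

theorem gauge_solve {G : Type*} [Group G] {T a b p q : G} (hT : T * a = b * T) (h : a * p = q * b) :
    a * (p * T) * a⁻¹ = q * T := by
  rw [← mul_assoc, h, mul_assoc q b T, ← hT, ← mul_assoc, mul_inv_cancel_right]

theorem cube_solve {G : Type*} [Group G] {T p₁ p₂ p₃ : G} (h3 : T ^ 3 = 1) (h1 : T * p₁ = p₂ * T)
    (h2 : T * p₂ = p₃ * T) : (p₁ * T) ^ 3 = p₁ * p₂ * p₃ := by
  have e : T * (p₁ * T * p₁) = p₂ * p₃ * T * T := by
    rw [mul_assoc p₁ T p₁, h1, ← mul_assoc T p₁, h1, mul_assoc p₂ T, ← mul_assoc T p₂, h2]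
    simp only [mul_assoc]
  calc (p₁ * T) ^ 3 = p₁ * (T * (p₁ * T * p₁)) * T := by rw [pow_succ, pow_two]; simp only [mul_assoc]
    _ = p₁ * p₂ * p₃ * (T * T * T) := by rw [e]; simp only [mul_assoc]
    _ = _ := by rw [← pow_two, ← pow_succ, h3, mul_one]

theorem lx_gauge (σ : F ≃+* F) (A R : Prm F) : IsConj (lx σ R) (lx σ (A * R * (pm σ (rot A))⁻¹)) := by
  refine isConj_iff.2 ⟨gAut (plusQ 4 F) (levS 1 A), gauge_solve
    (intertwine (P := levT 1 A) (levT_mem 1 A)) ?_⟩
  show gAut (plusQ 4 F) (levS 1 A) * gAut (plusQ 4 F) (levS σ R) =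
    gAut (plusQ 4 F) (levS σ (A * R * (pm σ (rot A))⁻¹)) * gAut (plusQ 4 F) (levS 1 (rot A))
  rw [← map_mul, ← map_mul]
  refine gAut_eq_of_semi one_ne_zero fun v => ?_
  rw [Subgroup.coe_mul, Subgroup.coe_mul, semi_mul, semi_mul, levS_comp, levS_comp, one_smul, one_mul, mul_one,
    inv_mul_cancel_right]
  have : pm (1 : F ≃+* F) R = R := by
    refine Prod.ext (Units.ext (Matrix.ext fun i j => ?_)) (Prod.ext ?_ (Prod.ext ?_ ?_)) <;>
      first | rfl | (apply Units.ext; rfl)
  rw [this]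

theorem lx_scal (σ : F ≃+* F) (l : Fˣ) (R : Prm F) : lx σ (scal l * R) = lx σ R := by
  rw [lx, lx, gAut_eq_of_semi l.ne_zero (levS_scal σ l R)]

/-- The condition for order three. -/
theorem lx_cube {σ : F ≃+* F} {R : Prm F} (h : lx σ R ^ 3 = 1) :
    σ * σ * σ = 1 ∧ ∃ c : Fˣ, R * pm σ (rot R) * pm (σ * σ) (rot (rot R)) = scal c := by
  have e := cube_solve triality_pow_three (intertwine (P := levT σ R) (levT_mem σ R))
    (intertwine (P := shift (levT σ R)) (shift_mem (levT_mem σ R)))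
  change lx σ R ^ 3 = gAut _ (levS σ R) * gAut _ (levS σ (rot R)) * gAut _ (levS σ (rot (rot R))) at e
  rw [h, ← map_mul, ← map_mul] at e
  obtain ⟨hr, c, hc⟩ := gAut_eq_one (plusQ_nondegenerate 4) (card_PI le_rfl) (plusData (by omega)) e.symm
  have hs : σ * σ * σ = 1 := hr
  refine ⟨hs, c, eq_scal fun x => ?_⟩
  have h1 : semi (levS σ R * levS σ (rot R) * levS σ (rot (rot R))).1 x = (c : F) • x := by
    rw [Cfsg.Agent.GammaO57.semi, hr, hc]
    exact CfsgLib.FieldPOmega.scalar_mulVec c x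
  rw [Subgroup.coe_mul, Subgroup.coe_mul, semi_mul, semi_mul, levS_comp, levS_comp, semi_levS, hs] at h1
  exact h1

theorem lx_conj_cube {σ : F ≃+* F} {R R' : Prm F} (h : IsConj (lx σ R) (lx σ R')) (h3 : lx σ R ^ 3 = 1) :
    lx σ R' ^ 3 = 1 := by
  obtain ⟨β, hβ⟩ := isConj_iff.1 h
  rw [← hβ, conj_pow, h3, mul_one, mul_inv_cancel]

/-- The scalar parts can be gathered in the first place. -/
theorem lx_gather (σ : F ≃+* F) (G : GL (Fin 2) F) (a b c : Fˣ) :
    IsConj (lx σ (G, a, b, c))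
      (lx σ (G, a * Units.map σ.toMonoidHom b * Units.map σ.toMonoidHom (Units.map σ.toMonoidHom c), 1, 1)) := by
  set u := Units.map σ.toMonoidHom with hu
  have h := lx_gauge σ ((1, 1, u c⁻¹ * b⁻¹, c⁻¹) : Prm F) (G, a, b, c)
  have e : ((1, 1, u c⁻¹ * b⁻¹, c⁻¹) : Prm F) * (G, a, b, c) * (pm σ (rot (1, 1, u c⁻¹ * b⁻¹, c⁻¹)))⁻¹ =
      (G, a * u b * u (u c), 1, 1) := by
    refine Prod.ext ?_ (Prod.ext ?_ (Prod.ext ?_ ?_))
    · show 1 * G * (GeneralLinearGroup.map σ.toRingHom 1)⁻¹ = G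
      rw [map_one, inv_one, one_mul, mul_one]
    · show 1 * a * (u (u c⁻¹ * b⁻¹))⁻¹ = a * u b * u (u c)
      rw [map_mul, map_inv, map_inv, map_inv, one_mul, _root_.mul_inv_rev, inv_inv, inv_inv, mul_assoc]
    · show u c⁻¹ * b⁻¹ * b * (u c⁻¹)⁻¹ = 1
      rw [inv_mul_cancel_right, mul_inv_cancel]
    · show c⁻¹ * c * (u 1)⁻¹ = 1
      rw [inv_mul_cancel, map_one, inv_one, one_mul]
  rwa [e] at h

theorem lx_plane (σ : F ≃+* F) (G h : GL (Fin 2) F) :
    IsConj (lx σ (G, 1, 1, 1)) (lx σ (h⁻¹ * G * GeneralLinearGroup.map σ.toRingHom h, 1, 1, 1)) := by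
  have e := lx_gauge σ ((h⁻¹, 1, 1, 1) : Prm F) (G, 1, 1, 1)
  have e' : ((h⁻¹, 1, 1, 1) : Prm F) * (G, 1, 1, 1) * (pm σ (rot (h⁻¹, 1, 1, 1)))⁻¹ =
      (h⁻¹ * G * GeneralLinearGroup.map σ.toRingHom h, 1, 1, 1) := by
    refine Prod.ext ?_ (Prod.ext ?_ (Prod.ext ?_ ?_))
    · show h⁻¹ * G * (GeneralLinearGroup.map σ.toRingHom h⁻¹)⁻¹ = _
      rw [map_inv, inv_inv]
    all_goals
      show 1 * 1 * (Units.map σ.toMonoidHom 1)⁻¹ = (1 : Fˣ)
      rw [map_one, inv_one, one_mul, one_mul]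
  rwa [e'] at e

theorem lx_twI {σ : F ≃+* F} (h3 : σ * σ * σ = 1) : lx σ (1 : Prm F) = (twI σ h3).x := by
  rw [lx, Twist.x, gAut_eq_of_semi (z := (twI σ h3).φ) one_ne_zero fun v => ?_]
  rw [semi_levS, levF_one, semi_twI, one_smul]

/-- The plane part of `TM`. -/
def TM2 (F : Type*) [Field F] : GL (Fin 2) F :=
  ⟨!![0, -1; 1, -1], !![-1, 1; -1, 0],
    by ext i j; fin_cases i <;> fin_cases j <;> simp [Matrix.mul_apply, Fin.sum_univ_two],
    by ext i j; fin_cases i <;> fin_cases j <;> simp [Matrix.mul_apply, Fin.sum_univ_two]⟩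

theorem lx_twM : lx 1 ((TM2 F, 1, 1, 1) : Prm F) = (twM F).x := by
  rw [lx, Twist.x, gAut_eq_of_semi (z := (twM F).φ) one_ne_zero fun v => ?_]
  rw [semi_levS, levF_apply, semi_twM, one_smul]
  have hd : dt ((TM2 F, 1, 1, 1) : Prm F) = 1 := by rw [dt, det_fin_two]; simp [TM2]
  rw [hd]
  funext j
  rcases j with i | i <;> fin_cases i <;> simp [TM2] <;> ring

theorem exists_companion {G : GL (Fin 2) F} (hns : ¬ ∀ i j, G.1 i j = if i = j then G.1 0 0 else 0)
    (ht : G.1 0 0 + G.1 1 1 = -1) (hd : G.1 0 0 * G.1 1 1 - G.1 0 1 * G.1 1 0 = 1) :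
    ∃ h : GL (Fin 2) F, h⁻¹ * G * h = TM2 F := by
  obtain ⟨v₀, v₁, hv⟩ : ∃ v₀ v₁ : F,
      v₀ * (G.1 1 0 * v₀ + G.1 1 1 * v₁) - v₁ * (G.1 0 0 * v₀ + G.1 0 1 * v₁) ≠ 0 := by
    by_contra hc
    push Not at hc
    have c1 := hc 1 0
    have c2 := hc 0 1
    have c3 := hc 1 1
    refine hns fun i j => ?_
    fin_cases i <;> fin_cases j <;> simp
    · linear_combination -c2
    · linear_combination c1
    · linear_combination c3 - c1 - c2
  let H : GL (Fin 2) F := Matrix.GeneralLinearGroup.mkOfDetNeZero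
    !![v₀, G.1 0 0 * v₀ + G.1 0 1 * v₁; v₁, G.1 1 0 * v₀ + G.1 1 1 * v₁] (by
      rw [det_fin_two]; simp; intro e; exact hv (by linear_combination e))
  refine ⟨H, ?_⟩
  rw [mul_assoc, inv_mul_eq_iff_eq_mul]
  refine Units.ext (Matrix.ext fun i j => ?_)
  have hH : H.1 = !![v₀, G.1 0 0 * v₀ + G.1 0 1 * v₁; v₁, G.1 1 0 * v₀ + G.1 1 1 * v₁] := rfl
  rw [Units.val_mul, Units.val_mul, hH]
  fin_cases i <;> fin_cases j <;> simp [TM2, Matrix.mul_apply, Fin.sum_univ_two]
  · linear_combination (G.1 0 0 * v₀ + G.1 0 1 * v₁) * ht - v₀ * hd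
  · linear_combination (G.1 1 0 * v₀ + G.1 1 1 * v₁) * ht - v₁ * hd

/-- An element of order three in normal form is conjugate to one of the twists. -/
theorem lx_classify {σ : F ≃+* F} {R : Prm F} (h : lx σ R ^ 3 = 1) :
    (∃ h3 : σ * σ * σ = 1, IsConj (lx σ R) (twI σ h3).x) ∨ IsConj (lx σ R) (twM F).x := by
  classical
  obtain ⟨h3, -⟩ := lx_cube h
  set u := Units.map σ.toMonoidHom with hu
  obtain ⟨G, a, b, c⟩ := R
  have g1 := lx_gather σ G a b c
  set δ := a * u b * u (u c)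
  obtain ⟨-, l, hl⟩ := lx_cube (lx_conj_cube g1 h)
  have hδl : δ = l := by
    have := congrArg (fun R : Prm F => R.2.1) hl
    change δ * u 1 * Units.map (σ * σ).toMonoidHom 1 = l at this
    rwa [map_one, map_one, mul_one, mul_one] at this
  by_cases hσ : σ = 1
  swap
  · -- a proper field automorphism
    have hfix : σ (δ : F) = δ := by
      have := congrArg (fun R : Prm F => ((R.2.2.1 : Fˣ) : F)) hl
      change ((1 : Fˣ) : F) * σ ((1 : Fˣ) : F) * σ (σ (δ : F)) = (l : F) at this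
      rw [Units.val_one, map_one, one_mul, one_mul, ← hδl] at this
      have h' := congrArg σ this
      rw [twI_cube h3] at h'
      exact h'.symm
    have ho : orderOf σ = 3 := orderOf_eq_prime (hp := ⟨Nat.prime_three⟩) (by
      rw [pow_succ, pow_two, h3]) hσ
    obtain ⟨m, hm⟩ := CfsgLib.FieldGalois.exists_norm_eq σ (c := δ⁻¹) (by
      rw [Units.val_inv_eq_inv_val, map_inv₀, hfix])
    rw [CfsgLib.FieldGalois.normU_apply] at hm
    have hm' : m * u m * u (u m) = δ⁻¹ := by
      rw [← hm, ← normThree ho m]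
    have g2 : IsConj (lx σ (G, δ, 1, 1)) (lx σ (GeneralLinearGroup.scalar (Fin 2) m * G, 1, 1, 1)) := by
      rw [← lx_scal σ m]
      have := lx_gather σ (GeneralLinearGroup.scalar (Fin 2) m * G) (m * δ) (m * 1) (m * 1)
      have e : m * δ * u (m * 1) * u (u (m * 1)) = 1 := by
        rw [mul_one, mul_comm m δ, mul_assoc δ, mul_assoc δ, hm', mul_inv_cancel]
      rw [e] at this
      exact this
    set G' := GeneralLinearGroup.scalar (Fin 2) m * G
    obtain ⟨-, l', hl'⟩ := lx_cube (lx_conj_cube (g1.trans g2) h)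
    have hl1 : l' = 1 := by
      have := congrArg (fun R : Prm F => R.2.1) hl'
      change (1 : Fˣ) * u 1 * Units.map (σ * σ).toMonoidHom 1 = l' at this
      rw [map_one, map_one, mul_one, mul_one] at this
      exact this.symm
    have hG : CfsgLib.FieldGalois.cocy σ G' (orderOf σ) = 1 := by
      have := congrArg Prod.fst hl'
      rw [hl1] at this
      change G' * GeneralLinearGroup.map σ.toRingHom G' * GeneralLinearGroup.map (σ * σ).toRingHom G' =
        GeneralLinearGroup.scalar (Fin 2) 1 at this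
      rw [map_one] at this
      rw [ho]
      simp only [CfsgLib.FieldGalois.cocy, map_one, mul_one, map_mul]
      rw [← mul_assoc]
      exact this
    obtain ⟨k, hk⟩ := CfsgLib.FieldGalois.exists_of_cocy_eq_one σ G' hG
    have g3 := lx_plane σ G' k
    rw [mul_assoc, hk, inv_mul_cancel] at g3
    exact Or.inl ⟨h3, (g1.trans (g2.trans g3)).trans (lx_twI h3 ▸ IsConj.refl _)⟩
  -- linear
  subst hσ
  have hu1 : ∀ z, u z = z := fun z => Units.ext rfl
  have hgath : ∀ m : Fˣ, IsConj (lx 1 (G, δ, 1, 1))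
      (lx 1 (GeneralLinearGroup.scalar (Fin 2) m * G, m * δ * m * m, 1, 1)) := fun m => by
    rw [← lx_scal 1 m]
    have := lx_gather 1 (GeneralLinearGroup.scalar (Fin 2) m * G) (m * δ) (m * 1) (m * 1)
    simp only [← hu, hu1, mul_one] at this
    simpa [scal] using this
  have hG3 : G.1 * G.1 * G.1 = (l : F) • (1 : Matrix (Fin 2) (Fin 2) F) := by
    have := congrArg (fun R : Prm F => R.1.1) hl
    refine Eq.trans ?_ (this.trans ?_)
    · rfl
    · ext i j
      simp [scal, Matrix.one_apply, Matrix.diagonal_apply]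
  have k00 := congrFun (congrFun hG3 0) 0
  have k01 := congrFun (congrFun hG3 0) 1
  have k10 := congrFun (congrFun hG3 1) 0
  have k11 := congrFun (congrFun hG3 1) 1
  simp [Matrix.mul_apply, Fin.sum_univ_two] at k00 k01 k10 k11
  by_cases hs : ∀ i j, G.1 i j = if i = j then G.1 0 0 else 0
  · left
    refine ⟨h3, g1.trans ?_⟩
    have h01 := hs 0 1
    have h10 := hs 1 0
    have h11 := hs 1 1
    simp at h01 h10 h11
    have hm0 : G.1 0 0 ≠ 0 := by
      intro e
      apply dt_ne ((G, 1, 1, 1) : Prm F)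
      rw [dt, det_fin_two, h01, h10, h11, e]; ring
    set m := Units.mk0 (G.1 0 0)⁻¹ (inv_ne_zero hm0) with hm
    refine (hgath m).trans ?_
    have e : m * δ * m * m = 1 := by
      rw [hδl]
      apply Units.ext
      simp [hm]
      rw [h01, h10] at k00
      field_simp
      linear_combination -k00
    have e2 : GeneralLinearGroup.scalar (Fin 2) m * G = 1 := by
      refine Units.ext (Matrix.ext fun i j => ?_)
      fin_cases i <;> fin_cases j <;> simp [hm, h01, h10, h11, hm0]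
    rw [e, e2]
    exact lx_twI h3 ▸ IsConj.refl _
  · right
    refine g1.trans ?_
    have hD : ((G.1 0 0) + (G.1 1 1)) * ((G.1 0 0) + (G.1 1 1)) = (G.1 0 0) * (G.1 1 1) - (G.1 0 1) * (G.1 1 0) := by
      have eq1 : (((G.1 0 0) + (G.1 1 1)) * ((G.1 0 0) + (G.1 1 1)) - ((G.1 0 0) * (G.1 1 1) - (G.1 0 1) * (G.1 1 0))) * (G.1 0 1) = 0 := by linear_combination k01
      have eq2 : (((G.1 0 0) + (G.1 1 1)) * ((G.1 0 0) + (G.1 1 1)) - ((G.1 0 0) * (G.1 1 1) - (G.1 0 1) * (G.1 1 0))) * (G.1 1 0) = 0 := by linear_combination k10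
      have eq3 : (((G.1 0 0) + (G.1 1 1)) * ((G.1 0 0) + (G.1 1 1)) - ((G.1 0 0) * (G.1 1 1) - (G.1 0 1) * (G.1 1 0))) * ((G.1 0 0) - (G.1 1 1)) = 0 := by linear_combination k00 - k11
      by_contra hne
      have hne' := sub_ne_zero.2 hne
      have hq := (mul_eq_zero.1 eq1).resolve_left hne'
      have hsz := (mul_eq_zero.1 eq2).resolve_left hne'
      have hpw := (mul_eq_zero.1 eq3).resolve_left hne'
      refine hs fun i j => ?_
      fin_cases i <;> fin_cases j <;> simp
      · exact hq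
      · exact hsz
      · linear_combination -hpw
    have hl3 : (l : F) = -(((G.1 0 0) + (G.1 1 1)) * ((G.1 0 0) + (G.1 1 1)) * ((G.1 0 0) + (G.1 1 1))) := by linear_combination -k00 + (2 * G.1 0 0 + G.1 1 1) * hD
    have ht0 : (G.1 0 0) + (G.1 1 1) ≠ 0 := fun e => by
      apply dt_ne ((G, 1, 1, 1) : Prm F)
      rw [dt, det_fin_two]
      show (G.1 0 0) * (G.1 1 1) - (G.1 0 1) * (G.1 1 0) = 0
      rw [← hD, e, mul_zero]
    set m := Units.mk0 (-((G.1 0 0) + (G.1 1 1)))⁻¹ (inv_ne_zero (neg_ne_zero.2 ht0)) with hm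
    refine (hgath m).trans ?_
    have e : m * δ * m * m = 1 := by
      rw [hδl]
      apply Units.ext
      simp only [Units.val_mul, hm, Units.val_mk0, Units.val_one]
      rw [hl3]
      field_simp
    rw [e]
    set G' := GeneralLinearGroup.scalar (Fin 2) m * G
    have hG' : ∀ i j, G'.1 i j = (m : F) * G.1 i j := fun i j => by
      fin_cases i <;> fin_cases j <;> simp [G']
    obtain ⟨k, hk⟩ := exists_companion (G := G') (fun hs' => hs fun i j => by
        have := hs' i j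
        rw [hG', hG'] at this
        split_ifs at this ⊢ with hij
        · exact mul_left_cancel₀ m.ne_zero this
        · exact (mul_eq_zero.1 this).resolve_left m.ne_zero)
      (by rw [hG', hG', hm, Units.val_mk0]; field_simp; ring)
      (by
        rw [hG', hG', hG', hG', hm, Units.val_mk0]
        field_simp
        linear_combination -hD)
    have g3 := lx_plane 1 G' k
    rw [show GeneralLinearGroup.map (1 : F ≃+* F).toRingHom k = k from Units.ext rfl, hk] at g3
    exact g3.trans (lx_twM (F := F) ▸ IsConj.refl _)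
where
  normThree {σ : F ≃+* F} (ho : orderOf σ = 3) (m : Fˣ) :
      (∏ i : Fin (orderOf σ), Units.map (σ ^ (i : ℕ)).toMonoidHom m) =
        m * Units.map σ.toMonoidHom m * Units.map σ.toMonoidHom (Units.map σ.toMonoidHom m) := by
    rw [Fin.prod_univ_eq_prod_range (fun i => Units.map (σ ^ i).toMonoidHom m), ho]
    simp only [Finset.prod_range_succ, Finset.prod_range_zero, one_mul]
    rw [pow_zero, pow_one, pow_two]
    rfl

end CfsgLib.TriNorm
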