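import Cfsg.Agent.Lib.POmegaBalPlus.TriPoint
import Cfsg.Agent.Lib.POmegaBalPlus.TriLev

/-!
Classification of the elements of order three in the triality coset, by moving two opposite invariant incident
triples of lines to the base ones.
-/

set_option autoImplicit false
set_option linter.unusedSectionVars false

namespace CfsgLib.TriNorm

open Matrix QuadraticMap CfsgLib.Orth CfsgLib.FieldPOmega Cfsg.Agent.GammaO57 Cfsg.Agent.Triality57
  Cfsg.Agent.OutPlus57 Cfsg.Agent.PlusField57 Cfsg.Agent.Levi57 Cfsg.Agent.PlusSplit57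

variable {F : Type*} [Field F] [Fintype F]

/-! ### More root elements -/

theorem app_rt6 (t : F) (x : I → F) : app (rt 6 t) x =
    Sum.elim ![x (.inl 0), x (.inl 1) + t * x (.inl 0), x (.inl 2), x (.inl 3)]
      ![x (.inr 0) - t * x (.inr 1), x (.inr 1), x (.inr 2), x (.inr 3)] := by
  rw [rt, show root 6 = (((0 : Fin 4), false), ((1 : Fin 4), true)) from rfl, app_rootE _ _ (by decide)]
  funext j
  rcases j with i | i <;> fin_cases i <;> simp [ev, CfsgLib.AutPOmega.hypIdx, CfsgLib.AutPOmega.opp]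

theorem app_rt8 (t : F) (x : I → F) : app (rt 8 t) x =
    Sum.elim ![x (.inl 0), x (.inl 1), x (.inl 2) + t * x (.inl 0), x (.inl 3)]
      ![x (.inr 0) - t * x (.inr 2), x (.inr 1), x (.inr 2), x (.inr 3)] := by
  rw [rt, show root 8 = (((0 : Fin 4), false), ((2 : Fin 4), true)) from rfl, app_rootE _ _ (by decide)]
  funext j
  rcases j with i | i <;> fin_cases i <;> simp [ev, CfsgLib.AutPOmega.hypIdx, CfsgLib.AutPOmega.opp]

theorem app_rt9 (t : F) (x : I → F) : app (rt 9 t) x =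
    Sum.elim ![x (.inl 0), x (.inl 1), x (.inl 2), x (.inl 3)]
      ![x (.inr 0) - t * x (.inl 2), x (.inr 1), x (.inr 2) + t * x (.inl 0), x (.inr 3)] := by
  rw [rt, show root 9 = (((0 : Fin 4), false), ((2 : Fin 4), false)) from rfl, app_rootE _ _ (by decide)]
  funext j
  rcases j with i | i <;> fin_cases i <;> simp [ev, CfsgLib.AutPOmega.hypIdx, CfsgLib.AutPOmega.opp]

theorem app_rt18 (t : F) (x : I → F) : app (rt 18 t) x =
    Sum.elim ![x (.inl 0), x (.inl 1), x (.inl 2), x (.inl 3) + t * x (.inl 1)]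
      ![x (.inr 0), x (.inr 1) - t * x (.inr 3), x (.inr 2), x (.inr 3)] := by
  rw [rt, show root 18 = (((1 : Fin 4), false), ((3 : Fin 4), true)) from rfl, app_rootE _ _ (by decide)]
  funext j
  rcases j with i | i <;> fin_cases i <;> simp [ev, CfsgLib.AutPOmega.hypIdx, CfsgLib.AutPOmega.opp]

theorem app_rt19 (t : F) (x : I → F) : app (rt 19 t) x =
    Sum.elim ![x (.inl 0), x (.inl 1), x (.inl 2), x (.inl 3)]
      ![x (.inr 0), x (.inr 1) - t * x (.inl 3), x (.inr 2), x (.inr 3) + t * x (.inl 1)] := by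
  rw [rt, show root 19 = (((1 : Fin 4), false), ((3 : Fin 4), false)) from rfl, app_rootE _ _ (by decide)]
  funext j
  rcases j with i | i <;> fin_cases i <;> simp [ev, CfsgLib.AutPOmega.hypIdx, CfsgLib.AutPOmega.opp]

theorem app_rt22 (t : F) (x : I → F) : app (rt 22 t) x =
    Sum.elim ![x (.inl 0), x (.inl 1), x (.inl 2), x (.inl 3) + t * x (.inl 2)]
      ![x (.inr 0), x (.inr 1), x (.inr 2) - t * x (.inr 3), x (.inr 3)] := by
  rw [rt, show root 22 = (((2 : Fin 4), false), ((3 : Fin 4), true)) from rfl, app_rootE _ _ (by decide)]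
  funext j
  rcases j with i | i <;> fin_cases i <;> simp [ev, CfsgLib.AutPOmega.hypIdx, CfsgLib.AutPOmega.opp]

theorem app_rt23 (t : F) (x : I → F) : app (rt 23 t) x =
    Sum.elim ![x (.inl 0), x (.inl 1), x (.inl 2), x (.inl 3)]
      ![x (.inr 0), x (.inr 1), x (.inr 2) - t * x (.inl 3), x (.inr 3) + t * x (.inl 2)] := by
  rw [rt, show root 23 = (((2 : Fin 4), false), ((3 : Fin 4), false)) from rfl, app_rootE _ _ (by decide)]
  funext j
  rcases j with i | i <;> fin_cases i <;> simp [ev, CfsgLib.AutPOmega.hypIdx, CfsgLib.AutPOmega.opp]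

theorem rel_rt23 (t : F) : Rel (rt 23 t) (rt 22 t) (rt 6 t) := fun x y z => by
  rw [app_rt23, app_rt22, app_rt6, tri_eq, tri_eq]
  simp
  ring

theorem rel_rt19 (t : F) : Rel (rt 19 t) (rt 18 t) (rt 8 (-t)) := fun x y z => by
  rw [app_rt19, app_rt18, app_rt8, tri_eq, tri_eq]
  simp
  ring

theorem rel_rt22 (t : F) : Rel (rt 22 t) (rt 6 t) (rt 23 t) := (rel_rt23 t).cycle

theorem rel_rt18 (t : F) : Rel (rt 18 t) (rt 8 (-t)) (rt 19 t) := (rel_rt19 t).cycle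

/-! ### Moving a triple -/

/-- A related triple of isometries as a triple of semisimilarities. -/
noncomputable def relT (f g h : O (plusQ 4 F)) : SS F :=
  (oIn (plusQ 4 F) f, oIn (plusQ 4 F) g, oIn (plusQ 4 F) h)

theorem relT_mem {f g h : O (plusQ 4 F)} (e : Rel f g h) : relT f g h ∈ tripSub F :=
  ⟨rfl, rfl, 1, fun x y z => by
    show tri (semi (oIn _ f).1 x) (semi (oIn _ g).1 y) (semi (oIn _ h).1 z) = _
    rw [Cfsg.Agent.OutEight57.semi_oIn, Cfsg.Agent.OutEight57.semi_oIn, Cfsg.Agent.OutEight57.semi_oIn, e,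
      Units.val_one, one_mul]
    rfl⟩

/-- The transform of a triple. -/
noncomputable def conjT (A P : SS F) : SS F := A * P * (shift A)⁻¹

theorem conjT_mem {A P : SS F} (hA : A ∈ tripSub F) (hP : P ∈ tripSub F) : conjT A P ∈ tripSub F :=
  mul_mem (mul_mem hA hP) (inv_mem (shift_mem hA))

theorem conjT_isConj {A P : SS F} (hA : A ∈ tripSub F) :
    IsConj (gAut (plusQ 4 F) P.1 * triality F) (gAut (plusQ 4 F) (conjT A P).1 * triality F) := by
  refine isConj_iff.2 ⟨gAut (plusQ 4 F) A.1, gauge_solve (intertwine hA) ?_⟩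
  rw [← map_mul, ← map_mul]
  show gAut _ (A.1 * P.1) = gAut _ (A.1 * P.1 * A.2.1⁻¹ * A.2.1)
  rw [inv_mul_cancel_right]

theorem semi_conjT (A P : SS F) (v : I → F) :
    semi (conjT A P).1.1 (semi A.2.1.1 v) = semi A.1.1 (semi P.1.1 v) ∧
    semi (conjT A P).2.1.1 (semi A.2.2.1 v) = semi A.2.1.1 (semi P.2.1.1 v) ∧
    semi (conjT A P).2.2.1 (semi A.1.1 v) = semi A.2.2.1 (semi P.2.2.1 v) := by
  refine ⟨?_, ?_, ?_⟩
  · show semi (A.1.1 * P.1.1 * A.2.1.1⁻¹) _ = _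
    rw [semi_mul, semi_mul, semi_inv_semi]
  · show semi (A.2.1.1 * P.2.1.1 * A.2.2.1⁻¹) _ = _
    rw [semi_mul, semi_mul, semi_inv_semi]
  · show semi (A.2.2.1 * P.2.2.1 * A.1.1⁻¹) _ = _
    rw [semi_mul, semi_mul, semi_inv_semi]

theorem Inv.transform {P A : SS F} {a b c : I → F} (h : Inv P a b c) (hA : A ∈ tripSub F) :
    Inv (conjT A P) (semi A.1.1 a) (semi A.2.1.1 b) (semi A.2.2.1 c) := by
  obtain ⟨k1, h1⟩ := h.la
  obtain ⟨k2, h2⟩ := h.lb
  obtain ⟨k3, h3⟩ := h.lc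
  exact
    { a0 := semi_ne_zero h.a0
      b0 := semi_ne_zero h.b0
      c0 := semi_ne_zero h.c0
      Qa := Q_semi_zero _ h.Qa
      Qb := Q_semi_zero _ h.Qb
      Qc := Q_semi_zero _ h.Qc
      ab := trip_prod_zero hA h.ab
      bc := trip_prod_zero (shift_mem hA) h.bc
      ca := trip_prod_zero (shift_mem (shift_mem hA)) h.ca
      la := ⟨_, by rw [(semi_conjT A P b).1, h1, Cfsg.Agent.GammaO57.semi_smul]⟩
      lb := ⟨_, by rw [(semi_conjT A P c).2.1, h2, Cfsg.Agent.GammaO57.semi_smul]⟩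
      lc := ⟨_, by rw [(semi_conjT A P a).2.2, h3, Cfsg.Agent.GammaO57.semi_smul]⟩ }

/-- A singular vector can be moved to the base line. -/
theorem move_first {a : I → F} (ha : a ≠ 0) (hQ : plusQ 4 F a = 0) :
    ∃ f ∈ Cfsg.Omega F ⇑(plusQ 4 F), ∃ k : F, app f a = k • e0 F := by
  obtain ⟨f₁, hf₁, h1⟩ : ∃ f ∈ Cfsg.Omega F ⇑(plusQ 4 F), app f a (.inl 0) ≠ 0 := by
    by_cases c0 : a (.inl 0) = 0
    swap
    · exact ⟨1, one_mem _, by simpa using c0⟩
    by_cases c1 : a (.inr 1) = 0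
    swap
    · exact ⟨rt 0 1, rt_mem _ _, by rw [app_rt0]; simpa [c0] using c1⟩
    by_cases c2 : a (.inl 1) = 0
    swap
    · exact ⟨rt 1 1, rt_mem _ _, by rw [app_rt1]; simpa [c0] using c2⟩
    by_cases c3 : a (.inr 2) = 0
    swap
    · exact ⟨rt 2 1, rt_mem _ _, by rw [app_rt2]; simpa [c0] using c3⟩
    by_cases c4 : a (.inl 2) = 0
    swap
    · exact ⟨rt 3 1, rt_mem _ _, by rw [app_rt3]; simpa [c0] using c4⟩
    by_cases c5 : a (.inr 3) = 0
    swap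
    · exact ⟨rt 4 1, rt_mem _ _, by rw [app_rt4]; simpa [c0] using c5⟩
    by_cases c6 : a (.inl 3) = 0
    swap
    · exact ⟨rt 5 1, rt_mem _ _, by rw [app_rt5]; simpa [c0] using c6⟩
    refine ⟨rt 1 1 * rt 0 1, mul_mem (rt_mem _ _) (rt_mem _ _), ?_⟩
    rw [app_mul, app_rt0, app_rt1]
    simp [c0, c1, c2]
    intro e
    apply ha
    rw [vec_eq a]
    funext j
    rcases j with i | i <;> fin_cases i <;> simp [c0, c1, c2, c3, c4, c5, c6, e]
  set w := app f₁ a with hw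
  set f := rt 11 (-w (.inr 3) / w (.inl 0)) * rt 10 (-w (.inl 3) / w (.inl 0)) * rt 9 (-w (.inr 2) / w (.inl 0)) *
    rt 8 (-w (.inl 2) / w (.inl 0)) * rt 7 (-w (.inr 1) / w (.inl 0)) * rt 6 (-w (.inl 1) / w (.inl 0)) with hf
  refine ⟨f * f₁, mul_mem ?_ hf₁, w (.inl 0), ?_⟩
  · exact mul_mem (mul_mem (mul_mem (mul_mem (mul_mem (rt_mem _ _) (rt_mem _ _)) (rt_mem _ _)) (rt_mem _ _))
      (rt_mem _ _)) (rt_mem _ _)
  rw [app_mul, ← hw]
  set z := app f w with hz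
  have hQz : plusQ 4 F z = 0 := by rw [hz, CfsgLib.Orth.Q_app, hw, CfsgLib.Orth.Q_app, hQ]
  have hz' : z (.inl 0) = w (.inl 0) ∧ z (.inl 1) = 0 ∧ z (.inl 2) = 0 ∧ z (.inl 3) = 0 ∧
      z (.inr 1) = 0 ∧ z (.inr 2) = 0 ∧ z (.inr 3) = 0 := by
    rw [hz, hf]
    simp only [app_mul, app_rt6, app_rt7, app_rt8, app_rt9, app_rt10, app_rt11]
    refine ⟨?_, ?_, ?_, ?_, ?_, ?_, ?_⟩ <;> simp <;> field_simp <;> ring
  obtain ⟨z0, z1, z2, z3, y1, y2, y3⟩ := hz'
  have y0 : z (.inr 0) = 0 := by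
    rw [Q_eq, z1, z2, z3, z0] at hQz
    simp at hQz
    exact hQz.resolve_left h1
  rw [vec_eq z, z0, z1, z2, z3, y0, y1, y2, y3, e0_vec]
  funext j
  rcases j with i | i <;> fin_cases i <;> simp

theorem fix_e0_semi {f : O (plusQ 4 F)} (h : app f (e0 F) = e0 F) : semi (oIn (plusQ 4 F) f).1 (e0 F) = e0 F := by
  rw [Cfsg.Agent.OutEight57.semi_oIn, h]

/-- The second vector can be moved to the base line keeping the first one. -/
theorem move_second {b : I → F} (hb : b ≠ 0) (h : prod (e0 F) b = 0) :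
    ∃ f g h' : O (plusQ 4 F), Rel f g h' ∧ app f (e0 F) = e0 F ∧ ∃ k : F, app g b = k • e0 F := by
  rw [prod_e0_left] at h
  have q3 := congrFun h (.inl 0); have q2 := congrFun h (.inl 1)
  have q1 := congrFun h (.inl 2); have q0 := congrFun h (.inr 3)
  simp at q3 q2 q1 q0
  obtain ⟨f₁, g₁, h₁, hr₁, he₁, hne₁, hr1⟩ : ∃ f g h' : O (plusQ 4 F), Rel f g h' ∧ app f (e0 F) = e0 F ∧
      app g b (.inl 0) ≠ 0 ∧ ∀ i, app g b (.inr i) = 0 := by
    have hr : ∀ i, b (.inr i) = 0 := fun i => by fin_cases i <;> simp [q0, q1, q2, q3]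
    by_cases c0 : b (.inl 0) = 0
    swap
    · exact ⟨1, 1, 1, Rel.one, by simp, by simpa using c0, fun i => by simp [hr i]⟩
    by_cases c1 : b (.inl 1) = 0
    swap
    · refine ⟨rt 21 1, rt 1 1, rt 20 1, rel_rt21 1, ?_, ?_, fun i => ?_⟩
      · rw [e0_vec, app_rt21]; simp
      · rw [app_rt1]; simpa [c0] using c1
      · rw [app_rt1]; fin_cases i <;> simp [hr]
    by_cases c2 : b (.inl 2) = 0
    swap
    · refine ⟨rt 15 1, rt 3 (-1), rt 14 1, rel_rt15 1, ?_, ?_, fun i => ?_⟩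
      · rw [e0_vec, app_rt15]; simp
      · rw [app_rt3]; simpa [c0] using c2
      · rw [app_rt3]; fin_cases i <;> simp [hr]
    by_cases c3 : b (.inl 3) = 0
    swap
    · refine ⟨rt 12 1, rt 5 1, rt 4 1, rel_rt12 1, ?_, ?_, fun i => ?_⟩
      · rw [e0_vec, app_rt12]; simp
      · rw [app_rt5]; simpa [c0] using c3
      · rw [app_rt5]; fin_cases i <;> simp [hr]
    exfalso
    apply hb
    funext j
    rcases j with i | i
    · fin_cases i <;> simp [c0, c1, c2, c3]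
    · exact hr i
  set w := app g₁ b with hw
  set s1 := -w (.inl 1) / w (.inl 0)
  set s2 := w (.inl 2) / w (.inl 0)
  set s3 := -w (.inl 3) / w (.inl 0)
  refine ⟨rt 17 s3 * rt 18 s2 * rt 22 s1 * f₁, rt 10 s3 * rt 8 (-s2) * rt 6 s1 * g₁,
    rt 11 s3 * rt 19 s2 * rt 23 s1 * h₁, (((rel_rt17 s3).mul (rel_rt18 s2)).mul (rel_rt22 s1)).mul hr₁, ?_,
    w (.inl 0), ?_⟩
  · simp only [app_mul, he₁]
    rw [e0_vec, app_rt22, app_rt18, app_rt17]
    simp
  · simp only [app_mul, ← hw, app_rt6, app_rt8, app_rt10]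
    rw [e0_vec]
    funext j
    rcases j with i | i <;> fin_cases i <;> simp [s1, s2, s3, hr1] <;> field_simp <;> ring

/-- The third vector can be moved to the base line keeping the first two. -/
theorem move_third {c : I → F} (hc : c ≠ 0) (h₁ : prod (e0 F) c = 0) (h₂ : prod c (e0 F) = 0) :
    ∃ f g h : O (plusQ 4 F), Rel f g h ∧ app f (e0 F) = e0 F ∧ app g (e0 F) = e0 F ∧
      ∃ k : F, app h c = k • e0 F := by
  rw [prod_e0_left] at h₁
  rw [prod_e0_right] at h₂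
  have q3 := congrFun h₁ (.inl 0); have q2 := congrFun h₁ (.inl 1)
  have q1 := congrFun h₁ (.inl 2); have q0 := congrFun h₁ (.inr 3)
  have p3 := congrFun h₂ (.inl 0)
  simp at q3 q2 q1 q0 p3
  obtain ⟨f₁, g₁, k₁, hr₁, he₁, hg₁, hne₁, hr1, hl1⟩ : ∃ f g h : O (plusQ 4 F), Rel f g h ∧
      app f (e0 F) = e0 F ∧ app g (e0 F) = e0 F ∧
      app h c (.inl 0) ≠ 0 ∧ (∀ i, app h c (.inr i) = 0) ∧ app h c (.inl 3) = 0 := by
    have hr : ∀ i, c (.inr i) = 0 := fun i => by fin_cases i <;> simp [q0, q1, q2, q3]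
    by_cases c0 : c (.inl 0) = 0
    swap
    · exact ⟨1, 1, 1, Rel.one, by simp, by simp, by simpa using c0, fun i => by simp [hr i], by simpa using p3⟩
    by_cases c1 : c (.inl 1) = 0
    swap
    · refine ⟨rt 20 1, rt 21 1, rt 1 1, rel_rt20 1, ?_, ?_, ?_, fun i => ?_, ?_⟩
      · rw [e0_vec, app_rt20]; simp
      · rw [e0_vec, app_rt21]; simp
      · rw [app_rt1]; simpa [c0] using c1
      · rw [app_rt1]; fin_cases i <;> simp [hr]
      · rw [app_rt1]; simpa using p3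
    by_cases c2 : c (.inl 2) = 0
    swap
    · refine ⟨rt 14 1, rt 15 1, rt 3 (-1), rel_rt14 1, ?_, ?_, ?_, fun i => ?_, ?_⟩
      · rw [e0_vec, app_rt14]; simp
      · rw [e0_vec, app_rt15]; simp
      · rw [app_rt3]; simpa [c0] using c2
      · rw [app_rt3]; fin_cases i <;> simp [hr]
      · rw [app_rt3]; simpa using p3
    exfalso
    apply hc
    funext j
    rcases j with i | i
    · fin_cases i <;> simp [c0, c1, c2, p3]
    · exact hr i
  set w := app k₁ c with hw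
  set s1 := -w (.inl 1) / w (.inl 0)
  set s2 := w (.inl 2) / w (.inl 0)
  refine ⟨rt 19 s2 * rt 23 s1 * f₁, rt 18 s2 * rt 22 s1 * g₁, rt 8 (-s2) * rt 6 s1 * k₁,
    ((rel_rt19 s2).mul (rel_rt23 s1)).mul hr₁, ?_, ?_, w (.inl 0), ?_⟩
  · simp only [app_mul, he₁]
    rw [e0_vec, app_rt23, app_rt19]
    simp
  · simp only [app_mul, hg₁]
    rw [e0_vec, app_rt22, app_rt18]
    simp
  · simp only [app_mul, ← hw, app_rt6, app_rt8]
    rw [e0_vec]
    funext j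
    rcases j with i | i <;> fin_cases i <;> simp [s1, s2, hr1, hl1] <;> field_simp <;> ring

/-- Invariant base lines. -/
structure Lines0 (P : SS F) : Prop where
  l1 : ∃ k : F, semi P.1.1 (e0 F) = k • e0 F
  l2 : ∃ k : F, semi P.2.1.1 (e0 F) = k • e0 F
  l3 : ∃ k : F, semi P.2.2.1 (e0 F) = k • e0 F

theorem smul_ne_left {k : F} {v : I → F} (h : k • v ≠ 0) : k ≠ 0 := fun e => h (by rw [e, zero_smul])

/-- An invariant incident triple can be moved to the base one. -/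
theorem exists_lines0 {P : SS F} (hP : P ∈ tripSub F) {a b c : I → F} (h : Inv P a b c) :
    ∃ A ∈ tripSub F, Lines0 (conjT A P) := by
  obtain ⟨f, hf, ka, hfa⟩ := move_first h.a0 h.Qa
  obtain ⟨A₁, hA₁, hA₁1⟩ := mem_fstSub.1 (omega_mem_fstSub ⟨f, hf⟩)
  have ha1 : semi A₁.1.1 a = ka • e0 F := by
    rw [hA₁1]; exact (app_semi f a).trans hfa
  have hka : ka ≠ 0 := smul_ne_left (ha1 ▸ semi_ne_zero h.a0)
  have i1 := h.transform hA₁
  set b₁ := semi A₁.2.1.1 b with hb₁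
  have hb1 : prod (e0 F) b₁ = 0 := by
    have := i1.ab
    rw [ha1, prod_smul_left, smul_eq_zero] at this
    exact this.resolve_left hka
  obtain ⟨f₂, g₂, h₂, hr₂, he₂, kb, hkb⟩ := move_second i1.b0 hb1
  set A₂ := relT f₂ g₂ h₂ * A₁
  have hA₂ : A₂ ∈ tripSub F := mul_mem (relT_mem hr₂) hA₁
  have ha2 : semi A₂.1.1 a = ka • e0 F := by
    show semi ((oIn _ f₂).1 * A₁.1.1) a = _
    rw [semi_mul, ha1, Cfsg.Agent.OutEight57.semi_oIn, map_smul, he₂]
  have hb2 : semi A₂.2.1.1 b = kb • e0 F := by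
    show semi ((oIn _ g₂).1 * A₁.2.1.1) b = _
    rw [semi_mul, Cfsg.Agent.OutEight57.semi_oIn, hkb]
  have hkb0 : kb ≠ 0 := smul_ne_left (hb2 ▸ semi_ne_zero h.b0)
  have i2 := h.transform hA₂
  set c₂ := semi A₂.2.2.1 c with hc₂
  have hc1 : prod (e0 F) c₂ = 0 := by
    have := i2.bc
    rw [hb2, prod_smul_left, smul_eq_zero] at this
    exact this.resolve_left hkb0
  have hc2 : prod c₂ (e0 F) = 0 := by
    have := i2.ca
    rw [ha2, prod_smul_right, smul_eq_zero] at this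
    exact this.resolve_left hka
  obtain ⟨f₃, g₃, h₃, hr₃, he₃, hg₃, kc, hkc⟩ := move_third i2.c0 hc1 hc2
  set A := relT f₃ g₃ h₃ * A₂
  have hA : A ∈ tripSub F := mul_mem (relT_mem hr₃) hA₂
  have a3 : semi A.1.1 a = ka • e0 F := by
    show semi ((oIn _ f₃).1 * A₂.1.1) a = _
    rw [semi_mul, ha2, Cfsg.Agent.OutEight57.semi_oIn, map_smul, he₃]
  have b3 : semi A.2.1.1 b = kb • e0 F := by
    show semi ((oIn _ g₃).1 * A₂.2.1.1) b = _
    rw [semi_mul, hb2, Cfsg.Agent.OutEight57.semi_oIn, map_smul, hg₃]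
  have c3 : semi A.2.2.1 c = kc • e0 F := by
    show semi ((oIn _ h₃).1 * A₂.2.2.1) c = _
    rw [semi_mul, Cfsg.Agent.OutEight57.semi_oIn, ← hc₂, hkc]
  have hkc0 : kc ≠ 0 := smul_ne_left (c3 ▸ semi_ne_zero h.c0)
  have i3 := h.transform hA
  refine ⟨A, hA, ?_⟩
  have key : ∀ (S : GLS I F) (k k' m : F), k ≠ 0 → semi S (k • e0 F) = m • (k' • e0 F) →
      ∃ l : F, semi S (e0 F) = l • e0 F := fun S k k' m hk e => by
    rw [Cfsg.Agent.GammaO57.semi_smul, smul_smul] at e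
    refine ⟨(S.right k)⁻¹ * (m * k'), ?_⟩
    rw [mul_smul, ← e, smul_smul, inv_mul_cancel₀ ((map_ne_zero _).2 hk), one_smul]
  obtain ⟨m1, h1⟩ := i3.la
  obtain ⟨m2, h2⟩ := i3.lb
  obtain ⟨m3, h3⟩ := i3.lc
  rw [a3, b3] at h1
  rw [b3, c3] at h2
  rw [c3, a3] at h3
  exact ⟨key _ kb ka m1 hkb0 h1, key _ kc kb m2 hkc0 h2, key _ ka kc m3 hka h3⟩

/-! ### Opposite invariant triples -/

/-- Related triples of unipotent isometries. -/
noncomputable def uniT (F : Type*) [Field F] [Fintype F] :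
    Subgroup (O (plusQ 4 F) × O (plusQ 4 F) × O (plusQ 4 F)) where
  carrier := {u | u.1 ∈ uni F ∧ u.2.1 ∈ uni F ∧ u.2.2 ∈ uni F ∧ Rel u.1 u.2.1 u.2.2}
  one_mem' := ⟨one_mem _, one_mem _, one_mem _, Rel.one⟩
  mul_mem' := fun ha hb => ⟨mul_mem ha.1 hb.1, mul_mem ha.2.1 hb.2.1, mul_mem ha.2.2.1 hb.2.2.1,
    ha.2.2.2.mul hb.2.2.2⟩
  inv_mem' := fun ha => ⟨inv_mem ha.1, inv_mem ha.2.1, inv_mem ha.2.2.1, ha.2.2.2.inv⟩

/-- Normalised incident triples opposite to the base one. -/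
def Opp (F : Type*) [Field F] [Fintype F] : Set ((I → F) × (I → F) × (I → F)) :=
  {p | (p.1 (.inr 0) = 1 ∧ p.2.1 (.inr 0) = 1 ∧ p.2.2 (.inr 0) = 1) ∧
    (plusQ 4 F p.1 = 0 ∧ plusQ 4 F p.2.1 = 0 ∧ plusQ 4 F p.2.2 = 0) ∧
    prod p.1 p.2.1 = 0 ∧ prod p.2.1 p.2.2 = 0 ∧ prod p.2.2 p.1 = 0}

theorem mk_uniT {n₁ n₂ n₃ : Fin 24} {s₁ s₂ s₃ : F}
    (h₁ : n₁ ∈ ([0, 1, 2, 3, 4, 5, 12, 14, 15, 20, 21] : List (Fin 24)))
    (h₂ : n₂ ∈ ([0, 1, 2, 3, 4, 5, 12, 14, 15, 20, 21] : List (Fin 24)))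
    (h₃ : n₃ ∈ ([0, 1, 2, 3, 4, 5, 12, 14, 15, 20, 21] : List (Fin 24)))
    (e : Rel (rt n₁ s₁) (rt n₂ s₂) (rt n₃ s₃)) :
    ((rt n₁ s₁, rt n₂ s₂, rt n₃ s₃) : O (plusQ 4 F) × O (plusQ 4 F) × O (plusQ 4 F)) ∈ uniT F :=
  ⟨rt_mem_uni _ h₁ _, rt_mem_uni _ h₂ _, rt_mem_uni _ h₃ _, e⟩

theorem uni_top {f : O (plusQ 4 F)} (hf : f ∈ uni F) (v : I → F) : app f v (.inr 0) = v (.inr 0) := by
  have := hf 4 v (lay_five v) (.inr 0) le_rfl
  rwa [Pi.sub_apply, one_smul, sub_eq_zero] at this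

theorem uni_e0 {f : O (plusQ 4 F)} (hf : f ∈ uni F) : app f (e0 F) = e0 F := by
  have h := lay_zero (hf 0 (e0 F) (single_mem_lay (F := F) (Sum.inl 0)))
  rwa [one_smul, sub_eq_zero] at h

set_option maxHeartbeats 3200000 in
/-- The unipotent triples are transitive on opposite triples. -/
theorem opp_transitive {p : (I → F) × (I → F) × (I → F)} (hp : p ∈ Opp F) :
    ∃ u ∈ uniT F, app u.1 p.1 = f0 F ∧ app u.2.1 p.2.1 = f0 F ∧ app u.2.2 p.2.2 = f0 F := by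
  obtain ⟨⟨na, nb, nc⟩, ⟨qa, qb, qc⟩, hab, hbc, hca⟩ := hp
  set a := p.1; set b := p.2.1; set c := p.2.2
  -- the first member
  set u₁ : O (plusQ 4 F) × O (plusQ 4 F) × O (plusQ 4 F) :=
    (rt 5 (-a (.inr 3)), rt 4 (-a (.inr 3)), rt 12 (-a (.inr 3))) *
    (rt 4 (-a (.inl 3)), rt 12 (-a (.inl 3)), rt 5 (-a (.inl 3))) *
    (rt 3 (-a (.inr 2)), rt 14 (- -a (.inr 2)), rt 15 (- -a (.inr 2))) *
    (rt 2 (-a (.inl 2)), rt 2 (-a (.inl 2)), rt 2 (-a (.inl 2))) *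
    (rt 1 (-a (.inr 1)), rt 20 (-a (.inr 1)), rt 21 (-a (.inr 1))) *
    (rt 0 (-a (.inl 1)), rt 0 (-a (.inl 1)), rt 0 (-a (.inl 1))) with hu₁
  have hu₁m : u₁ ∈ uniT F := by
    refine mul_mem (mul_mem (mul_mem (mul_mem (mul_mem ?_ ?_) ?_) ?_) ?_) ?_
    · exact mk_uniT (by simp) (by simp) (by simp) (rel_rt5 _)
    · exact mk_uniT (by simp) (by simp) (by simp) (rel_rt4 _)
    · exact mk_uniT (by simp) (by simp) (by simp) (rel_rt3 _)
    · exact mk_uniT (by simp) (by simp) (by simp) (rel_rt2 _)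
    · exact mk_uniT (by simp) (by simp) (by simp) (rel_rt1 _)
    · exact mk_uniT (by simp) (by simp) (by simp) (rel_rt0 _)
  have ha₁ : app u₁.1 a = f0 F := by
    set z := app u₁.1 a with hz
    have hQz : plusQ 4 F z = 0 := by rw [hz, CfsgLib.Orth.Q_app, qa]
    have hz' : z (.inr 0) = 1 ∧ z (.inl 1) = 0 ∧ z (.inl 2) = 0 ∧ z (.inl 3) = 0 ∧
        z (.inr 1) = 0 ∧ z (.inr 2) = 0 ∧ z (.inr 3) = 0 := by
      rw [hz, hu₁]
      simp only [Prod.fst_mul, app_mul, app_rt0, app_rt1, app_rt2, app_rt3, app_rt4, app_rt5]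
      refine ⟨?_, ?_, ?_, ?_, ?_, ?_, ?_⟩ <;> simp [na]
    obtain ⟨z0, z1, z2, z3, y1, y2, y3⟩ := hz'
    have zl : z (.inl 0) = 0 := by
      rw [Q_eq, z0, z1, z2, z3] at hQz
      simpa using hQz
    rw [vec_eq z, zl, z1, z2, z3, z0, y1, y2, y3, f0_vec]
  set b₁ := app u₁.2.1 b with hb₁
  set c₁ := app u₁.2.2 c with hc₁
  clear_value u₁
  obtain ⟨hu11, hu12, hu13, hrel₁⟩ := hu₁m
  have hu₁m : u₁ ∈ uniT F := ⟨hu11, hu12, hu13, hrel₁⟩
  have hb0 : b₁ (.inr 0) = 1 := by rw [hb₁, uni_top hu12, nb]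
  have hfb : prod (f0 F) b₁ = 0 := by rw [← ha₁, hb₁, rel_prod hrel₁, hab, map_zero]
  rw [prod_f0_left] at hfb
  have l0 := congrFun hfb (.inl 3); have l3 := congrFun hfb (.inr 0)
  have l2 := congrFun hfb (.inr 1); have l1 := congrFun hfb (.inr 2)
  simp at l0 l3 l2 l1
  -- the second member
  set u₂ : O (plusQ 4 F) × O (plusQ 4 F) × O (plusQ 4 F) :=
    (rt 12 (-b₁ (.inr 3)), rt 5 (-b₁ (.inr 3)), rt 4 (-b₁ (.inr 3))) *
    (rt 15 (b₁ (.inr 2)), rt 3 (-b₁ (.inr 2)), rt 14 (b₁ (.inr 2))) *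
    (rt 21 (-b₁ (.inr 1)), rt 1 (-b₁ (.inr 1)), rt 20 (-b₁ (.inr 1))) with hu₂
  have hu₂m : u₂ ∈ uniT F := by
    refine mul_mem (mul_mem ?_ ?_) ?_
    · exact mk_uniT (by simp) (by simp) (by simp) (rel_rt12 _)
    · exact mk_uniT (by simp) (by simp) (by simp) (rel_rt15 _)
    · exact mk_uniT (by simp) (by simp) (by simp) (rel_rt21 _)
  have ha₂ : app u₂.1 (f0 F) = f0 F := by
    rw [hu₂]
    simp only [Prod.fst_mul, app_mul, f0_vec, app_rt21, app_rt15, app_rt12]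
    apply vec_ext <;> simp
  have hb₂ : app u₂.2.1 b₁ = f0 F := by
    rw [hu₂]
    simp only [Prod.snd_mul, Prod.fst_mul, app_mul, app_rt1, app_rt3, app_rt5]
    rw [f0_vec]
    apply vec_ext <;> simp [l0, l1, l2, l3, hb0]
  clear_value u₂
  obtain ⟨hu21, hu22, hu23, hrel₂⟩ := hu₂m
  have hu₂m : u₂ ∈ uniT F := ⟨hu21, hu22, hu23, hrel₂⟩
  set c₂ := app u₂.2.2 c₁ with hc₂
  have hc0 : c₂ (.inr 0) = 1 := by rw [hc₂, uni_top hu23, hc₁, uni_top hu13, nc]
  have hbc₂ : prod (f0 F) c₂ = 0 := by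
    rw [← hb₂, hb₁, hc₂, hc₁, rel_prod hrel₂.cycle, rel_prod hrel₁.cycle, hbc, map_zero, map_zero]
  have hca₂ : prod c₂ (f0 F) = 0 := by
    rw [← ha₂, ← ha₁, hc₂, hc₁, rel_prod hrel₂.cycle.cycle, rel_prod hrel₁.cycle.cycle, hca, map_zero, map_zero]
  rw [prod_f0_left] at hbc₂
  rw [prod_f0_right] at hca₂
  have m0 := congrFun hbc₂ (.inl 3); have m3 := congrFun hbc₂ (.inr 0)
  have m2 := congrFun hbc₂ (.inr 1); have m1 := congrFun hbc₂ (.inr 2)
  have n3 := congrFun hca₂ (.inr 0)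
  simp at m0 m3 m2 m1 n3
  -- the third member
  set u₃ : O (plusQ 4 F) × O (plusQ 4 F) × O (plusQ 4 F) :=
    (rt 14 (c₂ (.inr 2)), rt 15 (c₂ (.inr 2)), rt 3 (-c₂ (.inr 2))) *
    (rt 20 (-c₂ (.inr 1)), rt 21 (-c₂ (.inr 1)), rt 1 (-c₂ (.inr 1))) with hu₃
  have hu₃m : u₃ ∈ uniT F := mul_mem (mk_uniT (by simp) (by simp) (by simp) (rel_rt14 _))
    (mk_uniT (by simp) (by simp) (by simp) (rel_rt20 _))
  refine ⟨u₃ * u₂ * u₁, mul_mem (mul_mem hu₃m hu₂m) hu₁m, ?_, ?_, ?_⟩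
  · rw [Prod.fst_mul, Prod.fst_mul, app_mul, app_mul, ha₁, ha₂, hu₃]
    simp only [Prod.fst_mul, app_mul, f0_vec, app_rt20, app_rt14]
    apply vec_ext <;> simp
  · rw [Prod.snd_mul, Prod.snd_mul, Prod.fst_mul, Prod.fst_mul, app_mul, app_mul, ← hb₁, hb₂, hu₃]
    simp only [Prod.snd_mul, Prod.fst_mul, app_mul, f0_vec, app_rt21, app_rt15]
    apply vec_ext <;> simp
  · rw [Prod.snd_mul, Prod.snd_mul, Prod.snd_mul, Prod.snd_mul, app_mul, app_mul, ← hc₁, ← hc₂, hu₃]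
    simp only [Prod.snd_mul, app_mul, app_rt1, app_rt3]
    rw [f0_vec]
    apply vec_ext <;> simp [m0, m1, m2, m3, n3, hc0]

theorem f0_mem_opp : ((f0 F, f0 F, f0 F) : (I → F) × (I → F) × (I → F)) ∈ Opp F := by
  have h1 : (f0 F) (.inr 0) = 1 := Pi.single_eq_same _ _
  have h2 : plusQ 4 F (f0 F) = 0 := by rw [Q_eq]; simp
  have h3 : prod (f0 F) (f0 F) = 0 := by
    rw [prod_f0_left]; funext j; rcases j with i | i <;> fin_cases i <;> simp
  exact ⟨⟨h1, h1, h1⟩, ⟨h2, h2, h2⟩, h3, h3, h3⟩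

theorem card_opp_coprime {r : ℕ} [Fact r.Prime] [CharP F r] (h3 : r ≠ 3) : ¬ 3 ∣ Nat.card (Opp F) := by
  classical
  have hmem : ∀ u ∈ uniT F, ((app u.1 (f0 F), app u.2.1 (f0 F), app u.2.2 (f0 F)) :
      (I → F) × (I → F) × (I → F)) ∈ Opp F := by
    rintro u ⟨h1, h2, h3, hr⟩
    obtain ⟨⟨n, -, -⟩, ⟨q, -, -⟩, hp, -, -⟩ := f0_mem_opp (F := F)
    refine ⟨⟨?_, ?_, ?_⟩, ⟨?_, ?_, ?_⟩, ?_, ?_, ?_⟩
    · dsimp only; rw [uni_top h1]; exact n
    · dsimp only; rw [uni_top h2]; exact n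
    · dsimp only; rw [uni_top h3]; exact n
    · rw [CfsgLib.Orth.Q_app]; exact q
    · rw [CfsgLib.Orth.Q_app]; exact q
    · rw [CfsgLib.Orth.Q_app]; exact q
    · exact (rel_prod hr _ _).trans (by rw [hp, map_zero])
    · exact (rel_prod hr.cycle _ _).trans (by rw [hp, map_zero])
    · exact (rel_prod hr.cycle.cycle _ _).trans (by rw [hp, map_zero])
  let φ : uniT F → Opp F := fun u => ⟨_, hmem u.1 u.2⟩
  let K : Subgroup (uniT F) :=
    { carrier := {u | app u.1.1 (f0 F) = f0 F ∧ app u.1.2.1 (f0 F) = f0 F ∧ app u.1.2.2 (f0 F) = f0 F}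
      one_mem' := ⟨app_one _, app_one _, app_one _⟩
      mul_mem' := fun {x y} hx hy => ⟨by show app (x.1.1 * y.1.1) _ = _; rw [app_mul, hy.1, hx.1],
        by show app (x.1.2.1 * y.1.2.1) _ = _; rw [app_mul, hy.2.1, hx.2.1],
        by show app (x.1.2.2 * y.1.2.2) _ = _; rw [app_mul, hy.2.2, hx.2.2]⟩
      inv_mem' := fun {x} hx => ⟨(congrArg (app x.1.1⁻¹) hx.1).symm.trans (app_inv_app _ _),
        (congrArg (app x.1.2.1⁻¹) hx.2.1).symm.trans (app_inv_app _ _),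
        (congrArg (app x.1.2.2⁻¹) hx.2.2).symm.trans (app_inv_app _ _)⟩ }
  have hker : ∀ u v : uniT F, φ u = φ v ↔ u⁻¹ * v ∈ K := by
    intro u v
    have key : ∀ (f g : O (plusQ 4 F)), app f (f0 F) = app g (f0 F) ↔ app (f⁻¹ * g) (f0 F) = f0 F := fun f g =>
      ⟨fun e => by rw [app_mul, ← e, app_inv_app], fun e => by
        conv_lhs => rw [← e]
        rw [← app_mul, mul_inv_cancel_left]⟩
    refine ⟨fun e => ?_, fun e => ?_⟩
    · have e' := congrArg Subtype.val e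
      exact ⟨(key _ _).1 (congrArg Prod.fst e'), (key _ _).1 (congrArg (fun p => p.2.1) e'),
        (key _ _).1 (congrArg (fun p => p.2.2) e')⟩
    · exact Subtype.ext (Prod.ext ((key _ _).2 e.1) (Prod.ext ((key _ _).2 e.2.1) ((key _ _).2 e.2.2)))
  have hsurj : Function.Surjective φ := by
    rintro ⟨p, hp⟩
    obtain ⟨u, hu, h1, h2, h3⟩ := opp_transitive hp
    refine ⟨⟨u, hu⟩⁻¹, Subtype.ext (Prod.ext ?_ (Prod.ext ?_ ?_))⟩
    · show app u.1⁻¹ (f0 F) = _; rw [← h1, app_inv_app]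
    · show app u.2.1⁻¹ (f0 F) = _; rw [← h2, app_inv_app]
    · show app u.2.2⁻¹ (f0 F) = _; rw [← h3, app_inv_app]
  have hcard : Nat.card (Opp F) = K.index := by
    refine (Nat.card_congr (Equiv.ofBijective (Quotient.lift φ fun u v h => (hker u v).2
      (QuotientGroup.leftRel_apply.1 h)) ⟨?_, ?_⟩)).symm
    · intro x y
      induction x using Quotient.inductionOn with
      | _ u =>
      induction y using Quotient.inductionOn with
      | _ v => exact fun e => Quotient.sound (QuotientGroup.leftRel_apply.2 ((hker u v).1 e))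
    · intro p
      obtain ⟨u, hu⟩ := hsurj p
      exact ⟨Quotient.mk _ u, hu⟩
  have hU : IsPGroup r (uniT F) := fun u => ⟨3, Subtype.ext (by
    obtain ⟨h1, h2, h3, -⟩ := u.2
    have e : ∀ f ∈ uni F, f ^ r ^ 3 = 1 := fun f hf => ext_app fun w => by
      rw [(mem_uni.1 hf).pow_char, one_pow, one_smul, app_one]
    exact Prod.ext (e _ h1) (Prod.ext (e _ h2) (e _ h3)))⟩
  obtain ⟨n, hn⟩ := hU.exists_card_eq
  rw [hcard]
  intro hd
  have := (hd.trans K.index_dvd_card)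
  rw [hn] at this
  exact h3 ((Nat.prime_dvd_prime_iff_eq Nat.prime_three Fact.out).1 (Nat.prime_three.dvd_of_dvd_pow this)).symm

/-- Normalisation at the top coordinate. -/
noncomputable def nrm (v : I → F) : I → F := (v (.inr 0))⁻¹ • v

theorem nrm_smul {l : F} (hl : l ≠ 0) (v : I → F) : nrm (l • v) = nrm v := by
  rw [nrm, nrm, smul_smul, Pi.smul_apply, smul_eq_mul]
  congr 1
  by_cases h : v (.inr 0) = 0
  · simp [h]
  · field_simp

theorem nrm_semi_nrm (S : GLS I F) {v : I → F} (h : v (.inr 0) ≠ 0) : nrm (semi S (nrm v)) = nrm (semi S v) := by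
  rw [show nrm v = (v (.inr 0))⁻¹ • v from rfl, Cfsg.Agent.GammaO57.semi_smul,
    nrm_smul ((map_ne_zero _).2 (inv_ne_zero h))]

theorem semi_top {y : ↥(semiGroup (plusQ 4 F))} {k : F} (hk : semi y.1 (e0 F) = k • e0 F) {v : I → F}
    (hv : v (.inr 0) ≠ 0) : semi y.1 v (.inr 0) ≠ 0 := by
  obtain ⟨μ, hμ⟩ := y.2
  intro e
  have h := semi_polar (Y := y) hμ (v := v) (w := e0 F)
  rw [hk, polar_smul_right, polar_e0, e, smul_zero, polar_e0] at h
  exact (mul_ne_zero μ.ne_zero ((map_ne_zero _).2 hv)) h.symm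

theorem scalar_shift {P : SS F} {k₀ : F}
    (hs : ∀ v, semi P.1.1 (semi P.2.1.1 (semi P.2.2.1 v)) = k₀ • v) :
    ∃ k : F, ∀ v, semi P.2.1.1 (semi P.2.2.1 (semi P.1.1 v)) = k • v := by
  refine ⟨P.1.1⁻¹.right k₀, fun v => ?_⟩
  have h := congrArg (semi P.1.1⁻¹) (hs (semi P.1.1 v))
  rwa [semi_inv_semi, Cfsg.Agent.GammaO57.semi_smul, semi_inv_semi] at h

/-- Some invariant triple is opposite to the base one. -/
theorem exists_opp {r : ℕ} [Fact r.Prime] [CharP F r] (h3 : r ≠ 3) {P : SS F} (hP : P ∈ tripSub F)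
    (L : Lines0 P) {k₀ : F} (hk₀ : k₀ ≠ 0)
    (hs : ∀ v, semi P.1.1 (semi P.2.1.1 (semi P.2.2.1 v)) = k₀ • v) :
    ∃ p ∈ Opp F, ∃ k1 k2 k3 : F, semi P.1.1 p.2.1 = k1 • p.1 ∧ semi P.2.1.1 p.2.2 = k2 • p.2.1 ∧
      semi P.2.2.1 p.1 = k3 • p.2.2 := by
  classical
  obtain ⟨⟨l1, hl1⟩, ⟨l2, hl2⟩, ⟨l3, hl3⟩⟩ := L
  obtain ⟨k₁, hs1⟩ := scalar_shift hs
  obtain ⟨k₂, hs2⟩ := scalar_shift (P := shift P) hs1
  have t1 : ∀ v : I → F, v (.inr 0) = 1 → semi P.1.1 v (.inr 0) ≠ 0 := fun v hv =>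
    semi_top hl1 (by rw [hv]; exact one_ne_zero)
  have t2 : ∀ v : I → F, v (.inr 0) = 1 → semi P.2.1.1 v (.inr 0) ≠ 0 := fun v hv =>
    semi_top hl2 (by rw [hv]; exact one_ne_zero)
  have t3 : ∀ v : I → F, v (.inr 0) = 1 → semi P.2.2.1 v (.inr 0) ≠ 0 := fun v hv =>
    semi_top hl3 (by rw [hv]; exact one_ne_zero)
  have hn : ∀ v : I → F, v (.inr 0) ≠ 0 → nrm v (.inr 0) = 1 := fun v hv => by
    rw [nrm, Pi.smul_apply, smul_eq_mul, inv_mul_cancel₀ hv]
  have hQn : ∀ v : I → F, plusQ 4 F v = 0 → plusQ 4 F (nrm v) = 0 := fun v hv => by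
    rw [nrm, QuadraticMap.map_smul, hv, smul_zero]
  have hpn : ∀ u v : I → F, prod u v = 0 → prod (nrm u) (nrm v) = 0 := fun u v huv => by
    rw [nrm, nrm, prod_smul_left, prod_smul_right, huv, smul_zero, smul_zero]
  let T : Opp F → Opp F := fun p => ⟨(nrm (semi P.1.1 p.1.2.1), nrm (semi P.2.1.1 p.1.2.2), nrm (semi P.2.2.1 p.1.1)),
    ⟨hn _ (t1 _ p.2.1.2.1), hn _ (t2 _ p.2.1.2.2), hn _ (t3 _ p.2.1.1)⟩,
    ⟨hQn _ (Q_semi_zero _ p.2.2.1.2.1), hQn _ (Q_semi_zero _ p.2.2.1.2.2), hQn _ (Q_semi_zero _ p.2.2.1.1)⟩,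
    hpn _ _ (trip_prod_zero hP p.2.2.2.2.1), hpn _ _ (trip_prod_zero (shift_mem hP) p.2.2.2.2.2),
    hpn _ _ (trip_prod_zero (shift_mem (shift_mem hP)) p.2.2.2.1)⟩
  have hcube : ∀ p, T (T (T p)) = p := by
    rintro ⟨⟨a, b, c⟩, hp⟩
    obtain ⟨⟨na, nb, nc⟩, -⟩ := id hp
    change a (.inr 0) = 1 at na
    change b (.inr 0) = 1 at nb
    change c (.inr 0) = 1 at nc
    have ne1 : ∀ v : I → F, v (.inr 0) ≠ 0 → semi P.1.1 v (.inr 0) ≠ 0 := fun v hv => semi_top hl1 hv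
    have ne2 : ∀ v : I → F, v (.inr 0) ≠ 0 → semi P.2.1.1 v (.inr 0) ≠ 0 := fun v hv => semi_top hl2 hv
    have ne3 : ∀ v : I → F, v (.inr 0) ≠ 0 → semi P.2.2.1 v (.inr 0) ≠ 0 := fun v hv => semi_top hl3 hv
    have fin : ∀ (k : F) (v : I → F), v (.inr 0) = 1 → (k • v) (.inr 0) ≠ 0 → nrm (k • v) = v := fun k v hv hk => by
      rw [Pi.smul_apply, hv, smul_eq_mul, mul_one] at hk
      rw [nrm_smul hk, nrm, hv, inv_one, one_smul]
    refine Subtype.ext (Prod.ext ?_ (Prod.ext ?_ ?_))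
    · show nrm (semi P.1.1 (nrm (semi P.2.1.1 (nrm (semi P.2.2.1 a))))) = a
      rw [nrm_semi_nrm _ (ne2 _ (by rw [hn _ (t3 _ na)]; exact one_ne_zero)), ← nrm_semi_nrm P.1.1
        (ne2 _ (by rw [hn _ (t3 _ na)]; exact one_ne_zero)), nrm_semi_nrm _ (t3 _ na), nrm_semi_nrm _
        (ne2 _ (t3 _ na)), hs]
      exact fin _ _ na (by rw [← hs]; exact ne1 _ (ne2 _ (t3 _ na)))
    · show nrm (semi P.2.1.1 (nrm (semi P.2.2.1 (nrm (semi P.1.1 b))))) = b
      rw [nrm_semi_nrm _ (ne3 _ (by rw [hn _ (t1 _ nb)]; exact one_ne_zero)), ← nrm_semi_nrm P.2.1.1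
        (ne3 _ (by rw [hn _ (t1 _ nb)]; exact one_ne_zero)), nrm_semi_nrm _ (t1 _ nb), nrm_semi_nrm _
        (ne3 _ (t1 _ nb)), hs1]
      exact fin _ _ nb (by rw [← hs1]; exact ne2 _ (ne3 _ (t1 _ nb)))
    · show nrm (semi P.2.2.1 (nrm (semi P.1.1 (nrm (semi P.2.1.1 c))))) = c
      rw [nrm_semi_nrm _ (ne1 _ (by rw [hn _ (t2 _ nc)]; exact one_ne_zero)), ← nrm_semi_nrm P.2.2.1
        (ne1 _ (by rw [hn _ (t2 _ nc)]; exact one_ne_zero)), nrm_semi_nrm _ (t2 _ nc), nrm_semi_nrm _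
        (ne1 _ (t2 _ nc))]
      have e : semi P.2.2.1 (semi P.1.1 (semi P.2.1.1 c)) = k₂ • c := hs2 c
      rw [e]
      exact fin _ _ nc (by rw [← e]; exact ne3 _ (ne1 _ (t2 _ nc)))
  let σ : Equiv.Perm (Opp F) := ⟨T, fun p => T (T p), hcube, hcube⟩
  have hσ : σ ^ 3 ^ 1 = 1 := Equiv.ext fun p => hcube p
  have : Fintype (Opp F) := Fintype.ofFinite _
  have : Fact (Nat.Prime 3) := ⟨Nat.prime_three⟩
  obtain ⟨p, hp⟩ := Equiv.Perm.exists_fixed_point_of_prime (p := 3)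
    (by rw [← Nat.card_eq_fintype_card]; exact card_opp_coprime h3) hσ
  have hp' : T p = p := hp
  have e1 := congrArg (fun q : Opp F => q.1.1) hp'
  have e2 := congrArg (fun q : Opp F => q.1.2.1) hp'
  have e3 := congrArg (fun q : Opp F => q.1.2.2) hp'
  have undo : ∀ (w v : I → F), nrm w = v → w (.inr 0) ≠ 0 → w = w (.inr 0) • v := fun w v e h0 => by
    rw [← e, nrm, smul_smul, mul_inv_cancel₀ h0, one_smul]
  exact ⟨p.1, p.2, _, _, _, undo _ _ e1 (t1 _ p.2.1.2.1), undo _ _ e2 (t2 _ p.2.1.2.2), undo _ _ e3 (t3 _ p.2.1.1)⟩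

/-- Both base lines invariant in all three places. -/
structure Lines (P : SS F) : Prop where
  low : Lines0 P
  h1 : ∃ k : F, semi P.1.1 (f0 F) = k • f0 F
  h2 : ∃ k : F, semi P.2.1.1 (f0 F) = k • f0 F
  h3 : ∃ k : F, semi P.2.2.1 (f0 F) = k • f0 F

theorem exists_lines {r : ℕ} [Fact r.Prime] [CharP F r] (h3 : r ≠ 3) {P : SS F} (hP : P ∈ tripSub F)
    (L : Lines0 P) {k₀ : F} (hk₀ : k₀ ≠ 0)
    (hs : ∀ v, semi P.1.1 (semi P.2.1.1 (semi P.2.2.1 v)) = k₀ • v) :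
    ∃ A ∈ tripSub F, Lines (conjT A P) := by
  obtain ⟨p, hp, k1, k2, k3, e1, e2, e3⟩ := exists_opp h3 hP L hk₀ hs
  obtain ⟨u, ⟨m1, m2, m3, hr⟩, u1, u2, u3⟩ := opp_transitive hp
  set A := relT u.1 u.2.1 u.2.2
  refine ⟨A, relT_mem hr, ⟨?_, ?_, ?_⟩, ?_, ?_, ?_⟩
  all_goals
    obtain ⟨⟨l1, hl1⟩, ⟨l2, hl2⟩, ⟨l3, hl3⟩⟩ := L
  · have := (semi_conjT A P (e0 F)).1
    rw [show semi A.2.1.1 (e0 F) = e0 F from fix_e0_semi (uni_e0 m2), hl1, Cfsg.Agent.GammaO57.semi_smul,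
      show semi A.1.1 (e0 F) = e0 F from fix_e0_semi (uni_e0 m1)] at this
    exact ⟨_, this⟩
  · have := (semi_conjT A P (e0 F)).2.1
    rw [show semi A.2.2.1 (e0 F) = e0 F from fix_e0_semi (uni_e0 m3), hl2, Cfsg.Agent.GammaO57.semi_smul,
      show semi A.2.1.1 (e0 F) = e0 F from fix_e0_semi (uni_e0 m2)] at this
    exact ⟨_, this⟩
  · have := (semi_conjT A P (e0 F)).2.2
    rw [show semi A.1.1 (e0 F) = e0 F from fix_e0_semi (uni_e0 m1), hl3, Cfsg.Agent.GammaO57.semi_smul,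
      show semi A.2.2.1 (e0 F) = e0 F from fix_e0_semi (uni_e0 m3)] at this
    exact ⟨_, this⟩
  · have := (semi_conjT A P p.2.1).1
    rw [show semi A.2.1.1 p.2.1 = f0 F from (app_semi u.2.1 _).trans u2, e1, Cfsg.Agent.GammaO57.semi_smul,
      show semi A.1.1 p.1 = f0 F from (app_semi u.1 _).trans u1] at this
    exact ⟨_, this⟩
  · have := (semi_conjT A P p.2.2).2.1
    rw [show semi A.2.2.1 p.2.2 = f0 F from (app_semi u.2.2 _).trans u3, e2, Cfsg.Agent.GammaO57.semi_smul,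
      show semi A.2.1.1 p.2.1 = f0 F from (app_semi u.2.1 _).trans u2] at this
    exact ⟨_, this⟩
  · have := (semi_conjT A P p.1).2.2
    rw [show semi A.1.1 p.1 = f0 F from (app_semi u.1 _).trans u1, e3, Cfsg.Agent.GammaO57.semi_smul,
      show semi A.2.2.1 p.2.2 = f0 F from (app_semi u.2.2 _).trans u3] at this
    exact ⟨_, this⟩

set_option maxHeartbeats 3200000 in
/-- A triple keeping both base lines induces the same as one in normal form. -/
theorem exists_lev {P : SS F} (hP : P ∈ tripSub F) (L : Lines P) :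
    ∃ (σ : F ≃+* F) (R : Prm F), gAut (plusQ 4 F) P.1 = gAut (plusQ 4 F) (levS σ R) := by
  obtain ⟨⟨⟨α, ha⟩, ⟨α2, ha2⟩, ⟨α3, ha3⟩⟩, ⟨β, hb⟩, ⟨β2, hb2⟩, ⟨β3, hb3⟩⟩ := L
  obtain ⟨k, hk⟩ := prod_equivariant (shift_mem hP)
  have back : ∀ (v z : I → F), prod (semi P.2.1.1 v) (semi P.2.2.1 z) = (k : F) • semi P.1.1 (prod v z) := hk
  set Y := P.1
  set σ := Y.1.right
  obtain ⟨μ, hμ⟩ := Y.2
  have coord : ∀ {u : I → F} {i : I}, ((k : F) • u) i = 0 → u i = 0 := fun h' => smul_eq_zero_vec k.ne_zero h'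
  have hW : ∀ v : I → F, (∀ i, v (.inr i) = 0) → ∀ i, semi Y.1 v (.inr i) = 0 := fun v hv i => by
    obtain ⟨x, rfl⟩ := mem_W hv
    have e := back x (e0 F)
    rw [ha3, prod_smul_right, prod_e0_right] at e
    exact coord (by rw [← e]; fin_cases i <;> simp)
  have hWm : ∀ v : I → F, (∀ i, v (.inl i) = 0) → ∀ i, semi Y.1 v (.inl i) = 0 := fun v hv i => by
    obtain ⟨x, rfl⟩ := mem_Wm hv
    have e := back x (f0 F)
    rw [hb3, prod_smul_right, prod_f0_right] at e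
    exact coord (by rw [← e]; fin_cases i <;> simp)
  have hW' : ∀ v : I → F, v (.inl 3) = 0 → v (.inr 0) = 0 → v (.inr 1) = 0 → v (.inr 2) = 0 →
      semi Y.1 v (.inl 3) = 0 := fun v h3 h0 h1 h2 => by
    obtain ⟨x, rfl⟩ := mem_W' h3 h0 h1 h2
    have e := back (e0 F) x
    rw [ha2, prod_smul_left, prod_e0_left] at e
    exact coord (by rw [← e]; simp)
  have hWm' : ∀ v : I → F, v (.inr 3) = 0 → v (.inl 0) = 0 → v (.inl 1) = 0 → v (.inl 2) = 0 →
      semi Y.1 v (.inr 3) = 0 ∧ semi Y.1 v (.inl 1) = 0 ∧ semi Y.1 v (.inl 2) = 0 := fun v h3 h0 h1 h2 => by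
    obtain ⟨x, rfl⟩ := mem_Wm' h3 h0 h1 h2
    have e := back (f0 F) x
    rw [hb2, prod_smul_left, prod_f0_left] at e
    exact ⟨coord (by rw [← e]; simp), coord (by rw [← e]; simp), coord (by rw [← e]; simp)⟩
  have pol : ∀ v w, polar (plusQ 4 F) (semi Y.1 v) (semi Y.1 w) = (μ : F) * σ (polar (plusQ 4 F) v w) :=
    fun v w => semi_polar hμ
  have hse : ∀ i : I, i ≠ .inl 0 → i ≠ .inr 0 → polar (plusQ 4 F) (Pi.single i 1) (e0 F) = 0 ∧
      polar (plusQ 4 F) (Pi.single i 1) (f0 F) = 0 := by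
    intro i hi hi'
    constructor <;> rw [polar_plusQ] <;> rcases i with i | i <;> fin_cases i <;>
      simp [Fin.sum_univ_four] at hi hi' ⊢
  have hμe : α * β = (μ : F) := by
    have e := pol (e0 F) (f0 F)
    rw [ha, hb, polar_plusQ, polar_plusQ] at e
    simpa [Fin.sum_univ_four] using e
  have hα : α ≠ 0 := fun e => μ.ne_zero (by rw [← hμe, e, zero_mul])
  have hβ : β ≠ 0 := fun e => μ.ne_zero (by rw [← hμe, e, mul_zero])
  set V : I → (I → F) := fun i => semi Y.1 (Pi.single i 1) with hV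
  have z0 : ∀ i : I, i ≠ .inl 0 → i ≠ .inr 0 →
      semi Y.1 (Pi.single i 1) (.inl 0) = 0 ∧ semi Y.1 (Pi.single i 1) (.inr 0) = 0 := fun i hi hi' => by
    constructor
    · have e := pol (Pi.single i 1) (f0 F)
      rw [hb, polar_smul_right, (hse i hi hi').2, map_zero, mul_zero] at e
      rw [show polar (plusQ 4 F) (semi Y.1 (Pi.single i 1)) (f0 F) = semi Y.1 (Pi.single i 1) (.inl 0) by
        rw [polar_plusQ]; simp [Fin.sum_univ_four]] at e
      exact (mul_eq_zero.1 e).resolve_left hβ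
    · have e := pol (Pi.single i 1) (e0 F)
      rw [ha, polar_smul_right, (hse i hi hi').1, map_zero, mul_zero] at e
      rw [polar_e0] at e
      exact (mul_eq_zero.1 e).resolve_left hα
  have E1 := hW (Pi.single (.inl 1) 1) (fun i => by simp)
  have E2 := hW (Pi.single (.inl 2) 1) (fun i => by simp)
  have E3 := hW (Pi.single (.inl 3) 1) (fun i => by simp)
  have E1' := hW' (Pi.single (.inl 1) 1) (by simp) (by simp) (by simp) (by simp)
  have E2' := hW' (Pi.single (.inl 2) 1) (by simp) (by simp) (by simp) (by simp)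
  obtain ⟨-, E31, E32⟩ := hWm' (Pi.single (.inl 3) 1) (by simp) (by simp) (by simp) (by simp)
  have G1 := hWm (Pi.single (.inr 1) 1) (fun i => by simp)
  have G2 := hWm (Pi.single (.inr 2) 1) (fun i => by simp)
  have G3 := hWm (Pi.single (.inr 3) 1) (fun i => by simp)
  obtain ⟨G13, -, -⟩ := hWm' (Pi.single (.inr 1) 1) (by simp) (by simp) (by simp) (by simp)
  obtain ⟨G23, -, -⟩ := hWm' (Pi.single (.inr 2) 1) (by simp) (by simp) (by simp) (by simp)
  set p := V (.inl 1) (.inl 1); set q := V (.inl 2) (.inl 1)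
  set s := V (.inl 1) (.inl 2); set w := V (.inl 2) (.inl 2)
  set γ := V (.inl 3) (.inl 3); set δ := V (.inr 3) (.inr 3)
  set n11 := V (.inr 1) (.inr 1); set n12 := V (.inr 2) (.inr 1)
  set n21 := V (.inr 1) (.inr 2); set n22 := V (.inr 2) (.inr 2)
  have P := fun i j => pol (Pi.single i 1) (Pi.single j 1)
  have p11 := P (.inl 1) (.inr 1); have p12 := P (.inl 1) (.inr 2)
  have p21 := P (.inl 2) (.inr 1); have p22 := P (.inl 2) (.inr 2)
  have p31 := P (.inl 1) (.inr 3); have p32 := P (.inl 2) (.inr 3)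
  have p33 := P (.inl 3) (.inr 3)
  simp [polar_plusQ, Fin.sum_univ_four, E1, E2, E3, E1', E2', E31, E32, G1, G2, G3, G13, G23,
    (z0 (.inl 1) (by simp) (by simp)).1, (z0 (.inl 2) (by simp) (by simp)).1,
    (z0 (.inl 3) (by simp) (by simp)).1, (z0 (.inr 1) (by simp) (by simp)).2,
    (z0 (.inr 2) (by simp) (by simp)).2, (z0 (.inr 3) (by simp) (by simp)).2] at p11 p12 p21 p22 p31 p32 p33
  change p * n11 + s * n21 = μ at p11
  change p * n12 + s * n22 = 0 at p12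
  change q * n11 + w * n21 = 0 at p21
  change q * n12 + w * n22 = μ at p22
  change p * V (.inr 3) (.inr 1) + s * V (.inr 3) (.inr 2) = 0 at p31
  change q * V (.inr 3) (.inr 1) + w * V (.inr 3) (.inr 2) = 0 at p32
  change γ * δ = μ at p33
  have hdet : p * w - q * s ≠ 0 := by
    intro e
    have hμ2 : (μ : F) * μ = 0 := by
      have : (p * w - q * s) * (n11 * n22 - n12 * n21) = (μ : F) * μ := by
        linear_combination (q * n12 + w * n22) * p11 + (μ : F) * p22 - (q * n11 + w * n21) * p12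
      rw [← this, e, zero_mul]
    exact μ.ne_zero (mul_self_eq_zero.1 hμ2)
  have r1 : V (.inr 3) (.inr 1) = 0 := by
    refine (mul_eq_zero.1 (?_ : (p * w - q * s) * _ = 0)).resolve_left hdet
    linear_combination w * p31 - s * p32
  have r2 : V (.inr 3) (.inr 2) = 0 := by
    refine (mul_eq_zero.1 (?_ : (p * w - q * s) * _ = 0)).resolve_left hdet
    linear_combination p * p32 - q * p31
  have hγ : γ ≠ 0 := fun e => μ.ne_zero (by rw [← p33, e, zero_mul])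
  have hδ : δ ≠ 0 := fun e => μ.ne_zero (by rw [← p33, e, mul_zero])
  let G : GL (Fin 2) F := Matrix.GeneralLinearGroup.mkOfDetNeZero !![β⁻¹ * p, β⁻¹ * q; β⁻¹ * s, β⁻¹ * w] (by
    rw [det_fin_two]; simp
    intro e
    apply hdet
    field_simp at e
    linear_combination e)
  set D := β⁻¹ * β⁻¹ * (p * w - q * s) with hDdef
  have hD0 : D ≠ 0 := mul_ne_zero (mul_ne_zero (inv_ne_zero hβ) (inv_ne_zero hβ)) hdet
  let R : Prm F := (G, Units.mk0 (γ / β) (div_ne_zero hγ hβ), Units.mk0 (δ / β) (div_ne_zero hδ hβ),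
    Units.mk0 (D * β * β / (γ * δ)) (div_ne_zero (mul_ne_zero (mul_ne_zero hD0 hβ) hβ) (mul_ne_zero hγ hδ)))
  refine ⟨σ, R, gAut_eq_of_semi hβ fun v => ?_⟩
  have hdec : semi Y.1 v = ∑ i, σ (v i) • V i := by
    conv_lhs => rw [show v = ∑ i, v i • (Pi.single i 1 : I → F) from funext fun j => by simp [Pi.single_apply]]
    let Sh : (I → F) →+ (I → F) := AddMonoidHom.mk' (semi Y.1) (Cfsg.Agent.GammaO57.semi_add Y.1)
    show Sh _ = _
    rw [map_sum]
    refine Finset.sum_congr rfl fun i _ => ?_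
    show semi Y.1 (v i • _) = _
    rw [Cfsg.Agent.GammaO57.semi_smul]
  rw [hdec, semi_levS, levF_apply]
  have hdR : dt R = D := by
    rw [dt, det_fin_two]; simp [R, G, hDdef]; ring
  have hαμ : α = (μ : F) / β := by rw [← hμe]; field_simp
  have N11 : n11 = (μ : F) * w / (p * w - q * s) := by rw [eq_div_iff hdet]; linear_combination w * p11 - s * p21
  have N21 : n21 = -((μ : F) * q) / (p * w - q * s) := by rw [eq_div_iff hdet]; linear_combination p * p21 - q * p11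
  have N12 : n12 = -((μ : F) * s) / (p * w - q * s) := by rw [eq_div_iff hdet]; linear_combination w * p12 - s * p22
  have N22 : n22 = (μ : F) * p / (p * w - q * s) := by rw [eq_div_iff hdet]; linear_combination p * p22 - q * p12
  have N11' : semi Y.1 (Pi.single (.inr 1) 1) (.inr 1) = (μ : F) * w / (p * w - q * s) := N11
  have N12' : semi Y.1 (Pi.single (.inr 2) 1) (.inr 1) = -((μ : F) * s) / (p * w - q * s) := N12
  have N21' : semi Y.1 (Pi.single (.inr 1) 1) (.inr 2) = -((μ : F) * q) / (p * w - q * s) := N21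
  have N22' : semi Y.1 (Pi.single (.inr 2) 1) (.inr 2) = (μ : F) * p / (p * w - q * s) := N22
  have c00 : ∀ j, V (.inl 0) j = α * e0 F j := fun j => by simp [hV, ha]
  have d00 : ∀ j, V (.inr 0) j = β * f0 F j := fun j => by simp [hV, hb]
  rw [hdR]
  funext j
  rw [Finset.sum_apply, Fintype.sum_sum_type, Fin.sum_univ_four, Fin.sum_univ_four]
  simp only [Pi.smul_apply, smul_eq_mul, c00, d00]
  rcases j with j | j <;> fin_cases j <;>
    simp [R, G, E1, E2, E3, E1', E2', E31, E32, G1, G2, G3, G13, G23, r1, r2, hV,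
      (z0 (.inl 1) (by simp) (by simp)).1, (z0 (.inl 2) (by simp) (by simp)).1,
      (z0 (.inl 3) (by simp) (by simp)).1, (z0 (.inr 1) (by simp) (by simp)).2,
      (z0 (.inr 2) (by simp) (by simp)).2, (z0 (.inr 3) (by simp) (by simp)).2] <;>
    (try simp [hV] at r1 r2) <;> (try simp [r1, r2, N11', N12', N21', N22', hαμ, ← p33, hDdef]) <;>
    (try field_simp) <;> (try ring)

set_option maxHeartbeats 3200000 in
/-- The elements of order three of the triality coset are conjugate to twists. -/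
theorem classify {r : ℕ} [Fact r.Prime] [CharP F r] (h3r : r ≠ 3) {X : ↥(semiGroup (plusQ 4 F))}
    (hX : psgn 4 F X = 1) (hx : (gAut (plusQ 4 F) X * triality F) ^ 3 = 1) :
    (∃ (σ : F ≃+* F) (h3 : σ * σ * σ = 1), IsConj (gAut (plusQ 4 F) X * triality F) (twI σ h3).x) ∨
      IsConj (gAut (plusQ 4 F) X * triality F) (twM F).x := by
  have scal_of : ∀ {P : SS F}, P ∈ tripSub F → (gAut (plusQ 4 F) P.1 * triality F) ^ 3 = 1 →
      ∃ k₀ : F, k₀ ≠ 0 ∧ ∀ v, semi P.1.1 (semi P.2.1.1 (semi P.2.2.1 v)) = k₀ • v := by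
    intro P hP h
    have e := cube_solve triality_pow_three (intertwine hP) (intertwine (P := shift P) (shift_mem hP))
    rw [h, show (shift P).2.1 = P.2.2 from rfl, ← map_mul, ← map_mul] at e
    obtain ⟨hr, c, hc⟩ := gAut_eq_one (plusQ_nondegenerate 4) (card_PI le_rfl) (plusData (by omega)) e.symm
    refine ⟨c, c.ne_zero, fun v => ?_⟩
    have e' : semi (P.1 * P.2.1 * P.2.2).1 v = (c : F) • v := by
      rw [Cfsg.Agent.GammaO57.semi, hr, hc]
      exact CfsgLib.FieldPOmega.scalar_mulVec c v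
    rw [Subgroup.coe_mul, Subgroup.coe_mul, semi_mul, semi_mul] at e'
    exact e'
  have cube : ∀ {y z : MulAut (PG4 F)}, IsConj y z → y ^ 3 = 1 → z ^ 3 = 1 := by
    intro y z h hy
    obtain ⟨β, hβ⟩ := isConj_iff.1 h
    rw [← hβ, conj_pow, hy, mul_one, mul_inv_cancel]
  obtain ⟨P, hP, rfl⟩ := exists_trip hX
  obtain ⟨k₀, hk₀, hs⟩ := scal_of hP hx
  obtain ⟨a, b, c, hinv⟩ := exists_inv (r := r) hP hk₀ hs
  obtain ⟨A, hA, L0⟩ := exists_lines0 hP hinv
  have c1 := conjT_isConj (P := P) hA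
  have hP1 := conjT_mem hA hP
  obtain ⟨k₁, hk₁, hs₁⟩ := scal_of hP1 (cube c1 hx)
  obtain ⟨B, hB, L⟩ := exists_lines h3r hP1 L0 hk₁ hs₁
  have c2 := conjT_isConj (P := conjT A P) hB
  obtain ⟨σ, R, hR⟩ := exists_lev (conjT_mem hB hP1) L
  rw [hR] at c2
  rcases lx_classify (cube (c1.trans c2) hx) with ⟨h3, h⟩ | h
  · exact Or.inl ⟨σ, h3, (c1.trans c2).trans h⟩
  · exact Or.inr ((c1.trans c2).trans h)

end CfsgLib.TriNorm
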