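import Cfsg.Agent.Lib.POmegaBalPlus.TriElems

/-!
The filtration of the eight-dimensional space attached to a base point of a twist of triality, and its
stabiliser among the invariant isometries.
-/

set_option autoImplicit false
set_option linter.unusedSectionVars false

namespace CfsgLib.TriNorm

open Matrix QuadraticMap CfsgLib.Orth CfsgLib.FieldPOmega Cfsg.Agent.GammaO57 Cfsg.Agent.Triality57
  Cfsg.Agent.OutPlus57

variable {F : Type*} [Field F] [Fintype F]

/-- The weight of a coordinate. -/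
def wt : I → ℕ := Sum.elim ![0, 1, 1, 2] ![4, 3, 3, 2]

/-- The filtration. -/
def lay (F : Type*) [Field F] (k : ℕ) : Submodule F (I → F) where
  carrier := {v | ∀ i, k ≤ wt i → v i = 0}
  add_mem' := fun {a b} ha hb i hi => by simp [ha i hi, hb i hi]
  zero_mem' := fun _ _ => rfl
  smul_mem' := fun c v hv i hi => by simp [hv i hi]

theorem mem_lay {k : ℕ} {v : I → F} : v ∈ lay F k ↔ ∀ i, k ≤ wt i → v i = 0 := Iff.rfl

theorem wt_lt : ∀ i : I, wt i < 5 := by decide

theorem lay_five (v : I → F) : v ∈ lay F 5 := fun i hi => absurd hi (by have := wt_lt i; omega)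

theorem lay_zero {v : I → F} (h : v ∈ lay F 0) : v = 0 := funext fun i => h i (Nat.zero_le _)

theorem lay_mono {j k : ℕ} (h : j ≤ k) : lay F j ≤ lay F k := fun _ hv i hi => hv i (h.trans hi)

theorem single_mem_lay (i : I) : (Pi.single i 1 : I → F) ∈ lay F (wt i + 1) := fun j hj =>
  Pi.single_eq_of_ne (fun e => absurd hj (by rw [e]; omega)) 1

/-- An isometry acting as the scalar `κ` on every layer. -/
def LowerBy (κ : F) (f : O (plusQ 4 F)) : Prop :=
  ∀ k v, v ∈ lay F (k + 1) → app f v - κ • v ∈ lay F k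

theorem lowerBy_of_coord {f : O (plusQ 4 F)}
    (h : ∀ v i, (∀ j, wt i < wt j → v j = 0) → app f v i = v i) : LowerBy 1 f := fun k v hv i hi => by
  rw [Pi.sub_apply, one_smul, h v i (fun j hj => hv j (by omega)), sub_self]

theorem LowerBy.mem {κ : F} {f : O (plusQ 4 F)} (h : LowerBy κ f) {k : ℕ} {v : I → F} (hv : v ∈ lay F k) :
    app f v ∈ lay F k := by
  rcases k with _ | k
  · rw [lay_zero hv, map_zero]; exact Submodule.zero_mem _
  · have e : app f v = app f v - κ • v + κ • v := by abel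
    rw [e]
    exact Submodule.add_mem _ (lay_mono (Nat.le_succ k) (h k v hv)) (Submodule.smul_mem _ κ hv)

theorem LowerBy.mul {f g : O (plusQ 4 F)} {κ μ : F} (hf : LowerBy κ f) (hg : LowerBy μ g) :
    LowerBy (κ * μ) (f * g) := fun k v hv => by
  have h1 := hg k v hv
  have e : app (f * g) v - (κ * μ) • v = app f (app g v - μ • v) + μ • (app f v - κ • v) := by
    rw [app_mul, map_sub, map_smul, smul_sub, smul_smul, mul_comm μ κ]; abel
  rw [e]
  exact Submodule.add_mem _ (hf.mem h1) (Submodule.smul_mem _ μ (hf k v hv))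

theorem lowerBy_one : LowerBy (1 : F) (1 : O (plusQ 4 F)) := fun k v _ i hi => by simp

/-- The unipotent isometries of the filtration. -/
def uniMonoid (F : Type*) [Field F] [Fintype F] : Submonoid (O (plusQ 4 F)) where
  carrier := {f | LowerBy 1 f}
  one_mem' := lowerBy_one
  mul_mem' := fun {a b} (ha : LowerBy 1 a) (hb : LowerBy 1 b) => by simpa using ha.mul hb

/-- The group of unipotent isometries of the filtration. -/
noncomputable def uni (F : Type*) [Field F] [Fintype F] : Subgroup (O (plusQ 4 F)) where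
  __ := uniMonoid F
  inv_mem' {f} hf := by
    obtain ⟨n, hn, e⟩ := isOfFinOrder_iff_pow_eq_one.1 (isOfFinOrder_of_finite f)
    have : f⁻¹ = f ^ (n - 1) := by
      rw [inv_eq_iff_mul_eq_one, ← pow_succ', Nat.sub_add_cancel hn, e]
    show f⁻¹ ∈ uniMonoid F
    rw [this]
    exact pow_mem (show f ∈ uniMonoid F from hf) _

theorem mem_uni {f : O (plusQ 4 F)} : f ∈ uni F ↔ LowerBy 1 f := Iff.rfl

/-! ### Root elements in the unipotent group -/

theorem rt_mem_uni : ∀ (n : Fin 24), n ∈ ([0, 1, 2, 3, 4, 5, 12, 14, 15, 20, 21] : List (Fin 24)) →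
    ∀ t : F, rt n t ∈ uni F := by
  intro n hn t
  refine lowerBy_of_coord fun v i h => ?_
  simp only [List.mem_cons, List.not_mem_nil, or_false] at hn
  rcases hn with rfl | rfl | rfl | rfl | rfl | rfl | rfl | rfl | rfl | rfl | rfl <;>
    first
      | rw [app_rt0] | rw [app_rt1] | rw [app_rt2] | rw [app_rt3] | rw [app_rt4] | rw [app_rt5] | rw [app_rt12]
      | rw [app_rt14] | rw [app_rt15] | rw [app_rt20] | rw [app_rt21]
  all_goals rcases i with i | i <;> fin_cases i <;>
    simp [wt, Fin.forall_fin_succ] at h ⊢ <;> simp [h]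

theorem uEl_mem_uni (σ : F ≃+* F) (t : F) : uEl σ t ∈ uni F :=
  mul_mem (mul_mem (rt_mem_uni 4 (by simp) _) (rt_mem_uni 12 (by simp) _)) (rt_mem_uni 5 (by simp) _)

theorem zEl_mem_uni (p q : F) : zEl p q ∈ uni F :=
  mul_mem (rt_mem_uni 0 (by simp) _) (rt_mem_uni 2 (by simp) _)

theorem vI_mem_uni (σ : F ≃+* F) (s t : F) : vI σ s t ∈ uni F :=
  mul_mem (mul_mem (mul_mem (mul_mem (mul_mem (rt_mem_uni 1 (by simp) _) (rt_mem_uni 20 (by simp) _))
    (rt_mem_uni 21 (by simp) _)) (rt_mem_uni 3 (by simp) _)) (rt_mem_uni 14 (by simp) _))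
    (rt_mem_uni 15 (by simp) _)

theorem vM_mem_uni (a b : F) : vM a b ∈ uni F :=
  mul_mem (mul_mem (mul_mem (mul_mem (mul_mem (mul_mem (mul_mem (mul_mem (rt_mem_uni 1 (by simp) _)
    (rt_mem_uni 3 (by simp) _)) (rt_mem_uni 14 (by simp) _)) (rt_mem_uni 20 (by simp) _))
    (rt_mem_uni 15 (by simp) _)) (rt_mem_uni 21 (by simp) _)) (rt_mem_uni 5 (by simp) _))
    (rt_mem_uni 0 (by simp) _)) (rt_mem_uni 2 (by simp) _)

/-! ### Unipotent elements have prime power order -/

theorem app_pow (f : O (plusQ 4 F)) (n : ℕ) : app (f ^ n) = (app f : Module.End F (I → F)) ^ n := by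
  induction n with
  | zero => exact LinearMap.ext fun v => app_one v
  | succ n ih => exact LinearMap.ext fun v => by rw [pow_succ, app_mul, pow_succ, Module.End.mul_apply, ih]

theorem LowerBy.pow_char {κ : F} {f : O (plusQ 4 F)} (h : LowerBy κ f) {r : ℕ} [Fact r.Prime] [CharP F r]
    (v : I → F) : app (f ^ r ^ 3) v = κ ^ r ^ 3 • v := by
  set N : Module.End F (I → F) := app f - κ • 1 with hN
  have hstep : ∀ j k : ℕ, ∀ w ∈ lay F (j + k), (N ^ j) w ∈ lay F k := by
    intro j
    induction j with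
    | zero => intro k w hw; simpa using hw
    | succ j ih =>
      intro k w hw
      rw [pow_succ, Module.End.mul_apply]
      refine ih k _ ?_
      have := h (j + k) w (by rwa [show j + k + 1 = j + 1 + k by omega])
      simpa [hN] using this
  have h5 : N ^ 5 = 0 := LinearMap.ext fun w => lay_zero (hstep 5 0 w (lay_five w))
  have hr : 5 ≤ r ^ 3 := le_trans (by norm_num : 5 ≤ 2 ^ 3) (Nat.pow_le_pow_left (Fact.out : r.Prime).two_le 3)
  have : CharP (Module.End F (I → F)) r :=
    charP_of_injective_algebraMap (algebraMap F (Module.End F (I → F))).injective r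
  have e : (app f : Module.End F (I → F)) = N + κ • 1 := by rw [hN]; abel
  rw [app_pow, e, add_pow_char_pow_of_commute r 3 ((Commute.one_right N).smul_right κ),
    pow_eq_zero_of_le hr h5, zero_add, smul_pow, one_pow]
  rfl

/-! ### The stabiliser of the base point -/

variable (D : Twist F)

theorem Twist.semi_e0 : semi D.φ.1 (e0 F) = e0 F := D.fix0

theorem Twist.semi_f0 : semi D.φ.1 (f0 F) = f0 F := D.fix4

/-- The two other members of an invariant triple at a vector fixed by the twist. -/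
theorem Twist.conj_fix {f : O (plusQ 4 F)} {u : I → F} (hu : semi D.φ.1 u = u) {κ : F}
    (h : app f u = κ • u) (y : ↥(semiGroup (plusQ 4 F))) (hy : semi y.1 u = u) :
    ∃ κ' : F, app (conjO (plusQ 4 F) y f) u = κ' • u := by
  refine ⟨y.1.right κ, ?_⟩
  conv_lhs => rw [← hy]
  rw [semi_app_conj, h, Cfsg.Agent.GammaO57.semi_smul, hy]

theorem rel_prod {f g h : O (plusQ 4 F)} (e : Rel f g h) (a b : I → F) :
    prod (app f a) (app g b) = app h (prod a b) := by
  refine sub_eq_zero.1 ((plusQ_nondegenerate 4).1 _ fun z => ?_)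
  obtain ⟨w, rfl⟩ : ∃ w, app h w = z := ⟨_, app_app_inv h z⟩
  show polar (plusQ 4 F) _ _ = 0
  rw [polar_sub_left, polar_prod, polar_app, polar_prod, e, sub_self]

theorem prod_e0_left (b : I → F) : prod (e0 F) b = Sum.elim ![b (.inr 3), -b (.inr 2), b (.inr 1), 0]
    ![0, 0, 0, -b (.inr 0)] := by
  rw [prod_eq]; funext j; rcases j with i | i <;> fin_cases i <;> simp

theorem prod_e0_right (a : I → F) : prod a (e0 F) = Sum.elim
    ![-a (.inl 3), a (.inr 2), -a (.inr 1), a (.inr 0)] ![0, 0, 0, 0] := by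
  rw [prod_eq]; funext j; rcases j with i | i <;> fin_cases i <;> simp

theorem prod_f0_left (b : I → F) : prod (f0 F) b = Sum.elim ![0, 0, 0, b (.inl 0)]
    ![-b (.inl 3), b (.inl 2), -b (.inl 1), 0] := by
  rw [prod_eq]; funext j; rcases j with i | i <;> fin_cases i <;> simp

theorem prod_f0_right (a : I → F) : prod a (f0 F) = Sum.elim ![0, 0, 0, 0]
    ![a (.inr 3), -a (.inl 2), a (.inl 1), -a (.inl 0)] := by
  rw [prod_eq]; funext j; rcases j with i | i <;> fin_cases i <;> simp

/-- An element stabilising a base line stabilises the two attached singular solids. -/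
theorem rel_preserve {f g h : O (plusQ 4 F)} (e : Rel f g h) {u : I → F} {κ κ' : F}
    (hf : app f u = κ • u) (hg : app g u = κ' • u) :
    (∀ b, ∃ b', app h (prod u b) = prod u b') ∧ (∀ a, ∃ a', app h (prod a u) = prod a' u) := by
  refine ⟨fun b => ⟨κ • app g b, ?_⟩, fun a => ⟨κ' • app f a, ?_⟩⟩
  · rw [← rel_prod e, hf, prod_smul_left, prod_smul_right]
  · rw [← rel_prod e, hg, prod_smul_left, prod_smul_right]

theorem mem_W {v : I → F} (h : ∀ i, v (.inr i) = 0) : ∃ a, prod a (e0 F) = v :=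
  ⟨Sum.elim ![0, 0, 0, -v (.inl 0)] ![v (.inl 3), -v (.inl 2), v (.inl 1), 0], by
    rw [prod_e0_right]; funext j; rcases j with i | i <;> fin_cases i <;> simp [h]⟩

theorem mem_W' {v : I → F} (h : v (.inl 3) = 0) (h0 : v (.inr 0) = 0) (h1 : v (.inr 1) = 0)
    (h2 : v (.inr 2) = 0) : ∃ b, prod (e0 F) b = v :=
  ⟨Sum.elim 0 ![-v (.inr 3), v (.inl 2), -v (.inl 1), v (.inl 0)], by
    rw [prod_e0_left]; funext j; rcases j with i | i <;> fin_cases i <;> simp [h, h0, h1, h2]⟩

theorem mem_Wm {v : I → F} (h : ∀ i, v (.inl i) = 0) : ∃ a, prod a (f0 F) = v :=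
  ⟨Sum.elim ![-v (.inr 3), v (.inr 2), -v (.inr 1), 0] ![0, 0, 0, v (.inr 0)], by
    rw [prod_f0_right]; funext j; rcases j with i | i <;> fin_cases i <;> simp [h]⟩

theorem mem_Wm' {v : I → F} (h : v (.inr 3) = 0) (h0 : v (.inl 0) = 0) (h1 : v (.inl 1) = 0)
    (h2 : v (.inl 2) = 0) : ∃ b, prod (f0 F) b = v :=
  ⟨Sum.elim ![v (.inl 3), -v (.inr 2), v (.inr 1), -v (.inr 0)] 0, by
    rw [prod_f0_left]; funext j; rcases j with i | i <;> fin_cases i <;> simp [h, h0, h1, h2]⟩

/-- The facts about an element of the stabiliser of the base point. -/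
structure Keeps (f : O (plusQ 4 F)) : Prop where
  W : ∀ v : I → F, (∀ i, v (.inr i) = 0) → ∀ i, app f v (.inr i) = 0
  W' : ∀ v : I → F, v (.inl 3) = 0 → v (.inr 0) = 0 → v (.inr 1) = 0 → v (.inr 2) = 0 →
    app f v (.inl 3) = 0 ∧ app f v (.inr 0) = 0 ∧ app f v (.inr 1) = 0 ∧ app f v (.inr 2) = 0

/-- The facts about an element of the stabiliser of the opposite point. -/
structure KeepsM (f : O (plusQ 4 F)) : Prop where
  W : ∀ v : I → F, (∀ i, v (.inl i) = 0) → ∀ i, app f v (.inl i) = 0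
  W' : ∀ v : I → F, v (.inr 3) = 0 → v (.inl 0) = 0 → v (.inl 1) = 0 → v (.inl 2) = 0 →
    app f v (.inr 3) = 0 ∧ app f v (.inl 0) = 0 ∧ app f v (.inl 1) = 0 ∧ app f v (.inl 2) = 0

theorem keeps_third {f g h : O (plusQ 4 F)} (e : Rel f g h) {κ κ' : F} (hf : app f (e0 F) = κ • e0 F)
    (hg : app g (e0 F) = κ' • e0 F) : Keeps h := by
  obtain ⟨p1, p2⟩ := rel_preserve e hf hg
  constructor
  · intro v hv i
    obtain ⟨a, rfl⟩ := mem_W hv
    obtain ⟨a', ha'⟩ := p2 a
    rw [ha', prod_e0_right]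
    fin_cases i <;> simp
  · intro v h3 h0 h1 h2
    obtain ⟨b, rfl⟩ := mem_W' h3 h0 h1 h2
    obtain ⟨b', hb'⟩ := p1 b
    rw [hb', prod_e0_left]
    simp

theorem keepsM_third {f g h : O (plusQ 4 F)} (e : Rel f g h) {κ κ' : F} (hf : app f (f0 F) = κ • f0 F)
    (hg : app g (f0 F) = κ' • f0 F) : KeepsM h := by
  obtain ⟨p1, p2⟩ := rel_preserve e hf hg
  constructor
  · intro v hv i
    obtain ⟨a, rfl⟩ := mem_Wm hv
    obtain ⟨a', ha'⟩ := p2 a
    rw [ha', prod_f0_right]
    fin_cases i <;> simp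
  · intro v h3 h0 h1 h2
    obtain ⟨b, rfl⟩ := mem_Wm' h3 h0 h1 h2
    obtain ⟨b', hb'⟩ := p1 b
    rw [hb', prod_f0_left]
    simp

theorem Twist.keeps {f : O (plusQ 4 F)} (hf : f ∈ D.fix) {κ : F} (h : app f (e0 F) = κ • e0 F) : Keeps f := by
  obtain ⟨κ₁, h1⟩ := D.conj_fix D.semi_e0 h D.φ⁻¹ (semi_fix_of_order D D.semi_e0)
  obtain ⟨κ₂, h2⟩ := D.conj_fix D.semi_e0 h (D.φ⁻¹ * D.φ⁻¹) (by
    show semi (D.φ⁻¹.1 * D.φ⁻¹.1) _ = _
    rw [semi_mul, semi_fix_of_order D D.semi_e0, semi_fix_of_order D D.semi_e0])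
  exact keeps_third hf.2.cycle h1 h2

theorem Twist.keepsM {f : O (plusQ 4 F)} (hf : f ∈ D.fix) {κ : F} (h : app f (f0 F) = κ • f0 F) : KeepsM f := by
  obtain ⟨κ₁, h1⟩ := D.conj_fix D.semi_f0 h D.φ⁻¹ (semi_fix_of_order D D.semi_f0)
  obtain ⟨κ₂, h2⟩ := D.conj_fix D.semi_f0 h (D.φ⁻¹ * D.φ⁻¹) (by
    show semi (D.φ⁻¹.1 * D.φ⁻¹.1) _ = _
    rw [semi_mul, semi_fix_of_order D D.semi_f0, semi_fix_of_order D D.semi_f0])
  exact keepsM_third hf.2.cycle h1 h2

theorem polar_e0 (v : I → F) : polar (plusQ 4 F) v (e0 F) = v (.inr 0) := by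
  rw [polar_plusQ]; simp [Pi.single_apply, Fin.sum_univ_four]

theorem lay_one {v : I → F} (hv : v ∈ lay F 1) : v = v (.inl 0) • e0 F := by
  funext j
  rcases j with i | i <;> fin_cases i <;> simp <;> exact hv _ (by decide)

/-- The stabiliser of the base line stabilises the filtration. -/
theorem Twist.lay_stable {f : O (plusQ 4 F)} (hf : f ∈ D.fix) {κ : F} (h : app f (e0 F) = κ • e0 F) {k : ℕ}
    {v : I → F} (hv : v ∈ lay F k) : app f v ∈ lay F k := by
  have K := D.keeps hf h
  rcases Nat.lt_or_ge k 5 with hk | hk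
  swap
  · exact lay_mono hk (lay_five _)
  interval_cases k
  · rw [lay_zero hv, map_zero]; exact Submodule.zero_mem _
  · rw [lay_one hv, map_smul, h, smul_smul]
    exact Submodule.smul_mem _ _ (single_mem_lay (F := F) (Sum.inl 0))
  · intro i hi
    have a1 := K.W v (fun j => hv _ (by revert j; decide))
    obtain ⟨b1, b2, b3, b4⟩ :=
      K.W' v (hv _ (by decide)) (hv _ (by decide)) (hv _ (by decide)) (hv _ (by decide))
    rcases i with i | i
    · fin_cases i <;> first | exact b1 | exact absurd hi (by decide)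
    · exact a1 i
  · intro i hi
    have e : v = Function.update v (Sum.inr 3) 0 + v (.inr 3) • Pi.single (Sum.inr 3) 1 := by
      funext j; rcases eq_or_ne j (Sum.inr 3) with rfl | hj <;> simp [*]
    have a1 := K.W (Function.update v (Sum.inr 3) 0) (fun j => by
      rcases eq_or_ne j 3 with rfl | hj
      · simp
      · rw [Function.update_of_ne (by simp [hj])]
        exact hv _ (by revert hj; revert j; decide))
    obtain ⟨b1, b2, b3, b4⟩ :=
      K.W' (Pi.single (Sum.inr 3) 1) (by simp) (by simp) (by simp) (by simp)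
    rw [e, map_add, map_smul]
    rcases i with i | i
    · exact absurd hi (by revert i; decide)
    · rw [Pi.add_apply, a1 i, Pi.smul_apply, zero_add]
      fin_cases i <;> first | (simp [b2, b3, b4]; done) | exact absurd hi (by decide)
  · intro i hi
    obtain rfl : i = .inr 0 := by revert hi; revert i; decide
    have h0 : v (.inr 0) = 0 := hv _ hi
    have hκ : κ ≠ 0 := fun e => by
      have := congrFun (app_injective f (h.trans (by rw [e, zero_smul, map_zero]))) (.inl 0)
      simp at this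
    have h1 := polar_app f v (e0 F)
    rw [h, polar_smul_right, polar_e0, polar_e0, h0, smul_eq_mul, mul_eq_zero] at h1
    exact h1.resolve_left hκ

/-- The unipotent invariant isometries. -/
noncomputable def Twist.rad : Subgroup (O (plusQ 4 F)) := D.fix ⊓ uni F

theorem Twist.rad_e0 {g : O (plusQ 4 F)} (hg : g ∈ D.rad) : app g (e0 F) = e0 F := by
  have h := lay_zero (hg.2 0 (e0 F) (single_mem_lay (F := F) (Sum.inl 0)))
  rwa [one_smul, sub_eq_zero] at h

theorem Twist.rad_conj {f g : O (plusQ 4 F)} (hf : f ∈ D.fix) {κ : F} (h : app f (e0 F) = κ • e0 F)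
    (hg : g ∈ D.rad) : f * g * f⁻¹ ∈ D.rad := by
  refine Subgroup.mem_inf.2 ⟨mul_mem (mul_mem hf hg.1) (D.fix.inv_mem hf), fun k v hv => ?_⟩
  have hκ : κ ≠ 0 := fun e => by
    have := congrFun (app_injective f (h.trans (by rw [e, zero_smul, map_zero]))) (.inl 0)
    simp at this
  have hi : app f⁻¹ (e0 F) = κ⁻¹ • e0 F := by
    conv_lhs => rw [← inv_smul_smul₀ hκ (e0 F), ← h, map_smul, app_inv_app]
  have hw := D.lay_stable (inv_mem hf) hi hv
  have e : app (f * g * f⁻¹) v - (1 : F) • v = app f (app g (app f⁻¹ v) - (1 : F) • app f⁻¹ v) := by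
    rw [app_mul, app_mul, map_sub, map_smul, app_app_inv]
  rw [e]
  exact D.lay_stable hf h (hg.2 k _ hw)

theorem Twist.scalar_eq_one {f : O (plusQ 4 F)} (hf : f ∈ D.fix) {l : F} (hl : l * l = 1)
    (h : ∀ v, app f v = l • v) : f = 1 := by
  have h2 := hf.2 (e0 F) (f0 F) (Pi.single (.inl 3) 1)
  rw [conjO_scalar _ hl h, conjO_scalar _ hl h, h, h, h, tri_smul, tri_eq] at h2
  have hl1 : l = 1 := by
    simp [hl] at h2
    exact h2
  exact ext_app fun v => by rw [h, hl1, one_smul, app_one]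

/-- An invariant unipotent isometry is determined by the image of the opposite base point. -/
theorem Twist.rad_ext {g h : O (plusQ 4 F)} (hg : g ∈ D.rad) (hh : h ∈ D.rad)
    (e : app g (f0 F) = app h (f0 F)) : g = h := by
  suffices key : ∀ m ∈ D.rad, app m (f0 F) = f0 F → m = 1 by
    exact (inv_mul_eq_one.1 (key _ (mul_mem (inv_mem hh) hg) (by rw [app_mul, e, app_inv_app]))).symm
  intro m hm hm0
  have K := D.keepsM hm.1 (κ := 1) (by rw [hm0, one_smul])
  have hbas : ∀ i : I, app m (Pi.single i 1) = Pi.single i 1 := by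
    intro i
    have hlow := hm.2 (wt i) _ (single_mem_lay (F := F) i)
    rw [one_smul] at hlow
    rw [← sub_eq_zero]
    funext j
    by_cases hj : wt i ≤ wt j
    · exact hlow j hj
    rw [Pi.sub_apply, Pi.single_eq_of_ne (fun e' => hj (le_of_eq (congrArg wt e').symm)) 1, sub_zero, Pi.zero_apply]
    by_cases hj0 : j = .inl 0
    · subst hj0
      have hp : ∀ v : I → F, polar (plusQ 4 F) v (f0 F) = v (.inl 0) := fun v => by
        rw [polar_plusQ]; simp [Pi.single_apply, Fin.sum_univ_four]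
      have h1 := polar_app m (Pi.single i 1) (f0 F)
      rw [hm0, hp, hp] at h1
      rw [h1, Pi.single_eq_of_ne (fun e' => hj (le_of_eq (congrArg wt e').symm)) 1]
    · rcases i with i | i
      · fin_cases i <;> simp [wt] at hj ⊢
        all_goals
          rcases j with j | j <;> fin_cases j <;> simp [wt] at hj hj0 ⊢ <;>
            simp [(K.W' (Pi.single (.inl 3) 1) (by simp) (by simp) (by simp) (by simp)).2]
      · have hW := K.W (Pi.single (.inr i) 1) (fun k => by simp)
        rcases j with j | j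
        · exact hW j
        · revert hj
          fin_cases i <;> fin_cases j <;> simp [wt] <;>
            simp [(K.W' (Pi.single (.inr 1) 1) (by simp) (by simp) (by simp) (by simp)).1,
              (K.W' (Pi.single (.inr 2) 1) (by simp) (by simp) (by simp) (by simp)).1, hm0]
  have hlin : app m = LinearMap.id :=
    (Pi.basisFun F I).ext fun i => by rw [Pi.basisFun_apply]; exact hbas i
  exact ext_app fun v => by rw [hlin, app_one]; rfl

/-- The first-layer coordinates are additive. -/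
theorem Twist.coord_mul {g h : O (plusQ 4 F)} (hg : g ∈ D.rad) (hh : h ∈ D.rad) (j : I) (hj : wt j = 3) :
    app (g * h) (f0 F) j = app g (f0 F) j + app h (f0 F) j := by
  have h1 : app h (f0 F) - (1 : F) • f0 F ∈ lay F 4 := hh.2 4 _ (lay_five _)
  have h2 := hg.2 3 _ h1 j hj.ge
  rw [Pi.sub_apply, one_smul, one_smul, map_sub, Pi.sub_apply, Pi.sub_apply, ← app_mul] at h2
  have h0 : (f0 F) j = 0 := Pi.single_eq_of_ne (fun e => by rw [e] at hj; exact absurd hj (by decide)) 1
  linear_combination h2 - h0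

theorem app_f0_top {g : O (plusQ 4 F)} (hg : g ∈ uni F) : app g (f0 F) (.inr 0) = 1 := by
  have h := hg 4 _ (lay_five (f0 F)) (.inr 0) le_rfl
  rw [Pi.sub_apply, one_smul, sub_eq_zero] at h
  rw [h]; simp

end CfsgLib.TriNorm
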