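import Cfsg.Agent.Lib.POmegaBalPlus.TriAlg
import Mathlib.FieldTheory.ChevalleyWarning

/-!
An element of order three of the triality coset leaves some incident triple of singular lines invariant.
-/

set_option autoImplicit false
set_option linter.unusedSectionVars false

namespace CfsgLib.TriNorm

open Matrix QuadraticMap CfsgLib.Orth CfsgLib.FieldPOmega Cfsg.Agent.GammaO57 Cfsg.Agent.Triality57
  Cfsg.Agent.OutPlus57

variable {F : Type*} [Field F] [Fintype F]

section CW

variable {r : ℕ} [Fact r.Prime] [Algebra (ZMod r) F] {ι : Type*} [Fintype ι] [DecidableEq ι] {κ : Type*} [Fintype κ]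

/-- Few equations of low degree have a common nonzero zero over the prime field. -/
theorem exists_common_zero (P : κ → MvPolynomial ι F)
    (hdeg : Module.finrank (ZMod r) F * ∑ a, (P a).totalDegree < Fintype.card ι)
    (h0 : ∀ a, MvPolynomial.eval 0 (P a) = 0) :
    ∃ x : ι → ZMod r, x ≠ 0 ∧ ∀ a, MvPolynomial.eval (algebraMap (ZMod r) F ∘ x) (P a) = 0 := by
  classical
  set n := Module.finrank (ZMod r) F
  set b := Module.finBasis (ZMod r) F
  let f : κ × Fin n → MvPolynomial ι (ZMod r) := fun a =>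
    ∑ d ∈ (P a.1).support, MvPolynomial.monomial d (b.coord a.2 ((P a.1).coeff d))
  have heval : ∀ (x : ι → ZMod r) (a : κ × Fin n), MvPolynomial.eval x (f a) =
      b.coord a.2 (MvPolynomial.eval (algebraMap (ZMod r) F ∘ x) (P a.1)) := by
    intro x a
    rw [MvPolynomial.eval_eq (algebraMap (ZMod r) F ∘ x), map_sum, map_sum]
    refine Finset.sum_congr rfl fun d _ => ?_
    rw [MvPolynomial.eval_monomial, Finsupp.prod,
      show (∏ i ∈ d.support, (algebraMap (ZMod r) F ∘ x) i ^ d i) = algebraMap (ZMod r) F (∏ i ∈ d.support, x i ^ d i) by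
        rw [map_prod]; exact Finset.prod_congr rfl fun i _ => (map_pow _ _ _).symm,
      ← Algebra.commutes, ← Algebra.smul_def, map_smul, smul_eq_mul, mul_comm]
  have hf : (∑ a, (f a).totalDegree) < Fintype.card ι := by
    refine lt_of_le_of_lt ?_ hdeg
    rw [Fintype.sum_prod_type, Finset.mul_sum]
    refine Finset.sum_le_sum fun a _ => ?_
    refine le_trans (Finset.sum_le_card_nsmul _ _ ((P a).totalDegree) fun k _ => ?_) (by simp)
    refine (MvPolynomial.totalDegree_finset_sum _ _).trans (Finset.sup_le fun d hd => ?_)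
    exact (MvPolynomial.totalDegree_monomial_le d _).trans (MvPolynomial.le_totalDegree hd)
  have hdvd := char_dvd_card_solutions_of_sum_lt r hf
  have h0' : ∀ a ∈ Finset.univ, MvPolynomial.eval (0 : ι → ZMod r) (f a) = 0 := fun a _ => by
    rw [heval, show algebraMap (ZMod r) F ∘ (0 : ι → ZMod r) = 0 from funext fun i => map_zero _, h0, map_zero]
  let z : { x : ι → ZMod r // ∀ a ∈ Finset.univ, MvPolynomial.eval x (f a) = 0 } := ⟨0, h0'⟩
  have hdvd' : r ∣ Nat.card { x : ι → ZMod r // ∀ a ∈ Finset.univ, MvPolynomial.eval x (f a) = 0 } := by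
    rw [Nat.card_eq_fintype_card]; convert hdvd
  have : Nonempty { x : ι → ZMod r // ∀ a ∈ Finset.univ, MvPolynomial.eval x (f a) = 0 } := ⟨z⟩
  have h1 : 1 < Nat.card { x : ι → ZMod r // ∀ a ∈ Finset.univ, MvPolynomial.eval x (f a) = 0 } :=
    lt_of_lt_of_le (Fact.out : r.Prime).one_lt (Nat.le_of_dvd Nat.card_pos hdvd')
  have : Nontrivial { x : ι → ZMod r // ∀ a ∈ Finset.univ, MvPolynomial.eval x (f a) = 0 } :=
    Finite.one_lt_card_iff_nontrivial.1 h1
  obtain ⟨⟨x, hx⟩, hne⟩ := exists_ne z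
  refine ⟨x, fun e => hne (Subtype.ext e), fun a => ?_⟩
  exact b.forall_coord_eq_zero_iff.1 fun k => by rw [← heval x (a, k)]; exact hx _ (Finset.mem_univ _)

end CW

/-- An incident invariant triple of lines. -/
structure Inv (P : SS F) (a b c : I → F) : Prop where
  a0 : a ≠ 0
  b0 : b ≠ 0
  c0 : c ≠ 0
  Qa : plusQ 4 F a = 0
  Qb : plusQ 4 F b = 0
  Qc : plusQ 4 F c = 0
  ab : prod a b = 0
  bc : prod b c = 0
  ca : prod c a = 0
  la : ∃ k : F, semi P.1.1 b = k • a
  lb : ∃ k : F, semi P.2.1.1 c = k • b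
  lc : ∃ k : F, semi P.2.2.1 a = k • c

theorem semi_ne_zero {x : GLS I F} {v : I → F} (h : v ≠ 0) : semi x v ≠ 0 := fun e => h (by
  rw [← semi_inv_semi x v, e]
  exact semi_smul_zero _)

theorem Q_semi_zero (y : ↥(semiGroup (plusQ 4 F))) {v : I → F} (h : plusQ 4 F v = 0) :
    plusQ 4 F (semi y.1 v) = 0 := by
  obtain ⟨μ, hμ⟩ := y.2
  rw [hμ, h, map_zero, mul_zero]

set_option maxHeartbeats 1600000 in
/-- A triple whose cyclic product is scalar has an invariant incident triple of lines. -/
theorem exists_inv {r : ℕ} [Fact r.Prime] [CharP F r] {P : SS F} (hP : P ∈ tripSub F) {k₀ : F} (hk₀ : k₀ ≠ 0)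
    (hscal : ∀ v, semi P.1.1 (semi P.2.1.1 (semi P.2.2.1 v)) = k₀ • v) : ∃ a b c, Inv P a b c := by
  classical
  let : Algebra (ZMod r) F := ZMod.algebra F r
  set n := Module.finrank (ZMod r) F
  set bs := Module.finBasis (ZMod r) F
  let L : GLS I F → I → MvPolynomial (I × Fin n) F := fun S i =>
    ∑ e, MvPolynomial.C (semi S (Pi.single e.1 (bs e.2)) i) * MvPolynomial.X e
  let vv : (I × Fin n → ZMod r) → I → F := fun x => ∑ e, x e • (Pi.single e.1 (bs e.2) : I → F)
  have hev : ∀ S x i, MvPolynomial.eval (algebraMap (ZMod r) F ∘ x) (L S i) = semi S (vv x) i := by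
    intro S x i
    let Sh : (I → F) →+ (I → F) := AddMonoidHom.mk' (semi S) (Cfsg.Agent.GammaO57.semi_add S)
    have : semi S (vv x) = ∑ e, x e • semi S (Pi.single e.1 (bs e.2)) := by
      show Sh _ = _
      rw [map_sum]
      refine Finset.sum_congr rfl fun e _ => ?_
      show semi S (x e • _) = _
      rw [← algebraMap_smul F (x e), Cfsg.Agent.GammaO57.semi_smul,
        show S.right (algebraMap (ZMod r) F (x e)) = algebraMap (ZMod r) F (x e) from
          RingHom.congr_fun (Subsingleton.elim (S.right.toRingHom.comp (algebraMap (ZMod r) F))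
            (algebraMap (ZMod r) F)) (x e), algebraMap_smul]
    rw [this, map_sum, Finset.sum_apply]
    refine Finset.sum_congr rfl fun e _ => ?_
    rw [map_mul, MvPolynomial.eval_C, MvPolynomial.eval_X, Pi.smul_apply, Algebra.smul_def, mul_comm]
    rfl
  have hdeg : ∀ S i, (L S i).totalDegree ≤ 1 := fun S i =>
    (MvPolynomial.totalDegree_finset_sum _ _).trans (Finset.sup_le fun e _ =>
      (MvPolynomial.totalDegree_mul _ _).trans (by rw [MvPolynomial.totalDegree_C, MvPolynomial.totalDegree_X]))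
  set S3 := P.2.2.1
  set S23 := P.2.1.1 * P.2.2.1
  set pQ : MvPolynomial (I × Fin n) F := ∑ i : Fin 4, L 1 (.inl i) * L 1 (.inr i) with hpQ
  set pT : MvPolynomial (I × Fin n) F :=
    ∑ a : I, ∑ c : I, MvPolynomial.C (sgn a c : F) * L 1 a * L S23 c * L S3 (tgt a c) with hpT
  have h1 : pQ.totalDegree ≤ 2 := by
    rw [hpQ]
    refine (MvPolynomial.totalDegree_finset_sum _ _).trans (Finset.sup_le fun i _ => ?_)
    exact (MvPolynomial.totalDegree_mul _ _).trans (add_le_add (hdeg _ _) (hdeg _ _))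
  have h2 : pT.totalDegree ≤ 3 := by
    rw [hpT]
    refine (MvPolynomial.totalDegree_finset_sum _ _).trans (Finset.sup_le fun a _ => ?_)
    refine (MvPolynomial.totalDegree_finset_sum _ _).trans (Finset.sup_le fun c _ => ?_)
    have e1 := MvPolynomial.totalDegree_mul (MvPolynomial.C (sgn a c : F) * L 1 a * L S23 c) (L S3 (tgt a c))
    have e2 := MvPolynomial.totalDegree_mul (MvPolynomial.C (sgn a c : F) * L 1 a) (L S23 c)
    have e3 := MvPolynomial.totalDegree_mul (MvPolynomial.C (sgn a c : F)) (L 1 a)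
    have e0 : (MvPolynomial.C (sgn a c : F) : MvPolynomial (I × Fin n) F).totalDegree = 0 :=
      MvPolynomial.totalDegree_C _
    have := hdeg 1 a
    have := hdeg S23 c
    have := hdeg S3 (tgt a c)
    omega
  let polys : Unit ⊕ Unit → MvPolynomial (I × Fin n) F := Sum.elim (fun _ => pQ) (fun _ => pT)
  have hsum : n * ∑ a, (polys a).totalDegree < Fintype.card (I × Fin n) := by
    have hn : 0 < n := Module.finrank_pos
    have : ∑ a, (polys a).totalDegree = pQ.totalDegree + pT.totalDegree := by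
      simp [polys, Fintype.sum_sum_type]
    rw [this, Fintype.card_prod, Fintype.card_fin]
    simp only [Fintype.card_sum, Fintype.card_fin]
    nlinarith
  obtain ⟨x, hx, hz⟩ := exists_common_zero (r := r) polys hsum (fun a => by
    have e : ∀ S i, MvPolynomial.constantCoeff (L S i) = 0 := fun S i => by simp [L]
    rcases a with a | a <;> simp [polys, hpQ, hpT, e])
  set a := vv x with ha
  have ha0 : a ≠ 0 := by
    intro e
    apply hx
    funext ⟨i, j⟩
    have h1 := congrFun e i
    simp only [a, vv, Finset.sum_apply, Pi.smul_apply, Pi.zero_apply] at h1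
    rw [Fintype.sum_prod_type, Finset.sum_eq_single i (fun i' _ hi => by simp [Ne.symm hi]) (by simp)] at h1
    simp only [Pi.single_eq_same] at h1
    exact Fintype.linearIndependent_iff.1 bs.linearIndependent (fun j => x (i, j)) h1 j
  have hQa : plusQ 4 F a = 0 := by
    have := hz (.inl ())
    simp only [polys, Sum.elim_inl, hpQ, map_sum, map_mul, hev, semi_one] at this
    rw [plusQ_coe]
    simpa [Cfsg.quadFormPlus] using this
  set c := semi S3 a
  set b := semi P.2.1.1 c
  have htri : tri a b c = 0 := by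
    have := hz (.inr ())
    simp only [polys, Sum.elim_inr, hpT, map_sum, map_mul, MvPolynomial.eval_C, hev,
      semi_one] at this
    rw [show semi S23 (vv x) = b from semi_mul _ _ _] at this
    exact this
  have hc0 : c ≠ 0 := semi_ne_zero ha0
  have hQc : plusQ 4 F c = 0 := Q_semi_zero _ hQa
  have hb0 : b ≠ 0 := semi_ne_zero hc0
  have hQb : plusQ 4 F b = 0 := Q_semi_zero _ hQc
  have hb : semi P.1.1 b = k₀ • a := hscal a
  obtain ⟨k1, e1⟩ := prod_equivariant hP
  obtain ⟨k2, e2⟩ := prod_equivariant (shift_mem hP)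
  obtain ⟨k3, e3⟩ := prod_equivariant (shift_mem (shift_mem hP))
  have f1 : semi P.2.2.1 (prod b c) = ((k1 : F)⁻¹ * k₀) • prod a b := by
    have := e1 b c
    rw [hb, show semi P.2.1.1 c = b from rfl, prod_smul_left] at this
    rw [mul_smul, this, smul_smul, inv_mul_cancel₀ k1.ne_zero, one_smul]
  have f2 : semi P.1.1 (prod c a) = (k2 : F)⁻¹ • prod b c := by
    have h : prod b c = (k2 : F) • semi P.1.1 (prod c a) := e2 c a
    rw [h, smul_smul, inv_mul_cancel₀ k2.ne_zero, one_smul]
  have f3 : semi P.2.1.1 (prod a b) = ((k3 : F)⁻¹ * k₀) • prod c a := by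
    have h : prod (semi P.2.2.1 a) (semi P.1.1 b) = (k3 : F) • semi P.2.1.1 (prod a b) := e3 a b
    rw [hb, prod_smul_right] at h
    rw [mul_smul, show prod c a = prod (semi P.2.2.1 a) a from rfl, h, smul_smul, inv_mul_cancel₀ k3.ne_zero,
      one_smul]
  by_cases h : prod a b = 0 ∧ prod b c = 0 ∧ prod c a = 0
  · exact ⟨a, b, c, ha0, hb0, hc0, hQa, hQb, hQc, h.1, h.2.1, h.2.2, ⟨k₀, hb⟩, ⟨1, (one_smul _ _).symm⟩,
      ⟨1, (one_smul _ _).symm⟩⟩
  have i1 : prod b c = 0 → prod a b = 0 := fun e => by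
    have := f1
    rw [e, semi_smul_zero] at this
    exact (smul_eq_zero.1 this.symm).resolve_left (mul_ne_zero (inv_ne_zero k1.ne_zero) hk₀)
  have i3 : prod a b = 0 → prod c a = 0 := fun e => by
    have := f3
    rw [e, semi_smul_zero] at this
    exact (smul_eq_zero.1 this.symm).resolve_left (mul_ne_zero (inv_ne_zero k3.ne_zero) hk₀)
  have i2 : prod c a = 0 → prod b c = 0 := fun e => by
    have := f2
    rw [e, semi_smul_zero] at this
    exact (smul_eq_zero.1 this.symm).resolve_left (inv_ne_zero k2.ne_zero)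
  have n1 : prod b c ≠ 0 := fun e => h ⟨i1 e, e, i3 (i1 e)⟩
  have n2 : prod c a ≠ 0 := fun e => n1 (i2 e)
  have n3 : prod a b ≠ 0 := fun e => n2 (i3 e)
  refine ⟨prod b c, prod c a, prod a b, n1, n2, n3, by rw [Q_prod, hQb, hQc]; simp, by rw [Q_prod, hQc, hQa]; simp,
    by rw [Q_prod, hQa, hQb]; simp, ?_, ?_, ?_, ⟨_, f2⟩, ⟨_, f3⟩, ⟨_, f1⟩⟩
  · rw [prod_prod, hQc, htri, neg_zero, zero_smul, zero_smul, add_zero]
  · rw [prod_prod, hQa, tri_cycle, htri, neg_zero, zero_smul, zero_smul, add_zero]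
  · rw [prod_prod, hQb, tri_cycle, tri_cycle, htri, neg_zero, zero_smul, zero_smul, add_zero]

end CfsgLib.TriNorm
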